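import Mathlib

/-!
Involutions of S₆ and A₆.
-/

set_option autoImplicit false

namespace Cfsg.Agent.Lib.LargeFischer13

/-- every involution fails to commute with a conjugate by a three-cycle -/
theorem invol_moved : ∀ σ : Equiv.Perm (Fin 6), σ * σ = 1 → σ ≠ 1 → ∃ i j k : Fin 6, i ≠ j ∧ j ≠ k ∧
    (Equiv.swap i j * Equiv.swap j k) * σ * (Equiv.swap i j * Equiv.swap j k)⁻¹ * σ ≠
      σ * ((Equiv.swap i j * Equiv.swap j k) * σ * (Equiv.swap i j * Equiv.swap j k)⁻¹) := by
  decide +kernel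

/-- in A₆ no involution centralises an element of order three -/
theorem invol_three : ∀ σ : Equiv.Perm (Fin 6), σ * σ = 1 → σ ≠ 1 → Equiv.Perm.sign σ = 1 →
    ∀ τ : Equiv.Perm (Fin 6), τ * σ = σ * τ → τ * τ * τ = 1 → Equiv.Perm.sign τ = 1 → τ = 1 := by
  decide +kernel

end Cfsg.Agent.Lib.LargeFischer13
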