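import Cfsg.Agent.Lib.LargeFischer13.StabU
import Cfsg.Agent.Lib.LargeFischer13.SixPoints

/-!
The stabiliser of a vector in the orbit of 1701, given a normal elementary subgroup of order at least 32:
it is an extension of `2⁵` by `A₆`. Consequences for the monomial elements: a linear one has an even
permutation, a semilinear one an odd permutation, and every element outside the index-two subgroup
inverts `h`.
-/

set_option autoImplicit false
set_option linter.style.haveILetI false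
set_option linter.unusedSectionVars false

namespace Cfsg.Agent.Lib.LargeFischer13

open Model

/-- a double transposition -/
def pi01 : Equiv.Perm (Fin 6) := Equiv.swap 0 1 * Equiv.swap 2 3

/-- a three-cycle on the last four lines -/
def tri234 : Equiv.Perm (Fin 6) := Equiv.swap 2 3 * Equiv.swap 3 4

/-- the phases of a semilinear element fixing `cR` -/
def tauC : Model.Ph := fun i => if i = 0 ∨ i = 1 then 1 else 0

/-- A normal elementary subgroup of order at least 32 in the stabiliser of a singular vector. -/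
structure Big {W : Type*} [Group W] {V : Type*} [AddCommGroup V] [DistribMulAction W V]
    (D : Core W V) (x : V) (Wn : Subgroup W) : Prop where
  ne : x ≠ 0
  sing : D.q x = 0
  le : Wn ≤ MulAction.stabilizer W x
  conj : ∀ g ∈ MulAction.stabilizer W x, ∀ a ∈ Wn, g * a * g⁻¹ ∈ Wn
  sq : ∀ a ∈ Wn, a * a = 1
  card : 32 ≤ Nat.card Wn

namespace Big

variable {W : Type*} [Group W] [Finite W] {V : Type*} [AddCommGroup V] [Finite V]
  [DistribMulAction W V] {D : Core W V} {x : V} {Wn : Subgroup W}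

theorem comm (hB : Big D x Wn) {a b : W} (ha : a ∈ Wn) (hb : b ∈ Wn) : a * b = b * a := by
  have hi : ∀ a ∈ Wn, a⁻¹ = a := fun a ha => inv_eq_of_mul_eq_one_right (hB.sq a ha)
  calc a * b = (a * b)⁻¹ := (hi _ (mul_mem ha hb)).symm
    _ = b * a := by rw [mul_inv_rev, hi a ha, hi b hb]

theorem isPGroup (hB : Big D x Wn) : IsPGroup 2 Wn := fun a =>
  ⟨1, Subtype.ext (by rw [pow_one, SubmonoidClass.coe_pow]; exact (pow_two _).trans (hB.sq a a.2))⟩

theorem smul (hB : Big D x Wn) (w : W) :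
    Big D (w • x) (Wn.map (MulAut.conj w).toMonoidHom) where
  ne h := hB.ne (by simpa using congrArg (w⁻¹ • ·) h)
  sing := by rw [D.q_smul]; exact hB.sing
  le := by
    rintro _ ⟨a, ha, rfl⟩
    show (w * a * w⁻¹) • w • x = w • x
    rw [mul_smul, mul_smul, inv_smul_smul, hB.le ha]
  conj := by
    rintro g hg _ ⟨a, ha, rfl⟩
    refine ⟨(w⁻¹ * g * w) * a * (w⁻¹ * g * w)⁻¹, hB.conj _ ?_ a ha, ?_⟩
    · rw [MulAction.mem_stabilizer_iff] at hg ⊢
      rw [mul_smul, mul_smul, hg, inv_smul_smul]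
    · simp only [MulEquiv.coe_toMonoidHom, MulAut.conj_apply]
      group
  sq := by
    rintro _ ⟨a, ha, rfl⟩
    rw [← map_mul, hB.sq a ha, map_one]
  card := by
    rw [Subgroup.card_map_of_injective (MulAut.conj w).injective]
    exact hB.card

end Big

theorem move_ones (π : Equiv.Perm (Fin 6)) : move π (fun _ => 0) ones = ones := by
  funext i; simp [move, ones]

namespace Frame

variable {W : Type*} [Group W] [Finite W] {V : Type*} [AddCommGroup V] [Finite V]
  [DistribMulAction W V] {D : Core W V} (F : Frame D)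

theorem isMono_one : F.IsMono 1 1 (fun _ => 0) := fun i => by simp [Core.lineEl]

theorem mono_mul_inv {a c : W} (hc : a * D.h * a⁻¹ = D.h⁻¹) {π π' : Equiv.Perm (Fin 6)} {σ σ' : Ph}
    (h : F.IsMono a π σ) (h' : F.IsMono c π' σ') :
    F.IsMono (a * c) (π * π') (fun i => σ (π' i) - σ' i) := fun i => by
  rw [mul_smul, h' i, D.smul_lineEl_of_inv hc (h _)]
  rfl

theorem mono_mul_zero {a c : W} (hc : a * D.h = D.h * a) {π π' : Equiv.Perm (Fin 6)}
    (h : F.IsMono a π (fun _ => 0)) (h' : F.IsMono c π' (fun _ => 0)) :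
    F.IsMono (a * c) (π * π') (fun _ => 0) := by
  have := F.mono_mul hc h h'
  simpa using this

end Frame

namespace NFrame

variable {W : Type*} [Group W] [Finite W] {V : Type*} [AddCommGroup V] [Finite V]
  [DistribMulAction W V] {D : Core W V} (F : NFrame D)

include F

/-- the pure permutations as a homomorphism -/
theorem exists_rho : ∃ ρ : alternatingGroup (Fin 6) →* W,
    ∀ p, ρ p ∈ D.P ∧ F.IsMono (ρ p) p.1 (fun _ => 0) := by
  choose f hf hf' using fun p : alternatingGroup (Fin 6) =>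
    F.exists_pure p.1 (Equiv.Perm.mem_alternatingGroup.mp p.2)
  refine ⟨MonoidHom.mk' f fun p p' => ?_, fun p => ⟨hf p, hf' p⟩⟩
  exact F.eq_of_basis (D.central _ (D.P_le (hf _))) (D.central _ (D.P_le (mul_mem (hf p) (hf p'))))
    (hf' (p * p')) (F.mono_mul_zero (D.central _ (D.P_le (hf p))) (hf' p) (hf' p'))

theorem isR_of_big {c : Coord} {Wn : Subgroup W} (hB : Big D (F.vec c) Wn) : IsR c := by
  obtain ⟨d, hd, hcase⟩ := F.exists_class hB.ne hB.sing
  obtain rfl := F.vec_inj hd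
  refine hcase.resolve_left fun hU => ?_
  obtain ⟨w, hw⟩ := F.transU d cU hU isU_cU
  have hw' : w • F.vec d = F.vec cU := hw
  have hB' := hB.smul w
  rw [hw'] at hB'
  have := F.card_normal_le_four _ hB'.le hB'.conj hB'.isPGroup
  have := hB'.card
  omega

/-- move a big subgroup to a given vector of the orbit of 1701 -/
theorem exists_big {x : V} {Wn : Subgroup W} (hB : Big D x Wn) {c : Coord} (hc : IsR c) :
    ∃ Wn', Big D (F.vec c) Wn' := by
  obtain ⟨d, rfl⟩ := F.exists_coord x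
  obtain ⟨w, hw⟩ := F.transR d c (F.isR_of_big hB) hc
  have hB' := hB.smul w
  rw [show w • F.vec d = F.vec c from hw] at hB'
  exact ⟨_, hB'⟩

theorem pure_mem_trivial {Wn : Subgroup W} (hB : Big D (F.vec ones) Wn) {m : W} (hm : m ∈ Wn)
    (hc : m * D.h = D.h * m) {π : Equiv.Perm (Fin 6)} (h : F.IsMono m π (fun _ => 0)) : π = 1 := by
  by_contra hne
  have h2 : π * π = 1 := by
    have e := F.mono_mul_zero hc h h
    rw [hB.sq m hm] at e
    exact (F.perm_unique e F.isMono_one).1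
  obtain ⟨i, j, k, hij, hjk, hmv⟩ := invol_moved π h2 hne
  set τ := Equiv.swap i j * Equiv.swap j k with hτ
  have hτs : Equiv.Perm.sign τ = 1 := by
    rw [hτ, map_mul, Equiv.Perm.sign_swap hij, Equiv.Perm.sign_swap hjk]; rfl
  obtain ⟨ρ, hρ⟩ := F.exists_rho
  set t : alternatingGroup (Fin 6) := ⟨τ, Equiv.Perm.mem_alternatingGroup.mpr hτs⟩ with ht
  have hρc : ∀ p, ρ p * D.h = D.h * ρ p := fun p => D.central _ (D.P_le (hρ p).1)
  have htS : ρ t ∈ MulAction.stabilizer W (F.vec ones) := by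
    rw [MulAction.mem_stabilizer_iff, F.smul_vec_comm (hρc t) (hρ t).2, move_ones]
  have hc1 : Commute (ρ t * m) D.h := Commute.mul_left (hρc t) hc
  have e1 : F.IsMono (ρ t * m * (ρ t)⁻¹) (τ * π * τ⁻¹) (fun _ => 0) := by
    rw [← map_inv]
    exact F.mono_mul_zero hc1.eq (F.mono_mul_zero (hρc t) (hρ t).2 h) (hρ t⁻¹).2
  have hc2 : Commute (ρ t * m * (ρ t)⁻¹) D.h :=
    Commute.mul_left hc1 (Commute.inv_left (hρc t))
  have hmem := hB.conj _ htS m hm
  have e3 := F.mono_mul_zero hc2.eq e1 h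
  rw [hB.comm hmem hm] at e3
  exact hmv (F.perm_unique e3 (F.mono_mul_zero hc h e1)).1

/-- a complement to the big subgroup -/
theorem exists_section {x : V} {Wn : Subgroup W} (hB : Big D x Wn) :
    ∃ ρ : alternatingGroup (Fin 6) →* W,
      (∀ p, ρ p ∈ MulAction.stabilizer W x) ∧ ∀ p, ρ p ∈ Wn → p = 1 := by
  obtain ⟨d, rfl⟩ := F.exists_coord x
  obtain ⟨w, hw⟩ := F.transR ones d isR_ones (F.isR_of_big hB)
  have hw' : w • F.vec ones = F.vec d := hw
  have hB' := hB.smul w⁻¹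
  rw [show w⁻¹ • F.vec d = F.vec ones by rw [← hw', inv_smul_smul]] at hB'
  obtain ⟨ρ, hρ⟩ := F.exists_rho
  have hρc : ∀ p, ρ p * D.h = D.h * ρ p := fun p => D.central _ (D.P_le (hρ p).1)
  refine ⟨(MulAut.conj w).toMonoidHom.comp ρ, fun p => ?_, fun p hp => ?_⟩
  · show (w * ρ p * w⁻¹) • F.vec d = F.vec d
    rw [← hw', mul_smul, mul_smul, inv_smul_smul, F.smul_vec_comm (hρc p) (hρ p).2, move_ones]
  · refine Subtype.ext (F.pure_mem_trivial hB' ⟨_, hp, ?_⟩ (hρc p) (hρ p).2)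
    simp only [MonoidHom.coe_comp, Function.comp_apply, MulEquiv.coe_toMonoidHom, MulAut.conj_apply, inv_inv]
    group

/-- `2⁵·A₆` -/
theorem big_structure {x : V} {Wn : Subgroup W} (hB : Big D x Wn) :
    Nat.card Wn = 32 ∧ ∃ ρ : alternatingGroup (Fin 6) →* W,
      (∀ p, ρ p ∈ MulAction.stabilizer W x) ∧ (∀ p, ρ p ∈ Wn → p = 1) ∧
      ∀ g ∈ MulAction.stabilizer W x, ∃ p, (ρ p)⁻¹ * g ∈ Wn := by
  obtain ⟨ρ, hρS, hρW⟩ := F.exists_section hB
  set S := MulAction.stabilizer W x with hS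
  have hcS : Nat.card S = 11520 := by
    obtain ⟨d, rfl⟩ := F.exists_coord x
    exact F.card_stab_R (F.isR_of_big hB)
  let f : alternatingGroup (Fin 6) → S ⧸ Wn.subgroupOf S := fun p => QuotientGroup.mk ⟨ρ p, hρS p⟩
  have hinj : Function.Injective f := fun p p' h => by
    have h0 : (⟨ρ p, hρS p⟩ : S)⁻¹ * ⟨ρ p', hρS p'⟩ ∈ Wn.subgroupOf S := QuotientGroup.eq.mp h
    have h1 : (ρ p)⁻¹ * ρ p' ∈ Wn := h0
    rw [← map_inv, ← map_mul] at h1
    exact inv_mul_eq_one.mp (hρW _ h1)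
  have h360 : Nat.card (alternatingGroup (Fin 6)) = 360 := by
    rw [nat_card_alternatingGroup, Nat.card_eq_fintype_card, Fintype.card_fin]; rfl
  have hmul := Subgroup.card_eq_card_quotient_mul_card_subgroup (Wn.subgroupOf S)
  rw [hcS, Nat.card_congr (Subgroup.subgroupOfEquivOfLe hB.le).toEquiv] at hmul
  have hge := Nat.card_le_card_of_injective f hinj
  rw [h360] at hge
  have h32 := hB.card
  have hprod := Nat.mul_le_mul hge h32
  have hc32 : Nat.card Wn = 32 := by nlinarith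
  refine ⟨hc32, ρ, hρS, hρW, fun g hg => ?_⟩
  rw [hc32] at hmul
  obtain ⟨p, hp⟩ := ((Nat.bijective_iff_injective_and_card f).mpr ⟨hinj, by omega⟩).2
    (QuotientGroup.mk (⟨g, hg⟩ : S))
  have h0 : (⟨ρ p, hρS p⟩ : S)⁻¹ * ⟨g, hg⟩ ∈ Wn.subgroupOf S := QuotientGroup.eq.mp hp
  exact ⟨p, h0⟩

theorem big_quotient {x : V} {Wn : Subgroup W} (hB : Big D x Wn) :
    ∃ _ : (Wn.subgroupOf (MulAction.stabilizer W x)).Normal,
      Nonempty (↥(MulAction.stabilizer W x) ⧸ Wn.subgroupOf (MulAction.stabilizer W x) ≃*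
        alternatingGroup (Fin 6)) := by
  obtain ⟨-, ρ, hρS, hρW, hdec⟩ := F.big_structure hB
  haveI hn : (Wn.subgroupOf (MulAction.stabilizer W x)).Normal :=
    ⟨fun a ha g => hB.conj g g.2 a ha⟩
  let φ : alternatingGroup (Fin 6) →* ↥(MulAction.stabilizer W x) ⧸ Wn.subgroupOf (MulAction.stabilizer W x) :=
    (QuotientGroup.mk' _).comp (ρ.codRestrict _ hρS)
  refine ⟨hn, ⟨(MulEquiv.ofBijective φ ⟨(injective_iff_map_eq_one φ).mpr fun p hp => ?_, fun y => ?_⟩).symm⟩⟩
  · have h0 : (ρ.codRestrict (MulAction.stabilizer W x) hρS) p ∈ Wn.subgroupOf (MulAction.stabilizer W x) :=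
      (QuotientGroup.eq_one_iff _).mp hp
    exact hρW p h0
  · induction y using QuotientGroup.induction_on with
    | H g =>
      obtain ⟨p, hp⟩ := hdec g g.2
      have h0 : (ρ.codRestrict (MulAction.stabilizer W x) hρS p)⁻¹ * g ∈
          Wn.subgroupOf (MulAction.stabilizer W x) := hp
      exact ⟨p, QuotientGroup.eq.mpr h0⟩

/-- a linear monomial element has an even permutation -/
theorem linear_even {x : V} {Wn : Subgroup W} (hB : Big D x Wn) {m : W} (hc : m * D.h = D.h * m)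
    {π : Equiv.Perm (Fin 6)} {σ : Ph} (h : F.IsMono m π σ) : Equiv.Perm.sign π = 1 := by
  obtain ⟨W1, hB1⟩ := F.exists_big hB isR_ones
  obtain ⟨a, ha, ham⟩ := F.exists_pure_of hc h
  have hcm : Commute (a * m) D.h := Commute.mul_left (D.central a (D.A_le_Mb ha)) hc
  have hmS : a * m ∈ MulAction.stabilizer W (F.vec ones) := by
    rw [MulAction.mem_stabilizer_iff, F.smul_vec_comm hcm.eq ham, move_ones]
  obtain ⟨ρ, hρ⟩ := F.exists_rho
  have hρc : ∀ p, ρ p * D.h = D.h * ρ p := fun p => D.central _ (D.P_le (hρ p).1)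
  -- any complement can be used
  obtain ⟨hc32, -⟩ := F.big_structure hB1
  set S := MulAction.stabilizer W (F.vec ones) with hS
  have hρS : ∀ p, ρ p ∈ S := fun p => by
    rw [hS, MulAction.mem_stabilizer_iff, F.smul_vec_comm (hρc p) (hρ p).2, move_ones]
  let f : alternatingGroup (Fin 6) → S ⧸ W1.subgroupOf S := fun p => QuotientGroup.mk ⟨ρ p, hρS p⟩
  have hinj : Function.Injective f := fun p p' he => by
    have h0 : (⟨ρ p, hρS p⟩ : S)⁻¹ * ⟨ρ p', hρS p'⟩ ∈ W1.subgroupOf S := QuotientGroup.eq.mp he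
    have h1 : (ρ p)⁻¹ * ρ p' ∈ W1 := h0
    rw [← map_inv, ← map_mul] at h1
    exact inv_mul_eq_one.mp (Subtype.ext (F.pure_mem_trivial hB1 h1 (hρc _) (hρ _).2))
  have h360 : Nat.card (alternatingGroup (Fin 6)) = 360 := by
    rw [nat_card_alternatingGroup, Nat.card_eq_fintype_card, Fintype.card_fin]; rfl
  have hmul := Subgroup.card_eq_card_quotient_mul_card_subgroup (W1.subgroupOf S)
  rw [hS, F.card_stab_R isR_ones, Nat.card_congr (Subgroup.subgroupOfEquivOfLe hB1.le).toEquiv, hc32,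
    ← hS] at hmul
  obtain ⟨p, hp⟩ := ((Nat.bijective_iff_injective_and_card f).mpr ⟨hinj, by omega⟩).2
    (QuotientGroup.mk (⟨a * m, hmS⟩ : S))
  have h0 : (⟨ρ p, hρS p⟩ : S)⁻¹ * ⟨a * m, hmS⟩ ∈ W1.subgroupOf S := QuotientGroup.eq.mp hp
  have hp' : (ρ p)⁻¹ * (a * m) ∈ W1 := h0
  rw [← map_inv] at hp'
  have e := F.mono_mul_zero (hρc p⁻¹) (hρ p⁻¹).2 ham
  have h1 := F.pure_mem_trivial hB1 hp' (Commute.mul_left (hρc p⁻¹) hcm).eq e
  rw [show π = p.1 from (inv_mul_eq_one.mp (by simpa using h1)).symm]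
  exact Equiv.Perm.mem_alternatingGroup.mp p.2

/-- outside the index-two subgroup `h` is inverted -/
theorem inverts {x : V} {Wn : Subgroup W} (hB : Big D x Wn) {w : W} (hw : w ∉ D.Mb) :
    w * D.h * w⁻¹ = D.h⁻¹ := by
  refine D.inv_of_not_comm fun hc => ?_
  obtain ⟨m, hm, π, hπ, hmono⟩ := F.exists_odd_of_linear hw hc
  have := F.linear_even hB hm hmono
  rw [hπ] at this
  exact absurd this (by decide)

theorem mem_Mb_of_comm {x : V} {Wn : Subgroup W} (hB : Big D x Wn) {w : W}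
    (hw : w * D.h = D.h * w) : w ∈ D.Mb := by
  by_contra hn
  have h1 := F.inverts hB hn
  rw [hw, mul_inv_cancel_right] at h1
  have h2 : D.h * D.h = 1 := by nth_rewrite 1 [h1]; exact inv_mul_cancel _
  have h3 := D.h_cube
  rw [h2, one_mul] at h3
  exact D.h_ne h3

/-- a normal 2-subgroup of the stabiliser in the orbit of 378 inside `Mb` is trivial -/
theorem twoGroup_U_eq_bot {x : V} {Wn : Subgroup W} (hB : Big D x Wn) (W0 : Subgroup W)
    (hle : W0 ≤ MulAction.stabilizer W (F.vec cU)) (hM : W0 ≤ D.Mb) (hp : IsPGroup 2 W0)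
    (hn : ∀ g ∈ MulAction.stabilizer W (F.vec cU), ∀ w ∈ W0, g * w * g⁻¹ ∈ W0) : W0 = ⊥ := by
  rw [Subgroup.eq_bot_iff_forall]
  intro w hw
  refine (F.twoGroup_U W0 hle hM hp hn w hw).resolve_right fun h => ?_
  have := F.linear_even hB (D.central w (hM hw)) h
  rw [Equiv.Perm.sign_swap (by decide)] at this
  exact absurd this (by decide)

theorem semilinear_odd_aux {x : V} {Wn : Subgroup W} (hB : Big D x Wn) {c : W}
    (hc : c * D.h * c⁻¹ = D.h⁻¹)
    (h : F.IsMono c 1 tauC) : False := by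
  obtain ⟨W1, hB1⟩ := F.exists_big hB isR_cR
  obtain ⟨-, ρ', hρ'S, hρ'W, hdec⟩ := F.big_structure hB1
  obtain ⟨ρ, hρ⟩ := F.exists_rho
  have hρc : ∀ p, ρ p * D.h = D.h * ρ p := fun p => D.central _ (D.P_le (hρ p).1)
  let p1 : alternatingGroup (Fin 6) := ⟨pi01, Equiv.Perm.mem_alternatingGroup.mpr (by decide +kernel)⟩
  let g1 : alternatingGroup (Fin 6) := ⟨tri234, Equiv.Perm.mem_alternatingGroup.mpr (by decide +kernel)⟩
  set d := c * ρ p1 with hd
  have hdi : d * D.h * d⁻¹ = D.h⁻¹ := by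
    rw [hd, mul_inv_rev, mul_assoc c, hρc]
    calc c * (D.h * ρ p1) * ((ρ p1)⁻¹ * c⁻¹) = c * D.h * c⁻¹ := by group
      _ = _ := hc
  have hdm : F.IsMono d pi01 tauC := by
    have e := F.mono_mul_inv hc h (hρ p1).2
    rw [one_mul] at e
    convert e using 1
    funext i
    revert i
    decide +kernel
  have hdS : d ∈ MulAction.stabilizer W (F.vec cR) := by
    rw [MulAction.mem_stabilizer_iff, F.smul_vec_inv hdi hdm]
    congr 1
    funext i
    revert i
    decide +kernel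
  have hd2 : d * d = 1 := by
    have e := F.mono_mul_inv hdi hdm hdm
    have e0 : (fun i => tauC (pi01 i) - tauC i) = fun _ => (0 : ZMod 3) := by
      funext i; revert i; decide +kernel
    rw [show pi01 * pi01 = 1 by decide +kernel, e0] at e
    refine F.eq_of_basis ?_ (by simp) e F.isMono_one
    calc d * d * D.h = d * (d * D.h * d⁻¹) * d := by group
      _ = d * D.h⁻¹ * d := by rw [hdi]
      _ = (d * D.h * d⁻¹)⁻¹ * (d * d) := by group
      _ = D.h * (d * d) := by rw [hdi, inv_inv]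
  -- a diagonal element of order three centralised by `d`
  obtain ⟨b, hb, hbk⟩ := F.diag' (diff 0 1) (by simp [diff])
  have hbc : b * D.h = D.h * b := D.central b (D.A_le_Mb hb)
  have hbS : b ∈ MulAction.stabilizer W (F.vec cR) := by
    rw [MulAction.mem_stabilizer_iff, F.smul_vec_comm hbc (π := 1) hbk]
    congr 1
    funext i
    revert i
    decide +kernel
  have hbd : b * d = d * b := by
    have e1 := F.mono_mul hbc (π := 1) hbk hdm
    have e2 := F.mono_mul_inv hdi hdm (π' := 1) hbk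
    rw [one_mul] at e1
    rw [mul_one] at e2
    have eq1 : (fun i => tauC i + diff 0 1 (pi01 i)) = fun i => tauC ((1 : Equiv.Perm (Fin 6)) i) - diff 0 1 i := by
      funext i; revert i; decide +kernel
    rw [eq1] at e1
    -- both are semilinear with the same data
    have hbdi : (b * d) * D.h * (b * d)⁻¹ = D.h⁻¹ := by
      calc (b * d) * D.h * (b * d)⁻¹ = b * (d * D.h * d⁻¹) * b⁻¹ := by group
        _ = _ := by rw [hdi, (Commute.inv_right (hbc : Commute b D.h)).eq, mul_inv_cancel_right]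
    have hdbi : (d * b) * D.h * (d * b)⁻¹ = D.h⁻¹ := by
      calc (d * b) * D.h * (d * b)⁻¹ = d * (b * D.h * b⁻¹) * d⁻¹ := by group
        _ = _ := by rw [hbc, mul_inv_cancel_right, hdi]
    refine (inv_mul_eq_one.mp (D.faithful ((b * d)⁻¹ * (d * b)) fun v => ?_))
    obtain ⟨e, rfl⟩ := F.exists_coord v
    rw [mul_smul, inv_smul_eq_iff, F.smul_vec_inv hbdi e1, F.smul_vec_inv hdbi e2]
  have hb1 : b ≠ 1 := fun he => by
    subst he
    have e := (F.perm_unique (π := 1) hbk F.isMono_one).2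
    have := congrFun e 0
    simp [diff] at this
  have hb3 : b * b * b = 1 := D.cube b hb
  -- hence `d` lies in the elementary subgroup
  obtain ⟨pd, hpd⟩ := hdec d hdS
  obtain ⟨pb, hpb⟩ := hdec b hbS
  haveI hn : (W1.subgroupOf (MulAction.stabilizer W (F.vec cR))).Normal :=
    ⟨fun a ha g => hB1.conj g g.2 a ha⟩
  set φ : alternatingGroup (Fin 6) →* _ ⧸ W1.subgroupOf (MulAction.stabilizer W (F.vec cR)) :=
    (QuotientGroup.mk' _).comp (ρ'.codRestrict _ hρ'S) with hφ
  have hφinj : Function.Injective φ := (injective_iff_map_eq_one φ).mpr fun p hp =>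
    hρ'W p (show ρ'.codRestrict _ hρ'S p ∈ W1.subgroupOf (MulAction.stabilizer W (F.vec cR)) from
      (QuotientGroup.eq_one_iff _).mp hp)
  have ed : φ pd = QuotientGroup.mk ⟨d, hdS⟩ := QuotientGroup.eq.mpr (show (ρ'.codRestrict _ hρ'S pd)⁻¹ *
    ⟨d, hdS⟩ ∈ W1.subgroupOf (MulAction.stabilizer W (F.vec cR)) from hpd)
  have eb : φ pb = QuotientGroup.mk ⟨b, hbS⟩ := QuotientGroup.eq.mpr (show (ρ'.codRestrict _ hρ'S pb)⁻¹ *
    ⟨b, hbS⟩ ∈ W1.subgroupOf (MulAction.stabilizer W (F.vec cR)) from hpb)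
  have hpd2 : pd * pd = 1 := hφinj (by
    rw [map_mul, ed, map_one, ← QuotientGroup.mk_mul, ← QuotientGroup.mk_one]
    exact congrArg _ (Subtype.ext hd2))
  have hpb3 : pb * pb * pb = 1 := hφinj (by
    rw [map_mul, map_mul, eb, map_one, ← QuotientGroup.mk_mul, ← QuotientGroup.mk_mul,
      ← QuotientGroup.mk_one]
    exact congrArg _ (Subtype.ext hb3))
  have hpbd : pb * pd = pd * pb := hφinj (by
    rw [map_mul, map_mul, ed, eb, ← QuotientGroup.mk_mul, ← QuotientGroup.mk_mul]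
    exact congrArg _ (Subtype.ext hbd))
  have hpb1 : pb ≠ 1 := fun he => by
    rw [he, map_one, inv_one, one_mul] at hpb
    apply hb1
    rw [← hb3, hB1.sq b hpb, one_mul]
  have hpd1 : pd = 1 := by
    by_contra hne
    refine hpb1 (Subtype.ext (invol_three pd.1 (congrArg Subtype.val hpd2) (fun he => hne (Subtype.ext he))
      (Equiv.Perm.mem_alternatingGroup.mp pd.2) pb.1 (congrArg Subtype.val hpbd)
      (congrArg Subtype.val hpb3) (Equiv.Perm.mem_alternatingGroup.mp pb.2)))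
  have hdW : d ∈ W1 := by simpa [hpd1] using hpd
  -- its conjugate by a pure three-cycle gives a three-cycle
  have hgS : ρ g1 ∈ MulAction.stabilizer W (F.vec cR) := by
    rw [MulAction.mem_stabilizer_iff, F.smul_vec_comm (hρc g1) (hρ g1).2]
    congr 1
    funext i
    revert i
    decide +kernel
  have hd'W := hB1.conj _ hgS d hdW
  have hgdi : ρ g1 * d * D.h * (ρ g1 * d)⁻¹ = D.h⁻¹ := by
    calc ρ g1 * d * D.h * (ρ g1 * d)⁻¹ = ρ g1 * (d * D.h * d⁻¹) * (ρ g1)⁻¹ := by group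
      _ = _ := by rw [hdi, (Commute.inv_right (hρc g1 : Commute (ρ g1) D.h)).eq, mul_inv_cancel_right]
  have e1 : F.IsMono (ρ g1 * d * (ρ g1)⁻¹) (tri234 * pi01 * tri234⁻¹) tauC := by
    have e := F.mono_mul_inv hgdi (F.mono_mul (hρc g1) (hρ g1).2 hdm) (hρ g1⁻¹).2
    rw [map_inv] at e
    convert e using 1
    · decide +kernel
    · funext i
      revert i
      decide +kernel
  have e2 : F.IsMono (d * (ρ g1 * d * (ρ g1)⁻¹)) (pi01 * (tri234 * pi01 * tri234⁻¹)) (fun _ => 0) := by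
    convert F.mono_mul_inv hdi hdm e1 using 1
    funext i
    revert i
    decide +kernel
  have hlin : (d * (ρ g1 * d * (ρ g1)⁻¹)) * D.h = D.h * (d * (ρ g1 * d * (ρ g1)⁻¹)) := by
    have hd'i : (ρ g1 * d * (ρ g1)⁻¹) * D.h * (ρ g1 * d * (ρ g1)⁻¹)⁻¹ = D.h⁻¹ := by
      calc _ = ρ g1 * d * ((ρ g1)⁻¹ * D.h * ρ g1) * (ρ g1 * d)⁻¹ := by group
        _ = _ := by rw [mul_assoc (ρ g1)⁻¹, ← hρc g1, inv_mul_cancel_left, hgdi]
    apply mul_inv_eq_iff_eq_mul.mp
    calc _ = d * ((ρ g1 * d * (ρ g1)⁻¹) * D.h * (ρ g1 * d * (ρ g1)⁻¹)⁻¹) * d⁻¹ := by group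
      _ = d * D.h⁻¹ * d⁻¹ := by rw [hd'i]
      _ = (d * D.h * d⁻¹)⁻¹ := by group
      _ = D.h := by rw [hdi, inv_inv]
  have e4 := F.mono_mul_zero hlin e2 e2
  rw [hB1.sq _ (mul_mem hdW hd'W)] at e4
  have := (F.perm_unique e4 F.isMono_one).1
  revert this
  decide +kernel

/-- a semilinear monomial element has an odd permutation -/
theorem semilinear_odd {x : V} {Wn : Subgroup W} (hB : Big D x Wn) {m : W}
    (hc : m * D.h * m⁻¹ = D.h⁻¹) {π : Equiv.Perm (Fin 6)} {σ : Ph} (h : F.IsMono m π σ) :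
    Equiv.Perm.sign π = -1 := by
  rcases Int.units_eq_one_or (Equiv.Perm.sign π) with hs | hs
  swap
  · exact hs
  exfalso
  obtain ⟨p, hp, hpm⟩ := F.exists_pure π⁻¹ (by rw [map_inv, hs]; rfl)
  have hpc : p * D.h = D.h * p := D.central p (D.P_le hp)
  have e1 : F.IsMono (p * m) 1 σ := by
    have e := F.mono_mul hpc hpm h
    simpa using e
  obtain ⟨a, ha, hak⟩ := F.diag' (fun i => tauC i - σ i) (by
    rw [Finset.sum_sub_distrib, F.sum_inv hc h]
    decide +kernel)
  have hac : a * D.h = D.h * a := D.central a (D.A_le_Mb ha)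
  have e2 : F.IsMono (a * (p * m)) 1 tauC := by
    have e := F.mono_mul hac (π := 1) hak e1
    rw [mul_one] at e
    convert e using 1
    funext i
    simp
  refine F.semilinear_odd_aux hB ?_ e2
  have hap : Commute (a * p) D.h := Commute.mul_left hac hpc
  calc a * (p * m) * D.h * (a * (p * m))⁻¹ = (a * p) * (m * D.h * m⁻¹) * (a * p)⁻¹ := by group
    _ = _ := by rw [hc, hap.inv_right.eq, mul_inv_cancel_right]

end NFrame

end Cfsg.Agent.Lib.LargeFischer13
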