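import Cfsg.Agent.Lib.LargeFischer13.Involutions
import Cfsg.Agent.Lib.LargeFischer13.StabR
import Cfsg.Agent.Lib.LargeExtra.Quotient
import Cfsg.Agent.Lib.FusionP3.GenExtra.Iso

/-!
A second conjugate of `z` inside `Q` gives a large elementary normal subgroup of its stabiliser.
-/

set_option autoImplicit false
set_option linter.style.haveILetI false
set_option linter.unusedSectionVars false

namespace Cfsg.Agent.Lib.LargeFischer13

open Cfsg.Agent.Lib.LargeExtra.TwoConjugate
open Cfsg.Agent.Lib.LargeExtraspecial.Basic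

universe u

variable {G : Type u} [Group G] [Finite G] {z : G} {Q : Subgroup (Cz z)} [Q.Normal]

/-- `Q` in the ambient group -/
abbrev QG (Q : Subgroup (Cz z)) : Subgroup G := Q.map (Cz z).subtype

theorem exists_setting (hF : Cfsg.IsOfLargeFischerTypeAt z Q) {g : G} (hgQ : g * z * g⁻¹ ∈ QG Q)
    (hne : g * z * g⁻¹ ≠ z) : Setting (QG Q) z g ∧ Nat.card (QG Q) = 2 ^ 13 := by
  obtain ⟨⟨hz2, hgf, hext, hcard, -⟩, -⟩ := hF
  haveI : Fact (Nat.Prime 2) := ⟨Nat.prime_two⟩
  have hc : Nat.card (QG Q) = 2 ^ 13 := by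
    rw [Subgroup.card_map_of_injective Subtype.val_injective, hcard]
  obtain ⟨-, s⟩ := LargeExtra.Quotient.setting_of_fitting z hz2 (QG Q) (by rw [hgf])
    (FusionP3.GenExtra.isExtraspecial_congr (Q.equivMapOfInjective _ (Cz z).subtype_injective) hext)
    hgQ hne (by rw [hc]; norm_num)
  exact ⟨s, hc⟩

/-- the image of `(gQg⁻¹) ∩ C(z)` in `C(z)/Q` -/
abbrev Ebar (Q : Subgroup (Cz z)) [Q.Normal] (g : G) : Subgroup ((Cz z) ⧸ Q) :=
  (((QG Q).map (MulAut.conj g).toMonoidHom ⊓ Cz z).subgroupOf (Cz z)).map (QuotientGroup.mk' Q)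

/-- the intersection `Q ∩ gQg⁻¹` -/
abbrev Ecap (Q : Subgroup (Cz z)) (g : G) : Subgroup G :=
  QG Q ⊓ (QG Q).map (MulAut.conj g).toMonoidHom

theorem Ecap_elementary (hF : Cfsg.IsOfLargeFischerTypeAt z Q) {g : G} (hgQ : g * z * g⁻¹ ∈ QG Q)
    (hne : g * z * g⁻¹ ≠ z) : Cfsg.IsElementaryAbelian 2 (Ecap Q g) := by
  obtain ⟨s, -⟩ := exists_setting hF hgQ hne
  have hy := es' s
  have hcomm : ∀ e ∈ Ecap Q g, ∀ f ∈ Ecap Q g, Commute e f := by
    intro e he f hf
    refine mul_inv_eq_iff_eq_mul.mp (?_ : e * f * e⁻¹ = f)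
    rcases s.es.conj e he.1 f hf.1 with h | h
    · exact h
    · rcases hy.conj e he.2 f hf.2 with h' | h'
      · exact h'
      · exact absurd (mul_left_cancel (h.symm.trans h')).symm hne
  refine ⟨⟨⟨fun a b => Subtype.ext (hcomm a a.2 b b.2).eq⟩⟩, fun e he => ?_⟩
  rw [pow_two]
  rcases s.es.sq_cases he.1 with h | h
  · exact h
  · rcases hy.sq_cases he.2 with h' | h'
    · exact h'
    · exact absurd (h'.symm.trans h) hne

theorem card_Ecap_mul (hF : Cfsg.IsOfLargeFischerTypeAt z Q) {g : G} (hgQ : g * z * g⁻¹ ∈ QG Q)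
    (hne : g * z * g⁻¹ ≠ z) :
    Nat.card (Ecap Q g) * Nat.card (Ebar Q g) = 2 ^ 12 ∧ Nat.card (Ecap Q g) ≤ 2 ^ 7 := by
  obtain ⟨s, hc⟩ := exists_setting hF hgQ hne
  have hy := es' s
  set P := (QG Q).map (MulAut.conj g).toMonoidHom with hP
  set y := g * z * g⁻¹ with hydef
  have hzP : z ∈ P := z_mem s
  have hcP : Nat.card P = 2 ^ 13 := by
    rw [hP, Subgroup.card_map_of_injective (MulAut.conj g).injective, hc]
  constructor
  · -- `|P ∩ C(z)| = 2¹²`
    have hz2 : orderOf z = 2 := orderOf_eq_prime (by rw [sq, s.es.sq]) s.es.ne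
    set N := Subgroup.zpowers y ⊔ Subgroup.zpowers z with hN
    have hyN : y ∈ N := Subgroup.mem_sup_left (Subgroup.mem_zpowers y)
    have hNP : N ≤ P := sup_le (Subgroup.zpowers_le.mpr hy.mem) (Subgroup.zpowers_le.mpr hzP)
    have hN4 : Nat.card N = 4 := by
      have hzy : z ∉ Subgroup.zpowers y := fun h => by
        rcases LargeExtra.Basic.eq_one_or_eq (orderOf_eq_prime (by rw [sq, hy.sq]) hy.ne) h with h | h
        · exact s.es.ne h
        · exact hne h.symm
      rw [hN, K41.ESCentralizer.card_adjoin hy (Subgroup.zpowers_le.mpr hy.mem)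
        (Subgroup.mem_zpowers y) hzP hzy, K41.ESCentralizer.card_zpowers_z hy]
    have hB : P ⊓ Subgroup.centralizer (N : Set G) = P ⊓ Cz z := by
      ext x
      constructor
      · exact fun hx => ⟨hx.1, Subgroup.mem_centralizer_singleton_iff.mpr
          (hx.2 z (Subgroup.mem_sup_right (Subgroup.mem_zpowers z))).symm⟩
      · intro hx
        have hle : N ≤ Subgroup.centralizer ({x} : Set G) :=
          sup_le (Subgroup.zpowers_le.mpr (Subgroup.mem_centralizer_singleton_iff.mpr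
              (hy.comm x hx.1).eq.symm))
            (Subgroup.zpowers_le.mpr (Subgroup.mem_centralizer_singleton_iff.mpr
              (Subgroup.mem_centralizer_singleton_iff.mp hx.2).symm))
        exact ⟨hx.1, fun n hn => Subgroup.mem_centralizer_singleton_iff.mp (hle hn)⟩
    have h1 := K41.ESCentralizer.card_centralizer hy hNP hyN
    rw [hB, hN4, hcP] at h1
    let f := (QuotientGroup.mk' Q).comp ((P ⊓ Cz z).subgroupOf (Cz z)).subtype
    have hr : f.range = Ebar Q g := by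
      rw [MonoidHom.range_comp, Subgroup.range_subtype]
    have hk : Nat.card f.ker = Nat.card (Ecap Q g) := by
      refine Nat.card_congr
        { toFun := fun x => ⟨((x.1.1 : Cz z) : G),
            ⟨_, (QuotientGroup.eq_one_iff (N := Q) _).mp x.2, rfl⟩, (x.1.2 : _ ∈ P ⊓ Cz z).1⟩
          invFun := fun e => ⟨⟨⟨e.1, Subgroup.map_subtype_le _ e.2.1⟩, e.2.2,
            Subgroup.map_subtype_le _ e.2.1⟩, by
              obtain ⟨q, hq, hqe⟩ := e.2.1
              apply (QuotientGroup.eq_one_iff (N := Q) _).mpr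
              show (⟨e.1, _⟩ : Cz z) ∈ Q
              have : (⟨e.1, Subgroup.map_subtype_le _ e.2.1⟩ : Cz z) = q := Subtype.ext hqe.symm
              rw [this]; exact hq⟩
          left_inv := fun _ => rfl
          right_inv := fun _ => rfl }
    have h2 := Subgroup.card_eq_card_quotient_mul_card_subgroup f.ker
    rw [Nat.card_congr (QuotientGroup.quotientKerEquivRange f).toEquiv, hr, hk,
      Nat.card_congr (Subgroup.subgroupOfEquivOfLe (inf_le_right : P ⊓ Cz z ≤ Cz z)).toEquiv] at h2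
    rw [mul_comm, ← h2]
    omega
  · set N := Ecap Q g with hN
    have hel := Ecap_elementary hF hgQ hne
    have hNP : N ≤ P := inf_le_right
    have hyN : y ∈ N := ⟨hgQ, hy.mem⟩
    have h1 := K41.ESCentralizer.card_centralizer hy hNP hyN
    have h2 : Nat.card N ≤ Nat.card ↥(P ⊓ Subgroup.centralizer (N : Set G) : Subgroup G) :=
      Subgroup.card_le_of_le (le_inf hNP fun a ha b hb =>
        congrArg Subtype.val (hel.1.is_comm.comm (⟨b, hb⟩ : N) ⟨a, ha⟩))
    rw [hcP] at h1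
    have h3 := Nat.mul_le_mul_right (Nat.card N) h2
    rw [h1] at h3
    have h4 : Nat.card N * Nat.card N ≤ 128 * 128 := by norm_num at h3 ⊢; exact h3
    have := Nat.mul_self_le_mul_self_iff.mp h4
    norm_num
    exact this

namespace Bridge

variable (B : Bridge z Q)

/-- the stabiliser of a vector is the image of the centraliser -/
theorem image_centralizer {y : Q} (h2 : y * y = 1) (hy : B.π y ≠ 0) :
    ((Cz z ⊓ Subgroup.centralizer ({((y : Cz z) : G)} : Set G)).subgroupOf (Cz z)).map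
      (QuotientGroup.mk' Q) = MulAction.stabilizer ((Cz z) ⧸ Q) (B.π y) := by
  ext w
  constructor
  · rintro ⟨c, hc, rfl⟩
    have e : c * (y : Cz z) * c⁻¹ = y := by
      apply Subtype.ext
      show (c : G) * ((y : Cz z) : G) * (c : G)⁻¹ = _
      exact mul_inv_eq_iff_eq_mul.mpr (Subgroup.mem_centralizer_singleton_iff.mp hc.2)
    exact B.smul_of_conj (s := y) (x := y) e
  · intro hw
    obtain ⟨c, hcw, hc⟩ := B.lift_of_smul h2 hy (s := y) hw
    refine ⟨c, ⟨c.2, Subgroup.mem_centralizer_singleton_iff.mpr ?_⟩, hcw⟩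
    have e := congrArg (Subtype.val) hc
    exact mul_inv_eq_iff_eq_mul.mp e

theorem sing_of_conj (hF : Cfsg.IsOfLargeFischerTypeAt z Q) {g : G} {y : Q}
    (hy : ((y : Cz z) : G) = g * z * g⁻¹) (hne : g * z * g⁻¹ ≠ z) :
    y * y = 1 ∧ B.π y ≠ 0 ∧ B.D.q (B.π y) = 0 := by
  obtain ⟨s, -⟩ := exists_setting hF ⟨_, y.2, hy⟩ hne
  have h2 : y * y = 1 := Subtype.ext (Subtype.ext (by
    show ((y : Cz z) : G) * ((y : Cz z) : G) = 1
    rw [hy]; exact (es' s).sq))
  have h1 : y ≠ 1 := fun h => by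
    apply (es' s).ne
    rw [← hy, h]; rfl
  exact ⟨h2, B.sing h2 h1 (hy ▸ hne)⟩

theorem big (hF : Cfsg.IsOfLargeFischerTypeAt z Q) {g : G} {y : Q}
    (hy : ((y : Cz z) : G) = g * z * g⁻¹) (hne : g * z * g⁻¹ ≠ z) :
    Big B.D (B.π y) (Ebar Q g) := by
  have hgQ : g * z * g⁻¹ ∈ QG Q := ⟨_, y.2, hy⟩
  obtain ⟨s, -⟩ := exists_setting hF hgQ hne
  obtain ⟨h2, hy0, hyq⟩ := B.sing_of_conj hF hy hne
  have hy' := es' s
  refine ⟨hy0, hyq, ?_, ?_, ?_, ?_⟩
  · rw [← B.image_centralizer h2 hy0, hy]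
    exact Subgroup.map_mono fun c hc =>
      ⟨c.2, Subgroup.mem_centralizer_singleton_iff.mpr (hy'.comm _ hc.1).eq⟩
  · rw [← B.image_centralizer h2 hy0, hy]
    rintro _ ⟨c, hc, rfl⟩ _ ⟨e, he, rfl⟩
    refine ⟨c * e * c⁻¹, ⟨norm' s _ (Subgroup.mem_centralizer_singleton_iff.mp hc.2) _ he.1,
      (c * e * c⁻¹).2⟩, by simp⟩
  · rintro _ ⟨e, he, rfl⟩
    rw [← map_mul]
    apply (QuotientGroup.eq_one_iff _).mpr
    rcases hy'.sq_cases he.1 with h | h
    · rw [show e * e = 1 from Subtype.ext h]; exact one_mem _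
    · rw [show e * e = (y : Cz z) from Subtype.ext (h.trans hy.symm)]; exact y.2
  · obtain ⟨h1, h7⟩ := card_Ecap_mul hF hgQ hne
    by_contra hlt
    push Not at hlt
    have := Nat.mul_le_mul h7 (Nat.le_of_lt_succ (show Nat.card (Ebar Q g) < 31 + 1 from hlt))
    rw [h1] at this
    norm_num at this

end Bridge

end Cfsg.Agent.Lib.LargeFischer13
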