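import Cfsg.Agent.Lib.LargeFischer13.Pieces

/-!
The abstract situation of `C(z)/Q` acting on `Q/⟨z⟩` in a group of large Fischer type: the subgroup
of order 243 above the parabolic subgroup is elementary abelian.
-/

set_option autoImplicit false
set_option linter.style.haveILetI false
set_option linter.unusedSectionVars false

namespace Cfsg.Agent.Lib.LargeFischer13

open Pieces
open scoped Pointwise

/-- `W = C(z)/Q` acting on `V = Q/⟨z⟩`, with the preimage `P ≥ A` of a parabolic subgroup. -/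
structure Core (W : Type*) [Group W] (V : Type*) [AddCommGroup V] [DistribMulAction W V] where
  two : ∀ v : V, v + v = 0
  q : V → ZMod 2
  bilin : ∀ x y w : V, q (x + y + w) + q (x + y) + q (x + w) + q (y + w) + q x + q y + q w = 0
  nondeg : ∀ x : V, x ≠ 0 → ∃ y, q (x + y) + q x + q y = 1
  cardV : Nat.card V = 4096
  q_smul : ∀ (w : W) (v : V), q (w • v) = q v
  faithful : ∀ w : W, (∀ v : V, w • v = v) → w = 1
  cardW : Nat.card W = 19595520
  h : W
  h_ne : h ≠ 1
  h_cube : h * h * h = 1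
  Mb : Subgroup W
  index : Mb.index = 2
  h_mem : h ∈ Mb
  central : ∀ m ∈ Mb, m * h = h * m
  h_conj : ∀ w : W, w * h * w⁻¹ = h ∨ w * h * w⁻¹ = h⁻¹
  P : Subgroup W
  A : Subgroup W
  A_le : A ≤ P
  P_le : P ≤ Mb
  h_A : h ∈ A
  cardA : Nat.card A = 243
  A_conj : ∀ p ∈ P, ∀ a ∈ A, p * a * p⁻¹ ∈ A
  π : P →* alternatingGroup (Fin 6)
  surj : Function.Surjective π
  ker : ∀ p : P, π p = 1 ↔ (p : W) ∈ A
  moves : ∃ p ∈ P, ∃ a ∈ A, p * a * p⁻¹ * a⁻¹ ∉ Subgroup.zpowers h
  comm_mod : ∀ a ∈ A, ∀ b ∈ A, a * b * a⁻¹ * b⁻¹ ∈ Subgroup.zpowers h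
  cube_mod : ∀ a ∈ A, a * a * a ∈ Subgroup.zpowers h

namespace Core

variable {W : Type*} [Group W] [Finite W] {V : Type*} [AddCommGroup V] [Finite V]
  [DistribMulAction W V] (D : Core W V)
include D

/-- the polar form -/
def b (x y : V) : ZMod 2 := D.q (x + y) + D.q x + D.q y

theorem q_zero : D.q 0 = 0 := by
  have h := D.bilin 0 0 0
  simp only [add_zero] at h
  have key : ∀ a : ZMod 2, a + a + a + a + a + a + a = 0 → a = 0 := by decide
  exact key _ h

theorem q_add (x y : V) : D.q (x + y) = D.q x + D.q y + D.b x y := by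
  have key : ∀ a c d : ZMod 2, a = c + d + (a + c + d) := by decide
  exact key _ _ _

theorem b_comm (x y : V) : D.b x y = D.b y x := by
  have key : ∀ a c d : ZMod 2, a + c + d = a + d + c := by decide
  rw [b, b, add_comm y x]; exact key _ _ _

theorem b_add_left (x y w : V) : D.b (x + y) w = D.b x w + D.b y w := by
  have h := D.bilin x y w
  simp only [b]
  generalize D.q (x + y + w) = a1, D.q (x + y) = a2, D.q (x + w) = a3, D.q (y + w) = a4, D.q x = a5,
    D.q y = a6, D.q w = a7 at h ⊢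
  revert h
  revert a1 a2 a3 a4 a5 a6 a7
  decide

theorem b_add_right (x y w : V) : D.b x (y + w) = D.b x y + D.b x w := by
  rw [b_comm, b_add_left, b_comm D y, b_comm D w]

theorem b_zero_left (x : V) : D.b 0 x = 0 := by
  have key : ∀ a : ZMod 2, a + 0 + a = 0 := by decide
  rw [b, zero_add, q_zero]; exact key _

theorem b_self (x : V) : D.b x x = 0 := by
  have key : ∀ a : ZMod 2, 0 + a + a = 0 := by decide
  rw [b, D.two, q_zero]; exact key _

theorem b_smul (w : W) (x y : V) : D.b (w • x) (w • y) = D.b x y := by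
  rw [b, b, ← smul_add, D.q_smul, D.q_smul, D.q_smul]

theorem b_sum {ι : Type*} (s : Finset ι) (f : ι → V) (x : V) :
    D.b (∑ i ∈ s, f i) x = ∑ i ∈ s, D.b (f i) x :=
  map_sum (AddMonoidHom.mk' (fun v => D.b v x) fun u v => D.b_add_left u v x) f s

theorem exists_b {x : V} (hx : x ≠ 0) : ∃ y, D.b x y = 1 := D.nondeg x hx

theorem h_order : orderOf D.h = 3 :=
  haveI : Fact (Nat.Prime 3) := ⟨Nat.prime_three⟩
  orderOf_eq_prime (by rw [pow_succ, sq, D.h_cube]) D.h_ne

theorem h_inv : D.h⁻¹ = D.h * D.h := inv_eq_of_mul_eq_one_right (by rw [← mul_assoc, D.h_cube])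

theorem zpowers_cases {x : W} (hx : x ∈ Subgroup.zpowers D.h) :
    x = 1 ∨ x = D.h ∨ x = D.h * D.h := by
  obtain ⟨k, rfl⟩ := hx
  show D.h ^ k = 1 ∨ D.h ^ k = D.h ∨ D.h ^ k = D.h * D.h
  rw [← zpow_mod_orderOf, D.h_order]
  have h0 := Int.emod_nonneg k (show (3 : ℤ) ≠ 0 by norm_num)
  have h3 := Int.emod_lt_of_pos k (show (0 : ℤ) < 3 by norm_num)
  have hc : k % 3 = 0 ∨ k % 3 = 1 ∨ k % 3 = 2 := by omega
  rcases hc with e | e | e <;> simp only [Nat.cast_ofNat, e]
  · left; exact zpow_zero _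
  · right; left; exact zpow_one _
  · right; right; exact zpow_two _

theorem card_Mb : Nat.card D.Mb = 9797760 := by
  have h := D.Mb.card_mul_index
  rw [D.index, D.cardW] at h
  omega

theorem smul_h_comm {m : W} (hm : m ∈ D.Mb) (v : V) : m • D.h • v = D.h • m • v := by
  rw [smul_smul, smul_smul, D.central m hm]

theorem A_le_Mb : D.A ≤ D.Mb := D.A_le.trans D.P_le

theorem zpowers_le_A : Subgroup.zpowers D.h ≤ D.A := Subgroup.zpowers_le.mpr D.h_A

theorem commute_zpowers {m c : W} (hm : m ∈ D.Mb) (hc : c ∈ Subgroup.zpowers D.h) : m * c = c * m := by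
  obtain ⟨k, rfl⟩ := hc
  exact (Commute.zpow_right (D.central m hm : Commute m D.h) k).eq

theorem sq_mem (w : W) : w * w ∈ D.Mb := by
  have h := Subgroup.sq_mem_of_index_two D.index w
  rwa [sq] at h

theorem mem_of_odd {w : W} (hw : Odd (orderOf w)) : w ∈ D.Mb := by
  obtain ⟨k, hk⟩ := hw
  have e : w = (w * w) ^ (k + 1) := by
    rw [← sq, ← pow_mul, show 2 * (k + 1) = orderOf w + 1 by omega, pow_succ, pow_orderOf_eq_one,
      one_mul]
  rw [e]
  exact pow_mem (D.sq_mem w) _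

/-- a normal subgroup of `P` above `A` with one element outside `A` is everything -/
theorem eq_top_of_normal (N : Subgroup D.P) [N.Normal] (hA : ∀ p : D.P, (p : W) ∈ D.A → p ∈ N)
    (hne : ∃ p ∈ N, (p : W) ∉ D.A) : N = ⊤ := by
  haveI : IsSimpleGroup (alternatingGroup (Fin 6)) :=
    alternatingGroup.isSimpleGroup (by simp)
  obtain ⟨p, hp, hpA⟩ := hne
  rcases IsSimpleGroup.eq_bot_or_eq_top_of_normal (N.map D.π)
      (Subgroup.Normal.map inferInstance D.π D.surj) with h | h
  · exfalso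
    apply hpA
    rw [← D.ker, ← Subgroup.mem_bot, ← h]
    exact ⟨p, hp, rfl⟩
  · rw [eq_top_iff]
    intro x _
    obtain ⟨y, hy, hxy⟩ := (h ▸ Subgroup.mem_top (D.π x) : D.π x ∈ N.map D.π)
    have hk : (↑(y⁻¹ * x) : W) ∈ D.A := (D.ker _).mp (by rw [map_mul, map_inv, hxy, inv_mul_cancel])
    simpa using mul_mem hy (hA _ hk)

theorem not_comm_alt : ∃ a c : alternatingGroup (Fin 6), a * c ≠ c * a :=
  ⟨⟨Equiv.swap 0 1 * Equiv.swap 1 2, by simp [Equiv.Perm.mem_alternatingGroup]⟩,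
    ⟨Equiv.swap 0 1 * Equiv.swap 2 3, by simp [Equiv.Perm.mem_alternatingGroup]⟩,
    fun h => absurd (congrArg (fun x : alternatingGroup (Fin 6) => (x : Equiv.Perm (Fin 6)) 0) h)
      (by decide)⟩

/-- a normal subgroup of `P` above `A` with commutative quotient is everything -/
theorem eq_top_of_comm (N : Subgroup D.P) [N.Normal] (hA : ∀ p : D.P, (p : W) ∈ D.A → p ∈ N)
    (hcomm : ∀ x y : D.P, x * y * x⁻¹ * y⁻¹ ∈ N) : N = ⊤ := by
  obtain ⟨a, c, hac⟩ := D.not_comm_alt
  obtain ⟨x, rfl⟩ := D.surj a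
  obtain ⟨y, rfl⟩ := D.surj c
  refine D.eq_top_of_normal N hA ⟨_, hcomm x y, fun h => hac ?_⟩
  have e := (D.ker _).mpr h
  simp only [map_mul, map_inv] at e
  exact mul_inv_eq_iff_eq_mul.mp (mul_inv_eq_one.mp e)

theorem card_P : Nat.card D.P = 360 * 243 := by
  have h := Subgroup.card_eq_card_quotient_mul_card_subgroup D.π.ker
  have hk : D.π.ker = D.A.subgroupOf D.P := by
    ext p; rw [MonoidHom.mem_ker, D.ker, Subgroup.mem_subgroupOf]
  rw [Nat.card_congr (QuotientGroup.quotientKerEquivOfSurjective D.π D.surj).toEquiv, hk,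
    Nat.card_congr (Subgroup.subgroupOfEquivOfLe D.A_le).toEquiv, D.cardA,
    nat_card_alternatingGroup] at h
  rw [h, Nat.card_eq_fintype_card, Fintype.card_fin]
  rfl

theorem isPGroup_A : IsPGroup 3 D.A := IsPGroup.of_card (n := 5) (by rw [D.cardA]; norm_num)

/-- the centraliser of an element of order five in a subgroup of `A` it normalises -/
theorem card_fixed {t : W} (ht : orderOf t = 5) (X : Subgroup W) (hX : X ≤ D.A)
    (hXt : ∀ a ∈ X, t * a * t⁻¹ ∈ X) :
    Nat.card X ≡ Nat.card (X ⊓ Subgroup.centralizer ({t} : Set W) : Subgroup W) [MOD 5] := by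
  haveI : Fact (Nat.Prime 5) := ⟨Nat.prime_five⟩
  let U := Subgroup.zpowers t
  have hUn : U ≤ Subgroup.normalizer (X : Set W) :=
    Subgroup.zpowers_le.mpr (Subgroup.mem_normalizer_fintype hXt)
  letI : MulAction U X :=
    { smul := fun u a => ⟨u * a * u⁻¹, (Subgroup.mem_normalizer_iff.mp (hUn u.2) a).mp a.2⟩
      one_smul := fun a => Subtype.ext (by show (1 : W) * a * 1⁻¹ = a; group)
      mul_smul := fun u u' a => Subtype.ext (by
        show (↑(u * u') : W) * a * (↑(u * u') : W)⁻¹ = u * (u' * a * (u' : W)⁻¹) * (u : W)⁻¹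
        rw [Subgroup.coe_mul]; group) }
  have hU : IsPGroup 5 U := IsPGroup.of_card (n := 1) (by rw [Nat.card_zpowers, ht, pow_one])
  have hmod := hU.card_modEq_card_fixedPoints X
  have hfix : Nat.card (MulAction.fixedPoints U X) =
      Nat.card (X ⊓ Subgroup.centralizer ({t} : Set W) : Subgroup W) := by
    refine Nat.card_congr ⟨fun a => ⟨a.1.1, a.1.2, ?_⟩, fun a => ⟨⟨a.1, a.2.1⟩, fun u => ?_⟩,
      fun a => rfl, fun a => rfl⟩
    · show a.1.1 ∈ Subgroup.centralizer ({t} : Set W)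
      rw [Subgroup.mem_centralizer_singleton_iff]
      exact (mul_inv_eq_iff_eq_mul.mp (congrArg Subtype.val (a.2 ⟨t, Subgroup.mem_zpowers t⟩))).symm
    · apply Subtype.ext
      show (u : W) * a.1 * (u : W)⁻¹ = a.1
      obtain ⟨k, hk⟩ := u.2
      have hc : Commute t a.1 := (Subgroup.mem_centralizer_singleton_iff.mp a.2.2).symm
      rw [mul_inv_eq_iff_eq_mul, ← hk]
      exact (hc.zpow_left k).eq
  rwa [hfix] at hmod

theorem card_pow_three {X : Subgroup W} (hX : X ≤ D.A) : ∃ i ≤ 5, Nat.card X = 3 ^ i := by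
  have hXd : Nat.card X ∣ 3 ^ 5 := (D.cardA ▸ Subgroup.card_dvd_of_le hX : Nat.card X ∣ 243)
  exact (Nat.dvd_prime_pow Nat.prime_three).mp hXd

/-- a subgroup of `A` above `⟨h⟩` normalised by `P` is one of the two trivial ones -/
theorem invariant_cases (A0 : Subgroup W) (hle : A0 ≤ D.A) (hh : D.h ∈ A0)
    (hinv : ∀ p ∈ D.P, ∀ a ∈ A0, p * a * p⁻¹ ∈ A0) : A0 = D.A ∨ A0 = Subgroup.zpowers D.h := by
  haveI : Fact (Nat.Prime 5) := ⟨Nat.prime_five⟩
  haveI : Fact (Nat.Prime 3) := ⟨Nat.prime_three⟩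
  obtain ⟨⟨t, htP⟩, ht⟩ := exists_prime_orderOf_dvd_card' (G := D.P) 5 (by rw [D.card_P]; norm_num)
  rw [Subgroup.orderOf_mk] at ht
  have htA : t ∉ D.A := fun h => by
    have := orderOf_dvd_natCard (⟨t, h⟩ : D.A)
    rw [Subgroup.orderOf_mk, ht, D.cardA] at this
    norm_num at this
  have hthC : D.h ∈ Subgroup.centralizer ({t} : Set W) :=
    Subgroup.mem_centralizer_singleton_iff.mpr (D.central t (D.P_le htP)).symm
  have h3 : Nat.card (Subgroup.zpowers D.h) = 3 := by rw [Nat.card_zpowers, D.h_order]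
  by_contra hcon
  push Not at hcon
  -- `C_{A₀}(t) = A₀`
  set C0 : Subgroup W := A0 ⊓ Subgroup.centralizer ({t} : Set W) with hC0
  obtain ⟨i, hi, hiX⟩ := D.card_pow_three hle
  obtain ⟨j, hj, hjC⟩ := D.card_pow_three ((inf_le_left : C0 ≤ A0).trans hle)
  have hmod0 := D.card_fixed ht A0 hle (fun a ha => hinv t htP a ha)
  have hle0 : Nat.card C0 ≤ Nat.card A0 := Subgroup.card_le_of_le inf_le_left
  have h30 : 3 ≤ Nat.card C0 := h3 ▸ Subgroup.card_le_of_le (Subgroup.zpowers_le.mpr ⟨hh, hthC⟩)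
  have hA0lt : Nat.card A0 ≠ 243 := fun h =>
    hcon.1 (Subgroup.eq_of_le_of_card_ge hle (by rw [h, D.cardA]))
  have hCA0 : Nat.card A0 ≤ Nat.card C0 := by
    rw [hiX, hjC] at hmod0 hle0 ⊢
    rw [hjC] at h30
    rw [hiX] at hA0lt
    interval_cases i <;> interval_cases j <;> simp_all [Nat.ModEq]
  have hA0C : A0 ≤ Subgroup.centralizer ({t} : Set W) := by
    rw [← Subgroup.eq_of_le_of_card_ge (inf_le_left : C0 ≤ A0) hCA0]
    exact inf_le_right
  have hA03 : 3 < Nat.card A0 := by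
    by_contra hn
    exact hcon.2 (Subgroup.eq_of_le_of_card_ge (Subgroup.zpowers_le.mpr hh) (by omega)).symm
  -- so `C_A(t)` is all of `A`
  set CA : Subgroup W := D.A ⊓ Subgroup.centralizer ({t} : Set W) with hCA
  have hmod := D.card_fixed ht D.A le_rfl (fun a ha => D.A_conj t htP a ha)
  have hA0CA : Nat.card A0 ≤ Nat.card CA := Subgroup.card_le_of_le (le_inf hle hA0C)
  obtain ⟨k, hk, hkC⟩ := D.card_pow_three (inf_le_left : CA ≤ D.A)
  have hCAcard : Nat.card D.A ≤ Nat.card CA := by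
    rw [hkC, D.cardA] at hmod ⊢
    rw [hkC] at hA0CA
    interval_cases k <;> simp_all [Nat.ModEq] <;> omega
  have hCAall : ∀ a ∈ D.A, t * a = a * t := fun a ha => by
    have e : CA = D.A := Subgroup.eq_of_le_of_card_ge (inf_le_left : CA ≤ D.A) hCAcard
    have ha' : a ∈ CA := e.symm ▸ ha
    exact (Subgroup.mem_centralizer_singleton_iff.mp ha'.2).symm
  -- hence `P` centralises `A` modulo `⟨h⟩`
  let K : Subgroup D.P :=
    { carrier := {p | ∀ a ∈ D.A, (p : W) * a * (p : W)⁻¹ * a⁻¹ ∈ Subgroup.zpowers D.h}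
      one_mem' := fun a _ => by simp
      mul_mem' := fun {p p'} hp hp' a ha => by
        have e : (↑(p * p') : W) * a * (↑(p * p') : W)⁻¹ * a⁻¹ =
            ((p : W) * ((p' : W) * a * (p' : W)⁻¹) * (p : W)⁻¹ * ((p' : W) * a * (p' : W)⁻¹)⁻¹) *
              ((p' : W) * a * (p' : W)⁻¹ * a⁻¹) := by
          rw [Subgroup.coe_mul]; group
        rw [e]
        exact mul_mem (hp _ (D.A_conj p' p'.2 a ha)) (hp' a ha)
      inv_mem' := fun {p} hp a ha => by
        have hb : (p : W)⁻¹ * a * p ∈ D.A := by simpa using D.A_conj _ (inv_mem p.2) a ha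
        have := inv_mem (hp _ hb)
        simpa [mul_assoc] using this }
  haveI hKn : K.Normal := ⟨fun p hp x a ha => by
    have hb : (x : W)⁻¹ * a * x ∈ D.A := by simpa using D.A_conj _ (inv_mem x.2) a ha
    have hc := hp _ hb
    have e : (↑(x * p * x⁻¹) : W) * a * (↑(x * p * x⁻¹) : W)⁻¹ * a⁻¹ =
        x * ((p : W) * ((x : W)⁻¹ * a * x) * (p : W)⁻¹ * ((x : W)⁻¹ * a * x)⁻¹) * (x : W)⁻¹ := by
      simp only [Subgroup.coe_mul, Subgroup.coe_inv]; group
    rw [e, D.commute_zpowers (D.P_le x.2) hc, mul_inv_cancel_right]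
    exact hc⟩
  have hK : K = ⊤ := D.eq_top_of_normal K (fun p hp a ha => D.comm_mod p hp a ha)
    ⟨⟨t, htP⟩, fun a ha => by
      show t * a * t⁻¹ * a⁻¹ ∈ _
      rw [hCAall a ha]; simp, htA⟩
  obtain ⟨p, hp, a, ha, hpa⟩ := D.moves
  exact hpa ((hK ▸ Subgroup.mem_top (⟨p, hp⟩ : D.P) : (⟨p, hp⟩ : D.P) ∈ K) a ha)

theorem cube (a : W) (ha : a ∈ D.A) : a * a * a = 1 := by
  have hcm : ∀ x ∈ D.A, ∀ y ∈ D.A, (x * y) * (x * y) * (x * y) = (x * x * x) * (y * y * y) := by
    intro x hx y hy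
    have hc : y * x * y⁻¹ * x⁻¹ ∈ Subgroup.zpowers D.h := D.comm_mod y hy x hx
    set c := y * x * y⁻¹ * x⁻¹ with hcdef
    have hyx : y * x = c * (x * y) := by rw [hcdef]; group
    have hcc : ∀ m ∈ D.A, m * c = c * m := fun m hm => D.commute_zpowers (D.A_le_Mb hm) hc
    have hc3 : c * c * c = 1 := by
      rcases D.zpowers_cases hc with e | e | e <;> rw [e]
      · simp
      · exact D.h_cube
      · calc D.h * D.h * (D.h * D.h) * (D.h * D.h) = (D.h * D.h * D.h) * (D.h * D.h * D.h) := by group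
          _ = 1 := by rw [D.h_cube, one_mul]
    calc (x * y) * (x * y) * (x * y) = x * (y * x) * y * (x * y) := by group
      _ = x * (c * (x * y)) * y * (x * y) := by rw [hyx]
      _ = c * (x * x * (y * y * x) * y) := by rw [← mul_assoc x c, hcc x hx]; group
      _ = c * (x * x * (y * (c * (x * y))) * y) := by rw [mul_assoc y y x, hyx]
      _ = c * (x * x * (c * (y * (x * y))) * y) := by rw [← mul_assoc y c, hcc y hy]; group
      _ = c * (c * (x * x * ((y * x) * y) * y)) := by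
          rw [← mul_assoc (x * x) c, hcc _ (mul_mem hx hx)]; group
      _ = c * (c * (x * x * ((c * (x * y)) * y) * y)) := by rw [hyx]
      _ = c * c * c * (x * x * x * (y * y * y)) := by
          rw [mul_assoc c (x * y) y, ← mul_assoc (x * x) c, hcc _ (mul_mem hx hx)]; group
      _ = _ := by rw [hc3, one_mul]
  let A0 : Subgroup W :=
    { carrier := {x | x ∈ D.A ∧ x * x * x = 1}
      one_mem' := ⟨one_mem _, by simp⟩
      mul_mem' := fun {x y} hx hy => ⟨mul_mem hx.1 hy.1, by rw [hcm x hx.1 y hy.1, hx.2, hy.2, one_mul]⟩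
      inv_mem' := fun {x} hx => ⟨inv_mem hx.1, by
        have e := congrArg (·⁻¹) hx.2
        simpa [mul_assoc] using e⟩ }
  rcases D.invariant_cases A0 (fun x hx => hx.1) ⟨D.h_A, D.h_cube⟩ (fun p hp x hx => by
      refine ⟨D.A_conj p hp x hx.1, ?_⟩
      calc p * x * p⁻¹ * (p * x * p⁻¹) * (p * x * p⁻¹) = p * (x * x * x) * p⁻¹ := by group
        _ = 1 := by rw [hx.2]; group) with h | h
  · exact (h ▸ ha : a ∈ A0).2
  · exfalso
    let φ : D.A →* W :=
      { toFun := fun x => (x : W) * x * x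
        map_one' := by simp
        map_mul' := fun x y => hcm x x.2 y y.2 }
    have hk : φ.ker.map D.A.subtype = A0 := by
      ext x
      constructor
      · rintro ⟨⟨x, hx⟩, hx', rfl⟩
        exact ⟨hx, hx'⟩
      · rintro ⟨hx, hx'⟩
        exact ⟨⟨x, hx⟩, hx', rfl⟩
    have hr : φ.range ≤ Subgroup.zpowers D.h := by
      rintro _ ⟨x, rfl⟩; exact D.cube_mod x x.2
    have h3 : Nat.card φ.range ≤ 3 := by
      have := Subgroup.card_le_of_le hr
      rwa [Nat.card_zpowers, D.h_order] at this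
    have hmul := Subgroup.card_eq_card_quotient_mul_card_subgroup φ.ker
    rw [Nat.card_congr (QuotientGroup.quotientKerEquivRange φ).toEquiv, D.cardA] at hmul
    have hkc : Nat.card φ.ker = 3 := by
      rw [Nat.card_congr (Subgroup.equivMapOfInjective _ _ D.A.subtype_injective).toEquiv, hk, h,
        Nat.card_zpowers, D.h_order]
    rw [hkc] at hmul
    omega

theorem smul_cube {a : W} (ha : a ∈ D.A) (v : V) : a • a • a • v = v := by
  rw [smul_smul, smul_smul, D.cube a ha, one_smul]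

theorem card_piece {E B : Subgroup W} (hE : Pieces.ElemThree E) (hB : Pieces.IsHyp E B) {w : V}
    (hw : w ∈ Pieces.piece (V := V) E B) (hw0 : w ≠ 0) :
    4 ≤ Nat.card (Pieces.piece (V := V) E B) := by
  obtain ⟨t, ht, htB, -⟩ := hB.cover
  have hc : ∀ b ∈ B, ∀ x : V, b • t • x = t • b • x := fun b hb x => by
    rw [smul_smul, smul_smul, hE.comm b (hB.le hb) t ht]
  have hmem : t • w ∈ Pieces.piece (V := V) E B := by
    refine ⟨fun b hb => by rw [hc b hb, hw.1 b hb], fun s hs hsB => ?_⟩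
    have hst : ∀ x : V, s • t • x = t • s • x := fun x => by
      rw [smul_smul, smul_smul, hE.comm s hs t ht]
    rw [hst, hst, ← smul_add, ← smul_add, hw.2 s hs hsB, smul_zero]
  have h3 := hw.2 t ht htB
  have n1 : t • w ≠ 0 := fun h => hw0 (by simpa [h] using h3)
  have n2 : w + t • w ≠ 0 := fun h => hw0 (by
    have e : t • w = w := (eq_neg_of_add_eq_zero_right h).trans (neg_eq_of_add_eq_zero_left (D.two w))
    rw [e, e, D.two, zero_add] at h3
    exact h3)
  have n3 : w ≠ t • w := fun h => n2 (by rw [← h, D.two])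
  let f : Fin 4 → Pieces.piece (V := V) E B :=
    ![0, ⟨w, hw⟩, ⟨t • w, hmem⟩, ⟨w + t • w, add_mem hw hmem⟩]
  have hf : Function.Injective f := by
    intro i j h
    have h' := congrArg Subtype.val h
    fin_cases i <;> fin_cases j <;> simp [f] at h' ⊢ <;>
      first
        | exact hw0 h'
        | exact hw0 h'.symm
        | exact n1 h'
        | exact n1 h'.symm
        | exact n2 h'
        | exact n2 h'.symm
        | exact n3 h'
        | exact n3 h'.symm
  have := Nat.card_le_card_of_injective f hf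
  simpa using this

/-- at most six hyperplanes with non-zero pieces -/
theorem card_hyps_le {E : Subgroup W} (hE : Pieces.ElemThree E) {ι : Type*} [Fintype ι]
    (B : ι → Subgroup W) (hB : ∀ i, Pieces.IsHyp E (B i)) (hinj : Function.Injective B)
    (hne : ∀ i, ∃ w ∈ Pieces.piece (V := V) E (B i), w ≠ 0) : Fintype.card ι ≤ 6 := by
  have h := Nat.card_le_card_of_injective _ (Pieces.sum_injective (V := V) D.two hE B hB hinj)
  rw [Nat.card_pi, D.cardV] at h
  have h4 : 4 ^ Fintype.card ι ≤ ∏ i, Nat.card (Pieces.piece (V := V) E (B i)) := by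
    rw [← Finset.card_univ, ← Finset.prod_const]
    exact Finset.prod_le_prod' fun i _ => by
      obtain ⟨w, hw, hw0⟩ := hne i
      exact D.card_piece hE (hB i) hw hw0
  by_contra hc
  have h7 : 4 ^ 7 ≤ 4 ^ Fintype.card ι := Nat.pow_le_pow_right (by norm_num) (by omega)
  omega

theorem exists_moved : ∃ v : V, D.h • v ≠ v := by
  by_contra hc
  push Not at hc
  exact D.h_ne (D.faithful _ hc)

theorem comm (a : W) (ha : a ∈ D.A) (c : W) (hc : c ∈ D.A) : a * c = c * a := by
  by_contra hcon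
  let Z : Subgroup W := D.A ⊓ Subgroup.centralizer (D.A : Set W)
  have hZh : Z = Subgroup.zpowers D.h := by
    rcases D.invariant_cases Z inf_le_left
        ⟨D.h_A, Subgroup.mem_centralizer_iff.mpr fun x hx => (D.central x (D.A_le_Mb hx))⟩
        (fun p hp x hx => ⟨D.A_conj p hp x hx.1, Subgroup.mem_centralizer_iff.mpr fun y hy => by
          have hy' : p⁻¹ * y * p ∈ D.A := by simpa using D.A_conj _ (inv_mem hp) y hy
          have e := Subgroup.mem_centralizer_iff.mp hx.2 _ hy'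
          calc y * (p * x * p⁻¹) = p * ((p⁻¹ * y * p) * x) * p⁻¹ := by group
            _ = p * (x * (p⁻¹ * y * p)) * p⁻¹ := by rw [e]
            _ = _ := by group⟩) with h | h
    · exact absurd (Subgroup.mem_centralizer_iff.mp ((h ▸ ha : a ∈ Z)).2 c hc).symm hcon
    · exact h
  have haz : a ∉ Subgroup.zpowers D.h := fun h => hcon (D.commute_zpowers (D.A_le_Mb hc) h).symm
  -- the commutator with a fixed element
  have hom : ∀ u ∈ D.A, ∀ x ∈ D.A, ∀ y ∈ D.A,
      x * y * u * (x * y)⁻¹ * u⁻¹ = (x * u * x⁻¹ * u⁻¹) * (y * u * y⁻¹ * u⁻¹) := by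
    intro u hu x hx y hy
    have hk := D.comm_mod y hy u hu
    set k := y * u * y⁻¹ * u⁻¹ with hkdef
    calc x * y * u * (x * y)⁻¹ * u⁻¹ = x * k * u * x⁻¹ * u⁻¹ := by rw [hkdef]; group
      _ = k * (x * u * x⁻¹ * u⁻¹) := by rw [D.commute_zpowers (D.A_le_Mb hx) hk]; group
      _ = _ := (D.commute_zpowers (D.A_le_Mb (mul_mem (mul_mem (mul_mem hx hu) (inv_mem hx))
          (inv_mem hu))) hk).symm
  let χ : (u : W) → u ∈ D.A → (D.A →* W) := fun u hu =>
    { toFun := fun x => (x : W) * u * (x : W)⁻¹ * u⁻¹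
      map_one' := by simp
      map_mul' := fun x y => by rw [Subgroup.coe_mul]; exact hom u hu x x.2 y y.2 }
  have hidx : ∀ u (hu : u ∈ D.A), 81 ≤ Nat.card (χ u hu).ker := by
    intro u hu
    have hr : (χ u hu).range ≤ Subgroup.zpowers D.h := by
      rintro _ ⟨x, rfl⟩; exact D.comm_mod x x.2 u hu
    have h3 : Nat.card (χ u hu).range ≤ 3 := by
      have := Subgroup.card_le_of_le hr
      rwa [Nat.card_zpowers, D.h_order] at this
    have hmul := Subgroup.card_eq_card_quotient_mul_card_subgroup (χ u hu).ker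
    rw [Nat.card_congr (QuotientGroup.quotientKerEquivRange (χ u hu)).toEquiv, D.cardA] at hmul
    nlinarith
  set Ca := (χ a ha).ker with hCa
  set S : Subgroup W := Subgroup.closure {D.h, a} with hS
  have hSle : S ≤ D.A := (Subgroup.closure_le _).mpr (by
    rintro x (rfl | rfl)
    exacts [D.h_A, ha])
  have hScard : Nat.card S ≤ 9 := by
    have hca : Commute a D.h := D.central a (D.A_le_Mb ha)
    have hn : Subgroup.zpowers a ≤ Subgroup.normalizer (Subgroup.zpowers D.h : Set W) := by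
      rw [Subgroup.zpowers_le]
      refine Subgroup.mem_normalizer_fintype ?_
      rintro _ ⟨k, rfl⟩
      refine ⟨k, ?_⟩
      show D.h ^ k = a * D.h ^ k * a⁻¹
      rw [(hca.zpow_right k).eq, mul_inv_cancel_right]
    have hsub : S ≤ Subgroup.zpowers D.h ⊔ Subgroup.zpowers a := (Subgroup.closure_le _).mpr (by
      rintro x (rfl | rfl)
      exacts [Subgroup.mem_sup_left (Subgroup.mem_zpowers _), Subgroup.mem_sup_right (Subgroup.mem_zpowers _)])
    refine (Subgroup.card_le_of_le hsub).trans ?_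
    rw [← SetLike.coe_sort_coe, Subgroup.coe_mul_of_right_le_normalizer_left _ _ hn,
      Nat.card_coe_set_eq]
    calc ((Subgroup.zpowers D.h : Set W) * (Subgroup.zpowers a : Set W)).ncard
        ≤ Nat.card (Subgroup.zpowers D.h) * Nat.card (Subgroup.zpowers a) := by
          simp only [← Nat.card_coe_set_eq]; exact Set.natCard_mul_le
      _ ≤ 3 * 3 := Nat.mul_le_mul (by rw [Nat.card_zpowers, D.h_order]) (by
          rw [Nat.card_zpowers]
          exact Nat.le_of_dvd (by norm_num)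
            (orderOf_dvd_of_pow_eq_one (by rw [pow_succ, sq]; exact D.cube a ha)))
      _ = 9 := rfl
  obtain ⟨⟨d, hdA⟩, hd, hdS⟩ : ∃ d ∈ Ca, (d : W) ∉ S := by
    by_contra hn
    push Not at hn
    have := Nat.card_le_card_of_injective (fun x : Ca => (⟨x.1.1, hn x.1 x.2⟩ : S))
      (fun x y h => Subtype.ext (Subtype.ext (congrArg Subtype.val h :)))
    have := hidx a ha
    rw [← hCa] at this
    omega
  have had : d * a = a * d := mul_inv_eq_iff_eq_mul.mp (mul_inv_eq_one.mp hd)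
  set E : Subgroup W := Subgroup.closure {D.h, a, d} with hE
  have hgenA : ({D.h, a, d} : Set W) ⊆ D.A := by
    rintro x (rfl | rfl | rfl)
    exacts [D.h_A, ha, hdA]
  have hEle : E ≤ D.A := (Subgroup.closure_le _).mpr hgenA
  have hgenc : ∀ x ∈ ({D.h, a, d} : Set W), ∀ y ∈ ({D.h, a, d} : Set W), x * y = y * x := by
    have hh : ∀ y ∈ ({D.h, a, d} : Set W), D.h * y = y * D.h :=
      fun y hy => (D.central y (D.A_le_Mb (hgenA hy))).symm
    rintro x (rfl | rfl | rfl) y hy
    · exact hh y hy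
    · rcases hy with rfl | rfl | rfl
      exacts [D.central _ (D.A_le_Mb ha), rfl, had.symm]
    · rcases hy with rfl | rfl | rfl
      exacts [D.central _ (D.A_le_Mb hdA), had, rfl]
  have hEel : Pieces.ElemThree E := by
    refine ⟨fun x hx y hy => ?_, fun x hx => D.cube x (hEle hx)⟩
    have h1 : E ≤ Subgroup.centralizer ({D.h, a, d} : Set W) := (Subgroup.closure_le _).mpr
      fun p hp => Subgroup.mem_centralizer_iff.mpr fun r hr => hgenc r hr p hp
    have h2 : E ≤ Subgroup.centralizer (E : Set W) := (Subgroup.closure_le _).mpr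
      fun p hp => Subgroup.mem_centralizer_iff.mpr fun r hr =>
        (Subgroup.mem_centralizer_iff.mp (h1 hr) p hp).symm
    exact (Subgroup.mem_centralizer_iff.mp (h2 hx) y hy).symm
  have hnorm : ∀ x ∈ D.A, ∀ e : W, e ∈ E → x * e * x⁻¹ ∈ E := by
    intro x hx e he
    have : x * e * x⁻¹ = (x * e * x⁻¹ * e⁻¹) * e := by group
    rw [this]
    exact mul_mem (Subgroup.zpowers_le.mpr (Subgroup.subset_closure (by simp)) (D.comm_mod x hx e (hEle he))) he
  obtain ⟨v, hv⟩ := D.exists_moved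
  obtain ⟨B, hB, hhB, w, hw, hw0⟩ := Pieces.exists_hyp (V := V) D.two hEel
    (Subgroup.subset_closure (by simp) : D.h ∈ E) hv
  -- the stabiliser of `B` in `A` centralises `a` and `d`
  have hstab : ∀ x ∈ D.A, (∀ e ∈ B, x * e * x⁻¹ ∈ B) → ∀ u ∈ E, x * u * x⁻¹ * u⁻¹ = 1 := by
    intro x hx hxB u hu
    have hk : x * u * x⁻¹ * u⁻¹ ∈ Subgroup.zpowers D.h := D.comm_mod x hx u (hEle hu)
    have hkB : x * u * x⁻¹ * u⁻¹ ∈ B := by
      have hhm : ∀ j : W, j ∈ Subgroup.zpowers D.h → x * j * x⁻¹ = j := fun j hj => by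
        rw [D.commute_zpowers (D.A_le_Mb hx) hj, mul_inv_cancel_right]
      rcases hB.cover_of hEel (Subgroup.subset_closure (by simp) : D.h ∈ E) hhB u hu with h1 | h1 | h1
      · exact mul_mem (hxB u h1) (inv_mem h1)
      · have e2 : x * u * x⁻¹ * u⁻¹ = x * (u * D.h) * x⁻¹ * (u * D.h)⁻¹ := by
          have := hhm _ (Subgroup.mem_zpowers D.h)
          calc x * u * x⁻¹ * u⁻¹ = x * u * x⁻¹ * D.h * (u * D.h)⁻¹ := by group
            _ = x * u * x⁻¹ * (x * D.h * x⁻¹) * (u * D.h)⁻¹ := by rw [this]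
            _ = _ := by group
        rw [e2]; exact mul_mem (hxB _ h1) (inv_mem h1)
      · have e2 : x * u * x⁻¹ * u⁻¹ = x * (u * D.h * D.h) * x⁻¹ * (u * D.h * D.h)⁻¹ := by
          have := hhm _ (Subgroup.mem_zpowers D.h)
          calc x * u * x⁻¹ * u⁻¹ = x * u * x⁻¹ * D.h * D.h * (u * D.h * D.h)⁻¹ := by group
            _ = x * u * x⁻¹ * (x * D.h * x⁻¹) * (x * D.h * x⁻¹) * (u * D.h * D.h)⁻¹ := by rw [this]
            _ = _ := by group
        rw [e2]; exact mul_mem (hxB _ h1) (inv_mem h1)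
    rcases D.zpowers_cases hk with e | e | e
    · exact e
    · exact absurd (e ▸ hkB) hhB
    · exfalso
      refine hhB ?_
      have h1 : D.h * D.h ∈ B := e ▸ hkB
      have e1 : (D.h * D.h) * (D.h * D.h) = D.h := by
        rw [← mul_assoc, D.h_cube, one_mul]
      exact e1 ▸ mul_mem h1 h1
  let f : D.A → Subgroup W := fun x => B.map (MulAut.conj (x : W)).toMonoidHom
  set K : Subgroup D.A := (χ a ha).ker ⊓ (χ d hdA).ker with hK
  have hfK : ∀ x y : D.A, f x = f y → x⁻¹ * y ∈ K := by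
    intro x y hxy
    have hst : ∀ e ∈ B, (↑(x⁻¹ * y) : W) * e * (↑(x⁻¹ * y) : W)⁻¹ ∈ B := by
      intro e he
      have hm : (y : W) * e * (y : W)⁻¹ ∈ f x := hxy ▸ ⟨e, he, rfl⟩
      obtain ⟨e', he', hee⟩ := hm
      have hee' : (x : W) * e' * (x : W)⁻¹ = (y : W) * e * (y : W)⁻¹ := hee
      have : (↑(x⁻¹ * y) : W) * e * (↑(x⁻¹ * y) : W)⁻¹ = e' := by
        calc (↑(x⁻¹ * y) : W) * e * (↑(x⁻¹ * y) : W)⁻¹
            = (x : W)⁻¹ * ((y : W) * e * (y : W)⁻¹) * x := by
              simp only [Subgroup.coe_mul, Subgroup.coe_inv]; group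
          _ = e' := by rw [← hee']; group
      rw [this]; exact he'
    exact ⟨hstab _ (x⁻¹ * y).2 hst a (Subgroup.subset_closure (by simp)),
      hstab _ (x⁻¹ * y).2 hst d (Subgroup.subset_closure (by simp))⟩
  have hKcard : Nat.card K ≤ 27 := by
    by_contra hn
    have hd' : Nat.card K ∣ 243 := D.cardA ▸ Subgroup.card_subgroup_dvd_card K
    obtain ⟨i, hi, hiK⟩ := (Nat.dvd_prime_pow Nat.prime_three).mp (show Nat.card K ∣ 3 ^ 5 by simpa using hd')
    have hK81 : 81 ≤ Nat.card K := by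
      rw [hiK] at hn ⊢
      interval_cases i <;> simp_all
    have hKa : K = (χ a ha).ker := by
      refine Subgroup.eq_of_le_of_card_ge inf_le_left ?_
      by_contra hgt
      have hd2 : Nat.card (χ a ha).ker ∣ 243 := D.cardA ▸ Subgroup.card_subgroup_dvd_card _
      have hd3 : Nat.card K ∣ Nat.card (χ a ha).ker := Subgroup.card_dvd_of_le inf_le_left
      obtain ⟨m, hm⟩ := hd3
      have hall : Nat.card (χ a ha).ker = 243 := by
        have h1 := Nat.le_of_dvd (by norm_num) hd2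
        obtain ⟨l, hl, hlk⟩ := (Nat.dvd_prime_pow Nat.prime_three).mp (show Nat.card (χ a ha).ker ∣ 3 ^ 5 by simpa using hd2)
        rw [hlk] at hgt ⊢
        interval_cases l <;> simp_all <;> omega
      apply haz
      rw [← hZh]
      refine ⟨ha, Subgroup.mem_centralizer_iff.mpr fun y hy => ?_⟩
      have ht : (χ a ha).ker = ⊤ := Subgroup.eq_top_of_card_eq _ (by rw [hall, D.cardA])
      have hy' : (⟨y, hy⟩ : D.A) ∈ (χ a ha).ker := ht ▸ Subgroup.mem_top _
      exact mul_inv_eq_iff_eq_mul.mp (mul_inv_eq_one.mp hy')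
    -- then a combination of `a` and `d` is central
    obtain ⟨y, hy⟩ : ∃ y : D.A, y ∉ (χ a ha).ker := by
      by_contra hn2
      push Not at hn2
      apply haz
      rw [← hZh]
      exact ⟨ha, Subgroup.mem_centralizer_iff.mpr fun y hy =>
        mul_inv_eq_iff_eq_mul.mp (mul_inv_eq_one.mp (hn2 ⟨y, hy⟩))⟩
    have hca : (y : W) * a * (y : W)⁻¹ * a⁻¹ ∈ Subgroup.zpowers D.h := D.comm_mod y y.2 a ha
    have hne1 : (y : W) * a * (y : W)⁻¹ * a⁻¹ ≠ 1 := hy
    obtain ⟨i, hi⟩ : ∃ i : ℕ, (y : W) * d * (y : W)⁻¹ * d⁻¹ = ((y : W) * a * (y : W)⁻¹ * a⁻¹) ^ i := by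
      have hcd : (y : W) * d * (y : W)⁻¹ * d⁻¹ ∈ Subgroup.zpowers D.h := D.comm_mod y y.2 d hdA
      rcases D.zpowers_cases hca with e | e | e
      · exact absurd e hne1
      · rw [e]
        rcases D.zpowers_cases hcd with e' | e' | e'
        exacts [⟨0, by rw [e', pow_zero]⟩, ⟨1, by rw [e', pow_one]⟩, ⟨2, by rw [e', sq]⟩]
      · rw [e]
        rcases D.zpowers_cases hcd with e' | e' | e'
        exacts [⟨0, by rw [e', pow_zero]⟩, ⟨2, by rw [e', sq, ← mul_assoc, D.h_cube, one_mul]⟩,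
          ⟨1, by rw [e', pow_one]⟩]
    set u := a ^ i * d⁻¹ with hu
    have huA : u ∈ D.A := mul_mem (pow_mem ha i) (inv_mem hdA)
    let Cu : Subgroup D.A := (χ u huA).ker
    have hsubK : (χ a ha).ker ≤ Cu := by
      intro x hx
      have hxd : x ∈ (χ d hdA).ker := (hKa ▸ hx : x ∈ K).2
      have c1 : Commute (x : W) a := mul_inv_eq_iff_eq_mul.mp (mul_inv_eq_one.mp hx)
      have c2 : Commute (x : W) d := mul_inv_eq_iff_eq_mul.mp (mul_inv_eq_one.mp hxd)
      show (x : W) * u * (x : W)⁻¹ * u⁻¹ = 1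
      rw [((c1.pow_right i).mul_right c2.inv_right).eq, mul_inv_cancel_right, mul_inv_cancel]
    have hyu : y ∈ Cu := by
      show (y : W) * u * (y : W)⁻¹ * u⁻¹ = 1
      set k := (y : W) * a * (y : W)⁻¹ * a⁻¹ with hkdef
      have hka : Commute k a := (D.commute_zpowers (D.A_le_Mb ha) hca).symm
      have e1 : (y : W) * a ^ i * (y : W)⁻¹ = k ^ i * a ^ i := by
        rw [← conj_pow, ← hka.mul_pow, hkdef, inv_mul_cancel_right]
      have e2 : (y : W) * d⁻¹ * (y : W)⁻¹ = d⁻¹ * (k ^ i)⁻¹ := by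
        have e3 : (y : W) * d * (y : W)⁻¹ = k ^ i * d := by rw [← hi]; group
        have e4 := congrArg (·⁻¹) e3
        simpa [mul_assoc] using e4
      have hkd : k ^ i * (a ^ i * d⁻¹) = (a ^ i * d⁻¹) * k ^ i :=
        (D.commute_zpowers (D.A_le_Mb huA) (pow_mem hca i)).symm
      calc (y : W) * u * (y : W)⁻¹ * u⁻¹
          = ((y : W) * a ^ i * (y : W)⁻¹) * ((y : W) * d⁻¹ * (y : W)⁻¹) * u⁻¹ := by rw [hu]; group
        _ = k ^ i * (a ^ i * d⁻¹) * (k ^ i)⁻¹ * u⁻¹ := by rw [e1, e2]; group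
        _ = 1 := by rw [hkd, hu]; group
    have hCtop : Cu = ⊤ := by
      apply Subgroup.eq_top_of_card_eq
      have hd2 : Nat.card Cu ∣ 243 := D.cardA ▸ Subgroup.card_subgroup_dvd_card _
      obtain ⟨l, hl, hlk⟩ := (Nat.dvd_prime_pow Nat.prime_three).mp (show Nat.card Cu ∣ 3 ^ 5 by simpa using hd2)
      have h81 := hidx a ha
      have hlt : Nat.card (χ a ha).ker < Nat.card Cu := by
        by_contra hge
        exact hy ((Subgroup.eq_of_le_of_card_ge hsubK (not_lt.mp hge)).symm ▸ hyu)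
      rw [D.cardA, hlk]
      rw [hlk] at hlt
      interval_cases l <;> simp_all <;> omega
    have hucen : u ∈ Subgroup.zpowers D.h := by
      rw [← hZh]
      exact ⟨huA, Subgroup.mem_centralizer_iff.mpr fun x hx =>
        mul_inv_eq_iff_eq_mul.mp (mul_inv_eq_one.mp
          (hCtop ▸ Subgroup.mem_top (⟨x, hx⟩ : D.A) : (⟨x, hx⟩ : D.A) ∈ Cu))⟩
    apply hdS
    have : d = u⁻¹ * a ^ i := by rw [hu]; group
    show d ∈ S
    rw [this]
    exact mul_mem (inv_mem (Subgroup.zpowers_le.mpr (Subgroup.subset_closure (by simp)) hucen))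
      (pow_mem (Subgroup.subset_closure (by simp)) i)
  haveI : Fintype (D.A ⧸ K) := Fintype.ofFinite _
  have h6 := D.card_hyps_le (E := E) hEel (fun x : D.A ⧸ K => f (Quotient.out x))
    (fun x => by
      set g : W := (Quotient.out x : D.A).1 with hg
      have hgA : g ∈ D.A := (Quotient.out x : D.A).2
      obtain ⟨t, ht, htB, hcov⟩ := hB.cover
      refine ⟨by rintro _ ⟨e, he, rfl⟩; exact hnorm g hgA e (hB.le he),
        g * t * g⁻¹, hnorm g hgA t ht, fun h => htB ?_, fun u hu => ?_⟩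
      · obtain ⟨e, he, hee⟩ := h
        have : e = t := mul_left_cancel (mul_right_cancel (hee : g * e * g⁻¹ = g * t * g⁻¹))
        exact this ▸ he
      · have hu' : g⁻¹ * u * g ∈ E := by simpa using hnorm _ (inv_mem hgA) u hu
        rcases hcov _ hu' with h1 | h1 | h1
        · exact Or.inl ⟨_, h1, by simp [← hg, mul_assoc]⟩
        · exact Or.inr (Or.inl ⟨_, h1, by simp [← hg, mul_assoc]⟩)
        · exact Or.inr (Or.inr ⟨_, h1, by simp [← hg, mul_assoc]⟩))
    (fun x y h => by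
      have := hfK _ _ h
      rw [← Quotient.out_eq x, ← Quotient.out_eq y]
      exact QuotientGroup.eq.mpr this)
    (fun x => by
      set g : W := (Quotient.out x : D.A).1 with hg
      have hgA : g ∈ D.A := (Quotient.out x : D.A).2
      refine ⟨g • w, Pieces.smul_mem_piece (fun e => ⟨hnorm g hgA e, fun he => ?_⟩) hw,
        fun h => hw0 (by simpa using congrArg (g⁻¹ • ·) h)⟩
      have := hnorm _ (inv_mem hgA) _ he
      simpa [mul_assoc] using this)
  have hmul := Subgroup.card_eq_card_quotient_mul_card_subgroup K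
  rw [D.cardA, Nat.card_eq_fintype_card] at hmul
  nlinarith

theorem elem : Pieces.ElemThree D.A := ⟨D.comm, D.cube⟩

end Core

end Cfsg.Agent.Lib.LargeFischer13
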