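import Mathlib
import Cfsg.Prelude.Def_Classical
import Cfsg.Agent.Lib.Unitary.Transvection
import Cfsg.Agent.Lib.Linear.SmallIso.PSL9

/-!
In PSU(4,3) the stabiliser of a totally isotropic line contains an elementary abelian group of
order 81 with a complement-like section isomorphic to A₆ acting non-trivially on it.
-/

set_option autoImplicit false
set_option linter.style.haveILetI false
set_option linter.unusedSectionVars false

namespace Cfsg.Agent.Lib.LargeFischer13.Parabolic

open Matrix
open scoped Pointwise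

/-- An abelian subgroup `A` of order 81 and exponent 3 normalised by `P`, with `P / A ≅ A₆` acting
non-trivially. -/
structure Para (L : Type*) [Group L] where
  P : Subgroup L
  A : Subgroup L
  le : A ≤ P
  conj : ∀ p ∈ P, ∀ a ∈ A, p * a * p⁻¹ ∈ A
  comm : ∀ a ∈ A, ∀ b ∈ A, a * b = b * a
  cube : ∀ a ∈ A, a * a * a = 1
  card : Nat.card A = 81
  π : P →* alternatingGroup (Fin 6)
  surj : Function.Surjective π
  ker : ∀ p : P, π p = 1 ↔ (p : L) ∈ A
  moves : ∃ p ∈ P, ∃ a ∈ A, p * a * p⁻¹ ≠ a

variable {K : Type*} [Field K] [Fintype K]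

abbrev M2 (K : Type*) := Matrix (Fin 2) (Fin 2) K
abbrev MB (K : Type*) := Matrix (Fin 2 ⊕ Fin 2) (Fin 2 ⊕ Fin 2) K

theorem char_three (hK : Fintype.card K = 9) : CharP K 3 := by
  obtain ⟨p, hp⟩ := CharP.exists K
  haveI := hp
  obtain ⟨n, hprime, hn⟩ := FiniteField.card K p
  have : p ∣ 9 := by rw [← hK, hn]; exact dvd_pow_self _ n.pos.ne'
  have : p = 3 := (Nat.prime_dvd_prime_iff_eq hprime Nat.prime_three).mp
    (hprime.dvd_of_dvd_pow (show p ∣ 3 ^ 2 by simpa using this))
  exact this ▸ hp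

theorem exists_c (hK : Fintype.card K = 9) : ∃ c : K, c ^ 4 = -1 := by
  obtain ⟨g, hg⟩ := IsCyclic.exists_ofOrder_eq_natCard (α := Kˣ)
  rw [Nat.card_units, Nat.card_eq_fintype_card, hK] at hg
  refine ⟨g, ?_⟩
  have h8 : ((g : K) ^ 4) ^ 2 = 1 := by
    rw [← pow_mul, ← Units.val_pow_eq_pow_val, show 4 * 2 = orderOf g by omega, pow_orderOf_eq_one,
      Units.val_one]
  rcases sq_eq_one_iff.mp h8 with h | h
  · exfalso
    have : g ^ 4 = 1 := Units.ext (by simpa using h)
    have := orderOf_dvd_of_pow_eq_one this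
    rw [hg] at this
    norm_num at this
  · exact h

section
variable [CharP K 3] [Fact (Nat.Prime 3)]

/-- the involutive field automorphism -/
abbrev σ (K : Type*) [Field K] [CharP K 3] [Fact (Nat.Prime 3)] : K →+* K := frobenius K 3

theorem σ_σ (hK : Fintype.card K = 9) (x : K) : σ K (σ K x) = x := by
  rw [frobenius_def, frobenius_def, ← pow_mul, show 3 * 3 = Fintype.card K from hK.symm,
    FiniteField.pow_card]

theorem three_eq : (3 : K) = 0 := by simpa using CharP.cast_eq_zero K 3

variable (c : K) (hc : c ^ 4 = -1)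

/-- change of basis to two totally isotropic lines -/
def T : MB K := fromBlocks 1 1 (c • 1) (-c • 1)

/-- its inverse -/
def Ti : MB K := -fromBlocks 1 (c⁻¹ • 1) 1 (-c⁻¹ • 1)

include hc in
theorem c_ne : c ≠ 0 := by
  intro h
  rw [h] at hc
  simp at hc

include hc in
theorem T_mul_Ti : T c * Ti c = 1 := by
  have hne := c_ne c hc
  have h2 : (1 : K) + 1 = -1 := by linear_combination (three_eq (K := K))
  rw [T, Ti, Matrix.mul_neg, fromBlocks_multiply, fromBlocks_neg, ← fromBlocks_one]
  congr 1 <;> ext i j <;> fin_cases i <;> fin_cases j <;>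
    simp [hne] <;> linear_combination (-1 : K) * three_eq (K := K)

include hc in
theorem Ti_mul_T : Ti c * T c = 1 := mul_eq_one_comm.mp (T_mul_Ti c hc)

/-- the form in the new basis -/
def S : MB K := fromBlocks 0 (-1) (-1) 0

include hc in
theorem T_form : (T c)ᵀ * (T c).map (σ K) = S := by
  have e : c * c ^ 3 = -1 := by rw [← hc]; ring
  rw [T, fromBlocks_transpose, fromBlocks_map, fromBlocks_multiply, S]
  congr 1 <;> ext i j <;> fin_cases i <;> fin_cases j <;>
    simp [frobenius_def, e] <;>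
    first
      | linear_combination three_eq (K := K)
      | linear_combination -hc
      | linear_combination hc - three_eq (K := K)
      | linear_combination hc
      | linear_combination hc + three_eq (K := K)
      | linear_combination -hc + three_eq (K := K)
      | linear_combination -hc - three_eq (K := K)

/-- conjugation into the standard basis -/
def Φ (X : MB K) : Matrix (Fin 4) (Fin 4) K := reindex finSumFinEquiv finSumFinEquiv (T c * X * Ti c)

include hc in
theorem Φ_mul (X Y : MB K) : Φ c (X * Y) = Φ c X * Φ c Y := by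
  have e : T c * (X * Y) * Ti c = (T c * X * Ti c) * (T c * Y * Ti c) := by
    calc T c * (X * Y) * Ti c = T c * X * (1 * Y) * Ti c := by simp only [one_mul, Matrix.mul_assoc]
      _ = T c * X * (Ti c * T c * Y) * Ti c := by rw [Ti_mul_T c hc]
      _ = _ := by simp only [Matrix.mul_assoc]
  rw [Φ, e, Φ, Φ, ← reindexAlgEquiv_apply K K, map_mul, reindexAlgEquiv_apply, reindexAlgEquiv_apply]

include hc in
theorem Φ_det (X : MB K) : (Φ c X).det = X.det := by
  rw [Φ, det_reindex_self, det_mul, det_mul, mul_comm (T c).det, mul_assoc, ← det_mul,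
    T_mul_Ti c hc, det_one, mul_one]

include hc in
theorem Φ_form {X : MB K} (hX : Xᵀ * S * X.map (σ K) = S) :
    (Φ c X)ᵀ * (Φ c X).map (σ K) = 1 := by
  have e : (T c * X * Ti c)ᵀ * (T c * X * Ti c).map (σ K) = 1 := by
    calc (T c * X * Ti c)ᵀ * (T c * X * Ti c).map (σ K)
        = (Ti c)ᵀ * (Xᵀ * ((T c)ᵀ * (T c).map (σ K)) * X.map (σ K)) * (Ti c).map (σ K) := by
          simp only [transpose_mul, Matrix.map_mul, Matrix.mul_assoc]
      _ = (Ti c)ᵀ * ((T c)ᵀ * (T c).map (σ K)) * (Ti c).map (σ K) := by rw [T_form c hc, hX]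
      _ = (T c * Ti c)ᵀ * (T c * Ti c).map (σ K) := by
          simp only [transpose_mul, Matrix.map_mul, Matrix.mul_assoc]
      _ = 1 := by rw [T_mul_Ti c hc]; simp
  have e' := congrArg (reindexAlgEquiv K K (finSumFinEquiv (m := 2) (n := 2))) e
  rw [map_mul, map_one] at e'
  exact e'

/-- an element of `SU` from a block matrix preserving the form -/
def mkSU (X : MB K) (hd : X.det = 1) (hX : Xᵀ * S * X.map (σ K) = S) : Cfsg.SU 4 K 3 :=
  ⟨⟨Φ c X, by rw [Φ_det c hc, hd]⟩, by
    intro u v
    show (Φ c X *ᵥ u) ⬝ᵥ (fun i => (σ K) ((Φ c X *ᵥ v) i)) = u ⬝ᵥ (fun i => σ K (v i))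
    have e : (fun i => σ K ((Φ c X *ᵥ v) i)) = (Φ c X).map (σ K) *ᵥ (fun i => σ K (v i)) := by
      funext i; exact RingHom.map_mulVec (σ K) (Φ c X) v i
    rw [e, dotProduct_comm, dotProduct_mulVec, ← mulVec_transpose, mulVec_mulVec, Φ_form c hc hX,
      one_mulVec, dotProduct_comm]⟩

theorem mkSU_mul {X Y Z : MB K} (hd : X.det = 1) (hX : Xᵀ * S * X.map (σ K) = S) (hd' : Y.det = 1)
    (hY : Yᵀ * S * Y.map (σ K) = S) (hd'' : Z.det = 1) (hZ : Zᵀ * S * Z.map (σ K) = S)
    (h : X * Y = Z) : mkSU c hc X hd hX * mkSU c hc Y hd' hY = mkSU c hc Z hd'' hZ := by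
  apply Subtype.ext; apply Subtype.ext
  show Φ c X * Φ c Y = Φ c Z
  rw [← Φ_mul c hc, h]

include hc in
theorem Φ_inj {X Y : MB K} (h : Φ c X = Φ c Y) : X = Y := by
  have h' : T c * X * Ti c = T c * Y * Ti c := (reindex finSumFinEquiv finSumFinEquiv).injective h
  calc X = (Ti c * T c) * X * (Ti c * T c) := by rw [Ti_mul_T c hc, one_mul, mul_one]
    _ = Ti c * (T c * X * Ti c) * T c := by simp only [Matrix.mul_assoc]
    _ = (Ti c * T c) * Y * (Ti c * T c) := by rw [h']; simp only [Matrix.mul_assoc]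
    _ = Y := by rw [Ti_mul_T c hc, one_mul, mul_one]

include hc in
theorem Φ_scalar (l : K) : Φ c (l • (1 : MB K)) = l • 1 := by
  rw [Φ, Matrix.mul_smul, Matrix.mul_one, Matrix.smul_mul, T_mul_Ti c hc,
    ← coe_reindexAlgEquiv K K, map_smul, map_one]

/-! ### unipotent radical -/

/-- the skew-hermitian matrices -/
def Skew (K : Type*) [Field K] [CharP K 3] [Fact (Nat.Prime 3)] : AddSubgroup (M2 K) where
  carrier := {B | Bᵀ + B.map (σ K) = 0}
  zero_mem' := by simp
  add_mem' := by
    intro a b ha hb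
    simp only [Set.mem_setOf_eq] at *
    have e : (a + b)ᵀ + (a + b).map (σ K) = (aᵀ + a.map (σ K)) + (bᵀ + b.map (σ K)) := by
      rw [transpose_add, Matrix.map_add _ (map_add _)]; abel
    rw [e, ha, hb, add_zero]
  neg_mem' := by
    intro a ha
    simp only [Set.mem_setOf_eq] at *
    have e : (-a)ᵀ + (-a).map (σ K) = -(aᵀ + a.map (σ K)) := by
      rw [transpose_neg, Matrix.map_neg _ (map_neg (σ K)), neg_add]
    rw [e, ha, neg_zero]

theorem mem_skew {B : M2 K} : B ∈ Skew K ↔ Bᵀ + B.map (σ K) = 0 := Iff.rfl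

/-- the unipotent block matrix -/
def Y (B : M2 K) : MB K := fromBlocks 1 B 0 1

theorem Y_det (B : M2 K) : (Y B).det = 1 := by simp [Y, det_fromBlocks_zero₂₁]

theorem Y_form (B : Skew K) : (Y B.1)ᵀ * S * (Y B.1).map (σ K) = S := by
  rw [Y, S, fromBlocks_transpose, fromBlocks_map, fromBlocks_multiply, fromBlocks_multiply]
  congr 1
  · simp
  · simp
  · simp
  · simp only [transpose_one, transpose_zero, Matrix.map_zero _ (map_zero _),
      Matrix.map_one _ (map_zero _) (map_one _), mul_zero, zero_mul, add_zero, zero_add, one_mul,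
      mul_one, mul_neg, neg_mul]
    rw [← neg_add_rev, neg_eq_zero, add_comm]
    first
      | exact B.2
      | (rw [add_comm]; exact B.2)

/-- the hom into `SU` -/
def yHom : Multiplicative (Skew K) →* Cfsg.SU 4 K 3 where
  toFun B := mkSU c hc (Y B.toAdd.1) (Y_det _) (Y_form _)
  map_one' := by
    apply Subtype.ext; apply Subtype.ext
    show Φ c (Y 0) = 1
    rw [Y, fromBlocks_one, ← one_smul K (1 : MB K), Φ_scalar c hc, one_smul]
  map_mul' B B' := (mkSU_mul c hc (Y_det _) (Y_form _) (Y_det _) (Y_form _) (Y_det _) (Y_form _)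
    (by simp [Y, fromBlocks_multiply, add_comm])).symm

/-! ### the Levi part -/

/-- the second diagonal block -/
def D (M : Matrix.SpecialLinearGroup (Fin 2) K) : M2 K := ((↑(M⁻¹) : M2 K).map (σ K))ᵀ

theorem D_mul (M N : Matrix.SpecialLinearGroup (Fin 2) K) : D (M * N) = D M * D N := by
  rw [D, D, D, _root_.mul_inv_rev, Matrix.SpecialLinearGroup.coe_mul, Matrix.map_mul, transpose_mul]

theorem D_one : D (1 : Matrix.SpecialLinearGroup (Fin 2) K) = 1 := by simp [D]

/-- the block diagonal matrix -/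
def X (M : Matrix.SpecialLinearGroup (Fin 2) K) : MB K := fromBlocks (↑M) 0 0 (D M)

theorem X_det (M : Matrix.SpecialLinearGroup (Fin 2) K) : (X M).det = 1 := by
  rw [X, det_fromBlocks_zero₂₁, Matrix.SpecialLinearGroup.det_coe, one_mul, D, det_transpose,
    ← RingHom.mapMatrix_apply, ← RingHom.map_det, Matrix.SpecialLinearGroup.det_coe, map_one]

theorem X_mul (M N : Matrix.SpecialLinearGroup (Fin 2) K) : X (M * N) = X M * X N := by
  simp [X, fromBlocks_multiply, D_mul]

theorem D_map (hK : Fintype.card K = 9) (M : Matrix.SpecialLinearGroup (Fin 2) K) :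
    (D M).map (σ K) = (↑(M⁻¹) : M2 K)ᵀ := by
  ext i j
  simp only [D, map_apply, transpose_apply]
  exact σ_σ hK _

theorem X_form (hK : Fintype.card K = 9) (M : Matrix.SpecialLinearGroup (Fin 2) K) :
    (X M)ᵀ * S * (X M).map (σ K) = S := by
  rw [X, S, fromBlocks_transpose, fromBlocks_map, fromBlocks_multiply, fromBlocks_multiply]
  have h1 : (↑M : M2 K)ᵀ * (D M).map (σ K) = 1 := by
    rw [D_map hK, ← transpose_mul, ← Matrix.SpecialLinearGroup.coe_mul, inv_mul_cancel,
      Matrix.SpecialLinearGroup.coe_one, transpose_one]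
  have h2 : (D M)ᵀ * (↑M : M2 K).map (σ K) = 1 := by
    rw [D, transpose_transpose, ← Matrix.map_mul, ← Matrix.SpecialLinearGroup.coe_mul, inv_mul_cancel,
      Matrix.SpecialLinearGroup.coe_one, Matrix.map_one _ (map_zero _) (map_one _)]
  congr 1 <;> simp [h1, h2]

/-- the hom into `SU` -/
def xHom (hK : Fintype.card K = 9) : Matrix.SpecialLinearGroup (Fin 2) K →* Cfsg.SU 4 K 3 where
  toFun M := mkSU c hc (X M) (X_det _) (X_form hK _)
  map_one' := by
    apply Subtype.ext; apply Subtype.ext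
    show Φ c (X 1) = 1
    rw [X, D_one, Matrix.SpecialLinearGroup.coe_one, fromBlocks_one, ← one_smul K (1 : MB K),
      Φ_scalar c hc, one_smul]
  map_mul' M N := (mkSU_mul c hc (X_det _) (X_form hK _) (X_det _) (X_form hK _) (X_det _)
    (X_form hK _) (X_mul M N).symm).symm

/-- the action of the Levi part on the radical -/
def act (M : Matrix.SpecialLinearGroup (Fin 2) K) (B : M2 K) : M2 K :=
  (↑M : M2 K) * B * ((↑M : M2 K).map (σ K))ᵀ

theorem act_mem (hK : Fintype.card K = 9) (M : Matrix.SpecialLinearGroup (Fin 2) K) (B : Skew K) :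
    act M B.1 ∈ Skew K := by
  have hmm : (((↑M : M2 K).map (σ K))ᵀ).map (σ K) = (↑M : M2 K)ᵀ := by
    ext i j
    simp only [map_apply, transpose_apply]
    exact σ_σ hK _
  have hB : B.1.map (σ K) = -B.1ᵀ := eq_neg_of_add_eq_zero_right B.2
  rw [mem_skew, act, transpose_mul, transpose_mul, transpose_transpose, Matrix.map_mul,
    Matrix.map_mul, hmm, hB]
  simp [Matrix.mul_assoc]

theorem conj_eq (hK : Fintype.card K = 9) (M : Matrix.SpecialLinearGroup (Fin 2) K)
    (B : Multiplicative (Skew K)) :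
    xHom c hc hK M * yHom c hc B * (xHom c hc hK M)⁻¹ =
      yHom c hc (Multiplicative.ofAdd ⟨act M B.toAdd.1, act_mem hK M B.toAdd⟩) := by
  rw [← map_inv]
  apply Subtype.ext; apply Subtype.ext
  show Φ c (X M) * Φ c (Y B.toAdd.1) * Φ c (X M⁻¹) = Φ c (Y (act M B.toAdd.1))
  rw [← Φ_mul c hc, ← Φ_mul c hc]
  congr 1
  have h1 : (↑M : M2 K) * (↑(M⁻¹) : M2 K) = 1 := by
    rw [← Matrix.SpecialLinearGroup.coe_mul, mul_inv_cancel, Matrix.SpecialLinearGroup.coe_one]
  have h2 : D M * D M⁻¹ = 1 := by rw [← D_mul, mul_inv_cancel, D_one]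
  have h3 : D M⁻¹ = ((↑M : M2 K).map (σ K))ᵀ := by rw [D, inv_inv]
  rw [Matrix.SpecialLinearGroup.coe_inv] at h1
  simp [X, Y, act, fromBlocks_multiply, h1, h2, h3.symm]

theorem card_skew (hK : Fintype.card K = 9) : Nat.card (Skew K) = 81 := by
  classical
  let Z := {x : K // x + x ^ 3 = 0}
  have hz : Nat.card Z = 3 := Cfsg.Agent.Lib.Unitary.card_trace_zero (q := 3) (by rw [hK]; norm_num)
  let e : Skew K ≃ (Z × Z) × K :=
    { toFun := fun B => ((⟨B.1 0 0, by
          have := congrFun (congrFun B.2 0) 0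
          simpa [frobenius_def] using this⟩, ⟨B.1 1 1, by
          have := congrFun (congrFun B.2 1) 1
          simpa [frobenius_def] using this⟩), B.1 0 1)
      invFun := fun p => ⟨!![p.1.1.1, p.2; -σ K p.2, p.1.2.1], by
        have h1 := p.1.1.2
        have h2 := p.1.2.2
        have hss : (p.2 ^ 3) ^ 3 = p.2 := σ_σ hK p.2
        rw [mem_skew]
        ext i j
        fin_cases i <;> fin_cases j <;>
          simp [frobenius_def, h1, h2, Odd.neg_pow (show Odd 3 by decide), hss]⟩
      left_inv := fun B => by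
        apply Subtype.ext
        ext i j
        fin_cases i <;> fin_cases j <;> simp
        have := congrFun (congrFun B.2 0) 1
        simp [frobenius_def] at this
        rw [frobenius_def]
        linear_combination -this
      right_inv := fun p => by simp }
  rw [Nat.card_congr e, Nat.card_prod, Nat.card_prod, hz, Nat.card_eq_fintype_card, hK]

end

theorem exists_para (hK : Fintype.card K = 9) : Nonempty (Para (Cfsg.PSU 4 K 3)) := by
  haveI := char_three hK
  haveI : Fact (Nat.Prime 3) := ⟨Nat.prime_three⟩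
  obtain ⟨c, hc⟩ := exists_c hK
  set mk := QuotientGroup.mk' (Subgroup.center (Cfsg.SU 4 K 3)) with hmk
  set α := mk.comp (yHom c hc) with hα
  set β := mk.comp (xHom c hc hK) with hβ
  have hcard : Fintype.card K = 3 ^ 2 := by rw [hK]; norm_num
  have scal : ∀ {x : Cfsg.SU 4 K 3}, mk x = 1 → ∃ l : K, x.1.1 = l • 1 := by
    intro x hx
    obtain ⟨l, hl⟩ := (Cfsg.Agent.Lib.Unitary.mem_center_SU_iff hcard (by norm_num) x).mp
      ((QuotientGroup.eq_one_iff x).mp hx)
    refine ⟨l, ext_of_mulVec_single fun i => ?_⟩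
    rw [hl, smul_mulVec, one_mulVec]
  have hαinj : Function.Injective α := by
    rw [injective_iff_map_eq_one]
    intro B hB
    obtain ⟨l, hl⟩ := scal hB
    have e := Φ_inj c hc ((hl : Φ c (Y B.toAdd.1) = _).trans (Φ_scalar c hc l).symm)
    have : B.toAdd.1 = 0 := by
      ext i j
      have := congrFun (congrFun e (Sum.inl i)) (Sum.inr j)
      simpa [Y] using this
    exact Multiplicative.toAdd.injective (Subtype.ext this)
  set A := α.range with hA
  have hconj : ∀ M B, ∃ B', β M * α B * (β M)⁻¹ = α B' := fun M B => by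
    refine ⟨Multiplicative.ofAdd ⟨act M B.toAdd.1, act_mem hK M B.toAdd⟩, ?_⟩
    rw [hα, hβ, MonoidHom.comp_apply, MonoidHom.comp_apply, MonoidHom.comp_apply,
      ← conj_eq c hc hK M B, map_mul, map_mul, map_inv]
  have hnorm : β.range ≤ Subgroup.normalizer (A : Set _) := by
    rintro _ ⟨M, rfl⟩
    rw [Subgroup.mem_normalizer_iff]
    intro a
    constructor
    · rintro ⟨B, rfl⟩
      obtain ⟨B', e⟩ := hconj M B
      exact ⟨B', e.symm⟩
    · rintro ⟨B, hB⟩
      obtain ⟨B', e⟩ := hconj M⁻¹ B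
      refine ⟨B', ?_⟩
      rw [← e, hB, map_inv]
      group
  set P := A ⊔ β.range with hP
  have hAP : A ≤ P := le_sup_left
  have hPn : P ≤ Subgroup.normalizer (A : Set _) := sup_le Subgroup.le_normalizer hnorm
  haveI hAn : (A.subgroupOf P).Normal := Subgroup.normal_subgroupOf_iff hAP |>.mpr
    fun a p ha hp => (Subgroup.mem_normalizer_iff.mp (hPn hp) a).mp ha
  -- the Levi part maps onto the quotient with kernel the centre
  let η : Matrix.SpecialLinearGroup (Fin 2) K →* P ⧸ A.subgroupOf P :=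
    (QuotientGroup.mk' (A.subgroupOf P)).comp (β.codRestrict P fun M => le_sup_right (b := β.range) ⟨M, rfl⟩)
  have hηs : Function.Surjective η := by
    intro x
    obtain ⟨⟨p, hp⟩, rfl⟩ := QuotientGroup.mk'_surjective (A.subgroupOf P) x
    have hp' : p ∈ ((A : Set (Cfsg.PSU 4 K 3)) * (β.range : Set (Cfsg.PSU 4 K 3))) := by
      rw [← Subgroup.coe_mul_of_right_le_normalizer_left _ _ hnorm]; exact hp
    obtain ⟨a, ha, _, ⟨M, rfl⟩, rfl⟩ := hp'
    refine ⟨M, ?_⟩
    apply (QuotientGroup.eq.mpr ?_)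
    have e := (Subgroup.mem_normalizer_iff.mp (inv_mem (hnorm ⟨M, rfl⟩)) a).mp ha
    simpa [Subgroup.mem_subgroupOf, mul_assoc] using e
  have hηk : η.ker = Subgroup.center (Matrix.SpecialLinearGroup (Fin 2) K) := by
    ext M
    rw [MonoidHom.mem_ker, Matrix.SpecialLinearGroup.mem_center_iff]
    show ((_ : P) : P ⧸ A.subgroupOf P) = 1 ↔ _
    rw [QuotientGroup.eq_one_iff, Subgroup.mem_subgroupOf]
    show β M ∈ A ↔ _
    constructor
    · rintro ⟨B, hB⟩
      have h1 : mk (yHom c hc B⁻¹ * xHom c hc hK M) = 1 := by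
        rw [map_mul, map_inv, map_inv]
        show (α B)⁻¹ * β M = 1
        rw [hB, inv_mul_cancel]
      obtain ⟨l, hl⟩ := scal h1
      have e := Φ_inj c hc ((Φ_mul c hc (Y B⁻¹.toAdd.1) (X M)).trans
        ((hl : Φ c (Y B⁻¹.toAdd.1) * Φ c (X M) = _).trans (Φ_scalar c hc l).symm))
      rw [Y, X, fromBlocks_multiply] at e
      have hD : D M = l • 1 := by
        ext i j
        have := congrFun (congrFun e (Sum.inr i)) (Sum.inr j)
        simpa [Matrix.one_apply] using this
      have hB0 : B⁻¹.toAdd.1 * D M = 0 := by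
        ext i j
        have := congrFun (congrFun e (Sum.inl i)) (Sum.inr j)
        simpa using this
      have hM : (↑M : M2 K) = l • 1 := by
        ext i j
        have := congrFun (congrFun e (Sum.inl i)) (Sum.inl j)
        simpa [Matrix.one_apply] using this
      refine ⟨l, ?_, ?_⟩
      · have hdet := M.det_coe
        rw [hM] at hdet
        simpa [Matrix.det_smul] using hdet
      · rw [hM]; simp [scalar_apply, smul_one_eq_diagonal]
    · rintro ⟨l, hl, hM⟩
      refine ⟨1, ?_⟩
      rw [map_one]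
      symm
      show mk (xHom c hc hK M) = 1
      apply (QuotientGroup.eq_one_iff _).mpr
      rw [Cfsg.Agent.Lib.Unitary.mem_center_SU_iff hcard (by norm_num)]
      refine ⟨l, fun v => ?_⟩
      have hl2 : l * l = 1 := by simpa [pow_two] using hl
      have hM' : (↑M : M2 K) = l • 1 := by rw [← hM]; simp [scalar_apply, smul_one_eq_diagonal]
      have hMi : (↑(M⁻¹) : M2 K) = l • 1 := by
        have e : (↑(M⁻¹) : M2 K) * (↑M : M2 K) = 1 := by
          rw [← Matrix.SpecialLinearGroup.coe_mul, inv_mul_cancel, Matrix.SpecialLinearGroup.coe_one]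
        calc (↑(M⁻¹) : M2 K) = (↑(M⁻¹) : M2 K) * ((↑M : M2 K) * (↑M : M2 K)) := by
              rw [hM', smul_mul_smul_comm, hl2, one_smul, one_mul, mul_one]
          _ = l • 1 := by rw [← mul_assoc, e, one_mul, hM']
      have hX : X M = l • 1 := by
        have hl3 : σ K l = l := by
          rw [frobenius_def]
          linear_combination l * hl2
        rw [X, D, hMi, hM', ← fromBlocks_one, fromBlocks_smul]
        congr 1
        · simp
        · simp
        · ext i j
          by_cases h : i = j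
          · subst h; simp [hl3]
          · simp [h, Ne.symm h]
      show (Φ c (X M)) *ᵥ v = l • v
      rw [hX, Φ_scalar c hc, smul_mulVec, one_mulVec]
  obtain ⟨e6⟩ := Cfsg.Agent.Lib.Linear.SmallIso.nonempty_psl_two_nine hK
  let e : P ⧸ A.subgroupOf P ≃* alternatingGroup (Fin 6) :=
    (((QuotientGroup.quotientMulEquivOfEq hηk.symm).trans
      (QuotientGroup.quotientKerEquivOfSurjective η hηs)).symm).trans e6
  refine ⟨⟨P, A, hAP, fun p hp a ha => (Subgroup.mem_normalizer_iff.mp (hPn hp) a).mp ha, ?_, ?_, ?_,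
    e.toMonoidHom.comp (QuotientGroup.mk' _), ?_, ?_, ?_⟩⟩
  · rintro _ ⟨a, rfl⟩ _ ⟨b, rfl⟩
    rw [← map_mul, mul_comm, map_mul]
  · rintro _ ⟨a, rfl⟩
    rw [← map_mul, ← map_mul]
    have : a * a * a = 1 := by
      apply Multiplicative.toAdd.injective
      apply Subtype.ext
      ext i j
      show a.toAdd.1 i j + a.toAdd.1 i j + a.toAdd.1 i j = 0
      linear_combination a.toAdd.1 i j * three_eq (K := K)
    rw [this, map_one]
  · rw [← Nat.card_congr (MonoidHom.ofInjective hαinj).toEquiv,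
      ← Nat.card_congr Multiplicative.ofAdd, card_skew hK]
  · exact e.surjective.comp (QuotientGroup.mk'_surjective _)
  · intro p
    simp [QuotientGroup.eq_one_iff, Subgroup.mem_subgroupOf]
  · have hne := c_ne c hc
    let M : Matrix.SpecialLinearGroup (Fin 2) K := ⟨!![1, 1; 0, 1], by simp [det_fin_two]⟩
    let B : Multiplicative (Skew K) := Multiplicative.ofAdd ⟨!![0, 0; 0, c ^ 2], by
      rw [mem_skew]
      ext i j
      fin_cases i <;> fin_cases j <;> simp [frobenius_def]
      linear_combination c ^ 2 * hc⟩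
    obtain ⟨B', hB'⟩ : ∃ B', B' = (Multiplicative.ofAdd
        (⟨act M B.toAdd.1, act_mem hK M B.toAdd⟩ : Skew K)) := ⟨_, rfl⟩
    refine ⟨β M, le_sup_right (a := A) ⟨M, rfl⟩, α B, ⟨B, rfl⟩, fun h => ?_⟩
    have e1 : β M * α B * (β M)⁻¹ = α B' := by
      rw [hB', hα, hβ, MonoidHom.comp_apply, MonoidHom.comp_apply, MonoidHom.comp_apply,
        ← conj_eq c hc hK M B, map_mul, map_mul, map_inv]
    have e2 : B' = B := hαinj (e1.symm.trans h)
    rw [hB'] at e2
    have e3 := congrArg (fun x : Skew K => x.1 0 0) (Multiplicative.ofAdd.injective e2)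
    simp [act, M, B, hne, Matrix.mul_apply] at e3

end Cfsg.Agent.Lib.LargeFischer13.Parabolic
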