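import Cfsg.Prelude.Def_MonsterType
import Cfsg.Agent.Lib.LargeFischer13.Core
import Cfsg.Agent.Lib.LargeFischer13.Parabolic
import Cfsg.Agent.Lib.Components.GenFitting
import Cfsg.Agent.Lib.Extraspecial.Basic
import Cfsg.Agent.Lib.Unitary.Order
import Cfsg.Agent.Lib.Unitary.Simple

/-!
A group of large Fischer type at `z` gives the abstract situation on `Q/⟨z⟩`.
-/

set_option autoImplicit false
set_option linter.style.haveILetI false
set_option linter.unusedSectionVars false

namespace Cfsg.Agent.Lib.LargeFischer13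

open scoped commutatorElement
open Cfsg.Agent.Lib.Extraspecial

universe u

theorem z2_one : (0 : ZMod 2) = 1 + 1 := by decide

theorem z2_ne : ∀ a : ZMod 2, a ≠ 0 → a = 1 := by decide

theorem z2_nd : ∀ a c : ZMod 2, a + c + 1 + a + c = 1 := by decide

theorem z2_bilin : ∀ a c d a' c' d' : ZMod 2,
    a + c + a' + d + (c' + d') + (a + c + a') + (a + d + c') + (c + d + d') + a + c + d = 0 := by decide

theorem z2_polar : ∀ a d a' : ZMod 2, a + d + a' + a + d = a' := by decide

theorem z2_add : ∀ a1 a2 a3 a4 a5 a6 a7 : ZMod 2, a1 + a2 + a3 + a4 + a5 + a6 + a7 = 0 →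
    a1 + a5 + a4 = a2 + a5 + a6 + (a3 + a5 + a7) := by decide

theorem card_psu4 {K : Type*} [Field K] [Fintype K] (hK : Fintype.card K = 9) :
    Nat.card (Cfsg.PSU 4 K 3) = 3265920 := by
  have hF : Fintype.card K = 3 ^ 2 := by rw [hK]; norm_num
  have h1 := Cfsg.Agent.Lib.Unitary.card_SU (F := K) (n := 4) (q := 3) hF (by norm_num)
  have h2 := Cfsg.Agent.Lib.Unitary.card_GU (F := K) (q := 3) hF 4
  have h3 := Cfsg.Agent.Lib.Unitary.card_PSU (F := K) (n := 4) (q := 3) hF (by norm_num)
  norm_num [Finset.prod_range_succ, Nat.even_iff] at h2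
  norm_num at h1 h3
  omega

/-- A short name for the centraliser of `z`. -/
abbrev Cz {G : Type u} [Group G] (z : G) : Subgroup G := Subgroup.centralizer ({z} : Set G)

/-- The bundle: a module, the abstract data and the map from `Q`. -/
structure Bridge {G : Type u} [Group G] (z : G) (Q : Subgroup (Cz z)) [Q.Normal] where
  V : Type u
  acg : AddCommGroup V
  fin : Finite V
  act : DistribMulAction ((Cz z) ⧸ Q) V
  D : Core ((Cz z) ⧸ Q) V
  π : Q → V
  π_surj : Function.Surjective π
  π_mul : ∀ x y : Q, π (x * y) = π x + π y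
  π_zero : ∀ x : Q, π x = 0 ↔ x = 1 ∨ ((x : Cz z) : G) = z
  π_q : ∀ x : Q, D.q (π x) = 0 ↔ x * x = 1
  π_conj : ∀ (c : Cz z) (x y : Q), (y : Cz z) = c * x * c⁻¹ →
    (QuotientGroup.mk c : (Cz z) ⧸ Q) • π x = π y
  M : Subgroup (Cz z)
  N : Subgroup (Cz z)
  [Nn : N.Normal]
  Q_le : Q ≤ N
  N_le : N ≤ M
  map_M : M.map (QuotientGroup.mk' Q) = D.Mb
  map_N : N.map (QuotientGroup.mk' Q) = Subgroup.zpowers D.h
  simple : ∀ U : Subgroup ((Cz z) ⧸ Q), Subgroup.zpowers D.h ≤ U → U ≤ D.Mb →
    (∀ m ∈ D.Mb, ∀ x ∈ U, m * x * m⁻¹ ∈ U) → U = Subgroup.zpowers D.h ∨ U = D.Mb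
  K : Type
  [fieldK : Field K]
  [fintypeK : Fintype K]
  cardK : Fintype.card K = 9
  quot : M ⧸ N.subgroupOf M →* Cfsg.PSU 4 K 3
  quot_bij : Function.Bijective quot

theorem exists_bridge {G : Type u} [Group G] [Finite G] (z : G) (Q : Subgroup (Cz z)) [Q.Normal]
    (hF : Cfsg.IsOfLargeFischerTypeAt z Q) : Nonempty (Bridge z Q) := by
  obtain ⟨⟨hz2, hgf, hext, hcard, -⟩, N, M, hNn, hMn, hQN, hNM, hNcard, ⟨K, fK, ftK, hK, ⟨e⟩⟩, hMidx⟩ := hF
  haveI : DecidableEq Q := Classical.decEq _
  haveI : Fact (Nat.Prime 2) := ⟨Nat.prime_two⟩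
  obtain ⟨w0, hes⟩ := exists_esData (E := Q) hext
  -- the distinguished element is `z`
  have hzC : z ∈ Cz z := Subgroup.mem_centralizer_singleton_iff.mpr rfl
  have hzcen : ∀ c : Cz z, c * (⟨z, hzC⟩ : Cz z) = ⟨z, hzC⟩ * c := fun c =>
    Subtype.ext (Subgroup.mem_centralizer_singleton_iff.mp c.2)
  have hcQ : ∀ c : Cz z, (∀ x ∈ Q, c * x = x * c) → c ∈ Q := by
    intro c hc
    have h := Cfsg.Agent.Lib.Components.GenFitting.centralizer_le (G := Cz z)
    rw [hgf] at h
    exact h (Subgroup.mem_centralizer_iff.mpr fun x hx => (hc x hx).symm)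
  have hzQ : (⟨z, hzC⟩ : Cz z) ∈ Q := hcQ _ fun x _ => (hzcen x).symm
  set zQ : Q := ⟨⟨z, hzC⟩, hzQ⟩ with hzQdef
  have hzQ1 : zQ ≠ 1 := fun h => by
    have : z = 1 := congrArg (fun x : Q => ((x : Cz z) : G)) h
    simp [this] at hz2
  have hzw : zQ = w0 := by
    have hmem : zQ ∈ Subgroup.zpowers w0 := (hes.mem_center zQ).mp
      (Subgroup.mem_center_iff.mpr fun x => Subtype.ext (hzcen x))
    have hw2 : orderOf w0 = 2 := orderOf_eq_prime hes.z_pow hes.z_ne
    obtain ⟨k, hk⟩ := hmem
    have hk' : w0 ^ k = zQ := hk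
    rw [← zpow_mod_orderOf, hw2] at hk'
    rcases Int.emod_two_eq_zero_or_one k with e0 | e0
    · simp [e0] at hk'; exact absurd hk'.symm hzQ1
    · simp [e0] at hk'; exact hk'.symm
  subst hzw
  have hzcases : ∀ x : Q, x ∈ Subgroup.center Q → x = 1 ∨ x = zQ := by
    intro x hx
    obtain ⟨k, hk⟩ := (hes.mem_center x).mp hx
    have hk' : zQ ^ k = x := hk
    rw [← zpow_mod_orderOf, orderOf_eq_prime hes.z_pow hes.z_ne] at hk'
    rcases Int.emod_two_eq_zero_or_one k with e0 | e0
    · simp [e0] at hk'; exact Or.inl hk'.symm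
    · simp [e0] at hk'; exact Or.inr hk'.symm
  have hcomm : ∀ x y : Q, ⁅x, y⁆ ∈ Subgroup.center Q := fun x y => (hes.mem_center _).mpr (hes.comm_mem x y)
  -- the module
  letI instCG : CommGroup (Q ⧸ Subgroup.center Q) :=
    { (inferInstance : Group (Q ⧸ Subgroup.center Q)) with
      mul_comm := fun a b => by
        induction a using QuotientGroup.induction_on with | H x =>
        induction b using QuotientGroup.induction_on with | H y =>
        rw [← QuotientGroup.mk_mul, ← QuotientGroup.mk_mul, QuotientGroup.eq]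
        have := hcomm y⁻¹ x⁻¹
        simpa [commutatorElement_def, mul_assoc] using this }
  let V := Additive (Q ⧸ Subgroup.center Q)
  let π : Q → V := fun x => Additive.ofMul (QuotientGroup.mk x)
  have hπ_mul : ∀ x y : Q, π (x * y) = π x + π y := fun x y => by
    simp only [π, QuotientGroup.mk_mul]; rfl
  have hπ_eq : ∀ x y : Q, π x = π y ↔ x⁻¹ * y ∈ Subgroup.center Q := fun x y =>
    ⟨fun h => QuotientGroup.eq.mp (Additive.ofMul.injective h),
      fun h => congrArg Additive.ofMul (QuotientGroup.eq.mpr h)⟩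
  have hπ_zero : ∀ x : Q, π x = 0 ↔ x ∈ Subgroup.center Q := fun x =>
    ⟨fun h => (QuotientGroup.eq_one_iff x).mp (Additive.ofMul.injective h),
      fun h => congrArg Additive.ofMul ((QuotientGroup.eq_one_iff x).mpr h)⟩
  have hπ_surj : Function.Surjective π := fun v => by
    obtain ⟨x, hx⟩ := QuotientGroup.mk_surjective (Additive.toMul v)
    exact ⟨x, by simp [π, hx]⟩
  have htwo : ∀ v : V, v + v = 0 := fun v => by
    obtain ⟨x, rfl⟩ := hπ_surj v
    rw [← hπ_mul, hπ_zero, ← sq]
    exact (hes.mem_center _).mpr (hes.pow_mem x)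
  -- squares
  let ind : Q → ZMod 2 := fun x => if x = 1 then 0 else 1
  have hind : ∀ a c : Q, a ∈ Subgroup.center Q → c ∈ Subgroup.center Q → ind (a * c) = ind a + ind c := by
    intro a c ha hc
    have hzz : zQ * zQ = 1 := by rw [← sq]; exact hes.z_pow
    rcases hzcases a ha with rfl | rfl <;> rcases hzcases c hc with rfl | rfl <;>
      simp [ind, hzQ1, hzz] <;> exact z2_one
  have hsq : ∀ x : Q, x * x ∈ Subgroup.center Q := fun x =>
    (hes.mem_center _).mpr (by rw [← sq]; exact hes.pow_mem x)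
  have hsqz : ∀ (x c : Q), c ∈ Subgroup.center Q → ind ((x * c) * (x * c)) = ind (x * x) := by
    intro x c hc
    have e : (x * c) * (x * c) = (x * x) * (c * c) := by
      calc (x * c) * (x * c) = x * (c * x) * c := by group
        _ = x * (x * c) * c := by rw [Subgroup.mem_center_iff.mp hc x]
        _ = _ := by group
    rw [e, hind _ _ (hsq x) (hsq c)]
    have hc2 : c * c = 1 := by
      rcases hzcases c hc with rfl | rfl
      · rw [one_mul]
      · rw [← sq]; exact hes.z_pow
    simp [hc2, ind]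
  let qf : Q ⧸ Subgroup.center Q → ZMod 2 := fun v => ind (v.out * v.out)
  have hqf : ∀ x : Q, qf (QuotientGroup.mk x) = ind (x * x) := fun x => by
    obtain ⟨c, hc⟩ := QuotientGroup.mk_out_eq_mul (Subgroup.center Q) x
    simp only [qf]
    rw [hc]
    exact hsqz x c c.2
  let q : V → ZMod 2 := fun v => qf (Additive.toMul v)
  have hq : ∀ x : Q, q (π x) = ind (x * x) := hqf
  have hqb : ∀ x y : Q, ind (x * y * (x * y)) = ind (x * x) + ind (y * y) + ind ⁅y, x⁆ := by
    intro x y
    have e : x * y * (x * y) = (x * x) * (y * y) * ⁅y, x⁆ := by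
      have hc := Subgroup.mem_center_iff.mp (hcomm y x)
      have h1 : y * x = ⁅y, x⁆ * (x * y) := by simp [commutatorElement_def, mul_assoc]
      calc x * y * (x * y) = x * (y * x) * y := by group
        _ = x * (⁅y, x⁆ * (x * y)) * y := by rw [h1]
        _ = ⁅y, x⁆ * ((x * x) * (y * y)) := by rw [← mul_assoc x ⁅y, x⁆, hc x]; group
        _ = _ := (hc _).symm
    rw [e, hind _ _ (mul_mem (hsq x) (hsq y)) (hcomm y x), hind _ _ (hsq x) (hsq y)]
  have hindc : ∀ x y : Q, ind ⁅x, y⁆ = 0 ↔ x * y = y * x := fun x y => by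
    simp only [ind]
    constructor
    · intro h
      by_contra hne
      rw [if_neg (fun h1 => hne (commutatorElement_eq_one_iff_mul_comm.mp h1))] at h
      exact one_ne_zero h
    · intro h
      rw [if_pos (commutatorElement_eq_one_iff_mul_comm.mpr h)]
  -- action
  let conjQ : Cz z → (Q →* Q) := fun c =>
    { toFun := fun x => ⟨c * x * c⁻¹, (inferInstance : Q.Normal).conj_mem x x.2 c⟩
      map_one' := Subtype.ext (by simp)
      map_mul' := fun x y => Subtype.ext (by simp) }
  have hcen_conj : ∀ c, Subgroup.center Q ≤ (Subgroup.center Q).comap (conjQ c) := by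
    intro c x hx
    rcases hzcases x hx with rfl | rfl
    · simp
    · have e1 : conjQ c zQ = zQ := Subtype.ext (by
        show c * (⟨z, hzC⟩ : Cz z) * c⁻¹ = ⟨z, hzC⟩
        rw [hzcen, mul_inv_cancel_right])
      rw [Subgroup.mem_comap, e1]
      exact hx
  let act1 : Cz z → (V →+ V) := fun c =>
    MonoidHom.toAdditive (QuotientGroup.map _ _ (conjQ c) (hcen_conj c))
  have hact1 : ∀ c x, act1 c (π x) = π (conjQ c x) := fun c x => rfl
  have hactmul : ∀ c d v, act1 (c * d) v = act1 c (act1 d v) := by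
    intro c d v
    obtain ⟨x, rfl⟩ := hπ_surj v
    rw [hact1, hact1, hact1]
    congr 1
    exact Subtype.ext (by simp [conjQ, mul_assoc])
  have hactone : ∀ v, act1 1 v = v := by
    intro v
    obtain ⟨x, rfl⟩ := hπ_surj v
    rw [hact1]
    congr 1
    exact Subtype.ext (by simp [conjQ])
  have hactQ : ∀ c ∈ Q, ∀ v, act1 c v = v := by
    intro c hc v
    obtain ⟨x, rfl⟩ := hπ_surj v
    rw [hact1, hπ_eq]
    have e1 : (conjQ c x)⁻¹ * x = ⁅(⟨c, hc⟩ : Q), x⁻¹⁆ := by
      apply Subtype.ext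
      simp [conjQ, commutatorElement_def, mul_assoc]
    rw [e1]
    exact hcomm _ _
  let smulW : (Cz z) ⧸ Q → V → V := fun w v => act1 w.out v
  have hsmul : ∀ (c : Cz z) v, smulW (QuotientGroup.mk c) v = act1 c v := by
    intro c v
    obtain ⟨d, hd⟩ := QuotientGroup.mk_out_eq_mul Q c
    simp only [smulW]
    rw [hd, hactmul, hactQ _ d.2]
  letI act : DistribMulAction ((Cz z) ⧸ Q) V :=
    { smul := smulW
      one_smul := fun v => by
        show smulW (QuotientGroup.mk (1 : Cz z)) v = v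
        rw [hsmul, hactone]
      mul_smul := fun a b v => by
        induction a using QuotientGroup.induction_on with | H c =>
        induction b using QuotientGroup.induction_on with | H d =>
        show smulW (QuotientGroup.mk (c * d)) v = smulW (QuotientGroup.mk c) (smulW (QuotientGroup.mk d) v)
        rw [hsmul, hsmul, hsmul, hactmul]
      smul_zero := fun a => by
        show act1 a.out 0 = 0
        exact map_zero _
      smul_add := fun a x y => by
        show act1 a.out (x + y) = act1 a.out x + act1 a.out y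
        exact map_add _ _ _ }
  have hπ_conj : ∀ (c : Cz z) (x y : Q), (y : Cz z) = c * x * c⁻¹ →
      (QuotientGroup.mk c : (Cz z) ⧸ Q) • π x = π y := by
    intro c x y h
    show smulW _ _ = _
    rw [hsmul, hact1]
    exact congrArg π (Subtype.ext h.symm)
  have hqsmul : ∀ (w : (Cz z) ⧸ Q) v, q (w • v) = q v := by
    intro w v
    induction w using QuotientGroup.induction_on with | H c =>
    obtain ⟨x, rfl⟩ := hπ_surj v
    rw [hπ_conj c x (conjQ c x) rfl, hq, hq]
    simp only [ind]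
    refine if_congr ?_ rfl rfl
    rw [← map_mul]
    refine ⟨fun h => ?_, fun h => by rw [h, map_one]⟩
    apply Subtype.ext
    have h' := congrArg Subtype.val h
    exact conj_eq_one_iff.mp h'
  have hnd : ∀ v : V, v ≠ 0 → ∃ y, q (v + y) + q v + q y = 1 := by
    intro v hv
    obtain ⟨x, rfl⟩ := hπ_surj v
    have hx : x ∉ Subgroup.center Q := fun h => hv ((hπ_zero x).mpr h)
    obtain ⟨y, hy⟩ : ∃ y, y * x ≠ x * y := by
      by_contra hc
      push Not at hc
      exact hx (Subgroup.mem_center_iff.mpr hc)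
    refine ⟨π y, ?_⟩
    rw [← hπ_mul, hq, hq, hq, hqb]
    have : ind ⁅y, x⁆ = 1 := by
      exact z2_ne _ fun h => hy ((hindc y x).mp h)
    rw [this]
    exact z2_nd _ _
  have hbilin : ∀ x y w : V, q (x + y + w) + q (x + y) + q (x + w) + q (y + w) + q x + q y + q w = 0 := by
    intro a c d
    obtain ⟨x, rfl⟩ := hπ_surj a
    obtain ⟨y, rfl⟩ := hπ_surj c
    obtain ⟨w, rfl⟩ := hπ_surj d
    simp only [← hπ_mul, hq, hqb]
    have hl : ind ⁅w, x * y⁆ = ind ⁅w, x⁆ + ind ⁅w, y⁆ := by
      have e1 : ⁅w, x * y⁆ = ⁅x * y, w⁆⁻¹ := (commutatorElement_inv _ _).symm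
      have e2 : ⁅w, x⁆ = ⁅x, w⁆⁻¹ := (commutatorElement_inv _ _).symm
      have e3 : ⁅w, y⁆ = ⁅y, w⁆⁻¹ := (commutatorElement_inv _ _).symm
      rw [e1, e2, e3, comm_mul_left hes, mul_inv_rev, hind _ _ (inv_mem (hcomm _ _)) (inv_mem (hcomm _ _)),
        add_comm]
    rw [hl]
    exact z2_bilin _ _ _ _ _ _
  have hcardV : Nat.card V = 4096 := by
    have h := Subgroup.card_eq_card_quotient_mul_card_subgroup (Subgroup.center Q)
    rw [hcard, hext.2] at h
    rw [Nat.card_congr Additive.toMul]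
    norm_num at h
    omega
  have hfaith : ∀ w : (Cz z) ⧸ Q, (∀ v : V, w • v = v) → w = 1 := by
    intro w
    induction w using QuotientGroup.induction_on with | H c =>
    intro hfix
    rw [QuotientGroup.eq_one_iff]
    have hδ : ∀ x : Q, (conjQ c x) * x⁻¹ ∈ Subgroup.center Q := fun x => by
      have h := (hfix (π x))
      rw [hπ_conj c x (conjQ c x) rfl, hπ_eq] at h
      have h3 : (Subgroup.center Q).Normal := inferInstance
      simpa [mul_assoc] using h3.conj_mem _ (inv_mem h) (conjQ c x)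
    -- the functional `x ↦ [c,x]` is a commutator with an element of `Q`
    letI : Module (ZMod 2) V := AddCommGroup.zmodModule fun v => by rw [two_nsmul]; exact htwo v
    haveI : Finite V := Finite.of_surjective π hπ_surj
    let B : V → V → ZMod 2 := fun v v' => q (v + v') + q v + q v'
    have hB : ∀ x y : Q, B (π x) (π y) = ind ⁅y, x⁆ := fun x y => by
      simp only [B, ← hπ_mul, hq, hqb]
      exact z2_polar _ _ _
    have hBr : ∀ v a d, B v (a + d) = B v a + B v d := fun v a d => by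
      have h := hbilin v a d
      simp only [B]
      rw [← add_assoc v a d]
      exact z2_add _ _ _ _ _ _ _ h
    have hBs : ∀ a d, B a d = B d a := fun a d => by
      simp only [B]; rw [add_comm a d, add_assoc, add_comm (q a) (q d), ← add_assoc]
    let L : V →ₗ[ZMod 2] (V →ₗ[ZMod 2] ZMod 2) := AddMonoidHom.toZModLinearMap 2 (AddMonoidHom.mk'
      (fun v => AddMonoidHom.toZModLinearMap 2 (AddMonoidHom.mk' (B v) (hBr v)))
      (fun a d => by
        apply LinearMap.ext
        intro v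
        show B (a + d) v = B a v + B d v
        rw [hBs, hBr, hBs v a, hBs v d]))
    have hLinj : Function.Injective L := by
      rw [injective_iff_map_eq_zero]
      intro v hv
      by_contra hne
      obtain ⟨y, hy⟩ := hnd v hne
      have := LinearMap.congr_fun hv y
      exact zero_ne_one (this.symm.trans hy)
    haveI : Module.Finite (ZMod 2) V := Module.Finite.of_finite
    have hLs : Function.Surjective L :=
      (LinearMap.injective_iff_surjective_of_finrank_eq_finrank Subspace.dual_finrank_eq.symm).mp hLinj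
    let f : V → ZMod 2 := fun v => ind (conjQ c (Additive.toMul v).out * (Additive.toMul v).out⁻¹)
    have hf : ∀ x : Q, f (π x) = ind (conjQ c x * x⁻¹) := by
      intro x
      obtain ⟨d, hd⟩ := QuotientGroup.mk_out_eq_mul (Subgroup.center Q) x
      show ind (conjQ c (QuotientGroup.mk x : Q ⧸ Subgroup.center Q).out *
        (QuotientGroup.mk x : Q ⧸ Subgroup.center Q).out⁻¹) = _
      rw [hd, map_mul]
      have e1 : conjQ c d = d := by
        rcases hzcases d d.2 with hd1 | hd1 <;> rw [hd1]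
        · exact map_one _
        · exact Subtype.ext (by
            show c * (⟨z, hzC⟩ : Cz z) * c⁻¹ = ⟨z, hzC⟩
            rw [hzcen, mul_inv_cancel_right])
      rw [e1]
      congr 1
      group
    have hfadd : ∀ a d, f (a + d) = f a + f d := by
      intro a d
      obtain ⟨x, rfl⟩ := hπ_surj a
      obtain ⟨y, rfl⟩ := hπ_surj d
      rw [← hπ_mul, hf, hf, hf, ← hind _ _ (hδ x) (hδ y), map_mul]
      congr 1
      have := Subgroup.mem_center_iff.mp (hδ y) (conjQ c x)
      calc conjQ c x * conjQ c y * (x * y)⁻¹ = conjQ c x * (conjQ c y * y⁻¹) * x⁻¹ := by group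
        _ = (conjQ c y * y⁻¹) * (conjQ c x * x⁻¹) := by rw [this]; group
        _ = _ := (Subgroup.mem_center_iff.mp (hδ x) _)
    obtain ⟨u0, hu0⟩ := hLs (AddMonoidHom.toZModLinearMap 2 (AddMonoidHom.mk' f hfadd))
    obtain ⟨u, rfl⟩ := hπ_surj u0
    have hu : ∀ x : Q, ind (conjQ c x * x⁻¹) = ind ⁅x, u⁆ := fun x => by
      rw [← hf, ← hB]; exact (LinearMap.congr_fun hu0 (π x)).symm
    have hsame : ∀ x : Q, conjQ c x = u * x * u⁻¹ := by
      intro x
      have h1 := hzcases _ (hδ x)
      have h2 := hzcases _ (hcomm u x)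
      have hinv : ind ⁅x, u⁆ = ind ⁅u, x⁆ := by
        rw [← commutatorElement_inv u x]
        rcases h2 with e1 | e1 <;> rw [e1]
        · simp
        · rw [inv_eq_of_mul_eq_one_right (by rw [← sq]; exact hes.z_pow)]
      have h3 : conjQ c x * x⁻¹ = ⁅u, x⁆ := by
        have hux := (hu x).trans hinv
        rcases h1 with e1 | e1 <;> rcases h2 with e2 | e2 <;> rw [e1, e2] at hux ⊢ <;>
          simp [ind, hzQ1] at hux
      calc conjQ c x = (conjQ c x * x⁻¹) * x := by group
        _ = u * x * u⁻¹ := by rw [h3, commutatorElement_def]; group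
    have hcu : ((u : Cz z))⁻¹ * c ∈ Q := hcQ _ fun x hx => by
      have h := congrArg Subtype.val (hsame ⟨x, hx⟩)
      simp only [conjQ, Subgroup.coe_mul, Subgroup.coe_inv, MonoidHom.coe_mk, OneHom.coe_mk] at h
      calc (u : Cz z)⁻¹ * c * x = (u : Cz z)⁻¹ * (c * x * c⁻¹) * c := by group
        _ = x * ((u : Cz z)⁻¹ * c) := by rw [h]; group
    simpa using mul_mem u.2 hcu
  -- the quotient
  set mk := QuotientGroup.mk' Q with hmk
  set Mb := M.map mk with hMb
  set Nb := N.map mk with hNb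
  have hNb3 : Nat.card Nb = 3 := by
    have h := Subgroup.card_eq_card_quotient_mul_card_subgroup (Q.subgroupOf N)
    rw [Nat.card_congr (Subgroup.subgroupOfEquivOfLe hQN).toEquiv, hNcard] at h
    have hpos : 0 < Nat.card Q := Nat.card_pos
    have h3 : Nat.card (N ⧸ Q.subgroupOf N) = 3 :=
      (Nat.eq_of_mul_eq_mul_right hpos h).symm
    let φ : N →* (Cz z) ⧸ Q := mk.comp N.subtype
    have hker : φ.ker = Q.subgroupOf N := by ext x; simp [φ, hmk, Subgroup.mem_subgroupOf]
    have hr : φ.range = Nb := by rw [MonoidHom.range_comp, Subgroup.range_subtype]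
    rw [← hr, ← Nat.card_congr (QuotientGroup.quotientKerEquivRange φ).toEquiv, hker, h3]
  have hidx : Mb.index = 2 := by
    rw [hMb, Subgroup.index_map_eq (f := mk) _ (QuotientGroup.mk'_surjective Q)
      (by rw [QuotientGroup.ker_mk']; exact hQN.trans hNM), hMidx]
  let ψ : M →* Cfsg.PSU 4 K 3 := e.toMonoidHom.comp (QuotientGroup.mk' (N.subgroupOf M))
  have hψs : Function.Surjective ψ := e.surjective.comp (QuotientGroup.mk'_surjective _)
  have hψk : ψ.ker = N.subgroupOf M := by ext x; simp [ψ]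
  let φM : M →* (Cz z) ⧸ Q := mk.comp M.subtype
  have hφMk : φM.ker = Q.subgroupOf M := by ext x; simp [φM, hmk, Subgroup.mem_subgroupOf]
  have hφMr : φM.range = Mb := by rw [MonoidHom.range_comp, Subgroup.range_subtype]
  have hle : φM.ker ≤ ψ.ker := by rw [hφMk, hψk]; exact fun x hx => hQN hx
  let ψb : Mb →* Cfsg.PSU 4 K 3 :=
    (QuotientGroup.lift φM.ker ψ hle).comp
      (((QuotientGroup.quotientKerEquivRange φM).trans (MulEquiv.subgroupCongr hφMr)).symm.toMonoidHom)
  have hψb : ∀ m : M, ψb ⟨mk m, ⟨m, m.2, rfl⟩⟩ = ψ m := by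
    intro m
    have : ((QuotientGroup.quotientKerEquivRange φM).trans (MulEquiv.subgroupCongr hφMr)).symm
        ⟨mk m, ⟨m, m.2, rfl⟩⟩ = QuotientGroup.mk m := by
      rw [MulEquiv.symm_apply_eq]; rfl
    show QuotientGroup.lift _ ψ hle _ = _
    rw [show (((QuotientGroup.quotientKerEquivRange φM).trans (MulEquiv.subgroupCongr hφMr)).symm.toMonoidHom)
      ⟨mk m, ⟨m, m.2, rfl⟩⟩ = QuotientGroup.mk m from this]
    rfl
  have hψbs : Function.Surjective ψb := fun y => by
    obtain ⟨m, rfl⟩ := hψs y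
    exact ⟨_, hψb m⟩
  have hψbk : ∀ x : Mb, ψb x = 1 ↔ (x : (Cz z) ⧸ Q) ∈ Nb := by
    rintro ⟨_, m, hm, rfl⟩
    rw [show (⟨mk m, _⟩ : Mb) = ⟨mk (⟨m, hm⟩ : M), ⟨m, hm, rfl⟩⟩ from rfl, hψb, ← MonoidHom.mem_ker, hψk]
    constructor
    · exact fun h => ⟨m, h, rfl⟩
    · rintro ⟨n, hn, hnm⟩
      have hq' : n⁻¹ * m ∈ Q := QuotientGroup.eq.mp hnm
      show m ∈ N
      simpa using mul_mem hn (hQN hq')
  haveI hNbn : Nb.Normal := Subgroup.Normal.map inferInstance mk (QuotientGroup.mk'_surjective Q)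
  haveI : Fact (Nat.Prime 3) := ⟨Nat.prime_three⟩
  obtain ⟨⟨h, hhN⟩, hh⟩ := (isCyclic_of_prime_card hNb3).exists_generator
  have hho : orderOf h = 3 := by
    rw [← Subgroup.orderOf_mk h hhN, orderOf_eq_card_of_forall_mem_zpowers hh, hNb3]
  have hNbh : Nb = Subgroup.zpowers h :=
    (Subgroup.eq_of_le_of_card_ge (Subgroup.zpowers_le.mpr hhN) (by rw [Nat.card_zpowers, hho, hNb3])).symm
  have hNbM : Nb ≤ Mb := Subgroup.map_mono hNM
  have hh3 : h * h * h = 1 := by rw [← sq, ← pow_succ, show 2 + 1 = orderOf h from hho.symm, pow_orderOf_eq_one]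
  have hconj : ∀ w : (Cz z) ⧸ Q, w * h * w⁻¹ = h ∨ w * h * w⁻¹ = h⁻¹ := by
    intro w
    have hm : w * h * w⁻¹ ∈ Subgroup.zpowers h := hNbh ▸ hNbn.conj_mem h hhN w
    obtain ⟨k, hk⟩ := hm
    have hk' : h ^ k = w * h * w⁻¹ := hk
    rw [← zpow_mod_orderOf, hho] at hk'
    have hc : k % 3 = 0 ∨ k % 3 = 1 ∨ k % 3 = 2 := by omega
    rcases hc with e0 | e0 | e0 <;> simp only [Nat.cast_ofNat, e0] at hk'
    · rw [zpow_zero] at hk'
      have : h = 1 := conj_eq_one_iff.mp hk'.symm
      simp [this] at hho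
    · exact Or.inl (by rw [← hk', zpow_one])
    · exact Or.inr (by rw [← hk', zpow_two, inv_eq_of_mul_eq_one_right (by rw [← mul_assoc]; exact hh3)])
  obtain ⟨⟨PL, AL, hALP, hALc, hALab, hALcube, hALcard, πL, hπLs, hπLk, hmoves⟩⟩ := Parabolic.exists_para (K := K) hK
  have hL : Nat.card (Cfsg.PSU 4 K 3) = 3265920 := card_psu4 hK
  -- `h` is central in `Mb`
  have hcentral : ∀ m ∈ Mb, m * h = h * m := by
    intro m hm
    rcases hconj m with e0 | e0
    · exact mul_inv_eq_iff_eq_mul.mp e0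
    exfalso
    -- the inverting elements would give a subgroup of index two
    let C0 : Subgroup Mb := (Subgroup.centralizer ({h} : Set ((Cz z) ⧸ Q))).subgroupOf Mb
    have hC0 : ∀ x : Mb, x ∈ C0 ↔ (x : (Cz z) ⧸ Q) * h = h * x := fun x => by
      rw [Subgroup.mem_subgroupOf, Subgroup.mem_centralizer_singleton_iff]
    have hi : C0.index = 2 := by
      rw [Subgroup.index_eq_two_iff]
      refine ⟨⟨m, hm⟩, fun b => ?_⟩
      rcases hconj b with hb | hb
      · refine Or.inr ⟨(hC0 _).mpr (mul_inv_eq_iff_eq_mul.mp hb), fun hbm => ?_⟩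
        have h1 := (hC0 _).mp hbm
        have hbm' : ((b : (Cz z) ⧸ Q) * m) * h * ((b : (Cz z) ⧸ Q) * m)⁻¹ = h⁻¹ := by
          calc _ = (b : (Cz z) ⧸ Q) * (m * h * m⁻¹) * (b : (Cz z) ⧸ Q)⁻¹ := by group
            _ = ((b : (Cz z) ⧸ Q) * h * (b : (Cz z) ⧸ Q)⁻¹)⁻¹ := by rw [e0]; group
            _ = h⁻¹ := by rw [hb]
        rw [show ((b * ⟨m, hm⟩ : Mb) : (Cz z) ⧸ Q) = (b : (Cz z) ⧸ Q) * m from rfl] at h1
        rw [h1, mul_inv_cancel_right] at hbm'
        have : h * h = 1 := by nth_rewrite 1 [hbm']; exact inv_mul_cancel h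
        rw [this, one_mul] at hh3
        simp [hh3] at hho
      · refine Or.inl ⟨(hC0 _).mpr ?_, fun hbc => ?_⟩
        · apply mul_inv_eq_iff_eq_mul.mp
          show ((b : (Cz z) ⧸ Q) * m) * h * ((b : (Cz z) ⧸ Q) * m)⁻¹ = h
          calc _ = (b : (Cz z) ⧸ Q) * (m * h * m⁻¹) * (b : (Cz z) ⧸ Q)⁻¹ := by group
            _ = ((b : (Cz z) ⧸ Q) * h * (b : (Cz z) ⧸ Q)⁻¹)⁻¹ := by rw [e0]; group
            _ = h := by rw [hb, inv_inv]
        · have := (hC0 _).mp hbc
          rw [this, mul_inv_cancel_right] at hb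
          have h2 : h * h = 1 := by nth_rewrite 1 [hb]; exact inv_mul_cancel h
          rw [h2, one_mul] at hh3
          simp [hh3] at hho
    -- pull it back to a parabolic subgroup of `L`
    have hi2 : (C0.map ψb).index = 2 := by
      rw [Subgroup.index_map_eq _ hψbs, hi]
      intro x hx
      rw [hC0]
      obtain ⟨k, hk⟩ := (hNbh ▸ (hψbk x).mp hx : (x : (Cz z) ⧸ Q) ∈ Subgroup.zpowers h)
      rw [← hk]
      exact ((Commute.refl h).zpow_left k).eq
    haveI : (C0.map ψb).Normal := Subgroup.normal_of_index_eq_two hi2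
    -- a subgroup of index two meets the parabolic in everything, and has order prime to seven otherwise
    have hsimple := Cfsg.Agent.Lib.Unitary.isSimpleGroup_PSU (F := K) (n := 4) (q := 3)
      (by rw [hK]; norm_num) (by norm_num) (by norm_num)
    rcases hsimple.eq_bot_or_eq_top_of_normal (C0.map ψb) inferInstance with h0 | h0
    · rw [h0, Subgroup.index_bot, hL] at hi2; norm_num at hi2
    · rw [h0, Subgroup.index_top] at hi2; norm_num at hi2
  let Pt : Subgroup ((Cz z) ⧸ Q) := (PL.comap ψb).map Mb.subtype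
  let At : Subgroup ((Cz z) ⧸ Q) := (AL.comap ψb).map Mb.subtype
  have hPtM : Pt ≤ Mb := Subgroup.map_subtype_le _
  have hAPt : At ≤ Pt := Subgroup.map_mono (Subgroup.comap_mono hALP)
  have hmemP : ∀ x : Mb, (x : (Cz z) ⧸ Q) ∈ Pt ↔ ψb x ∈ PL := fun x => by
    constructor
    · rintro ⟨y, hy, hyx⟩
      exact (Subtype.ext hyx : y = x) ▸ hy
    · exact fun hx => ⟨x, hx, rfl⟩
  have hmemA : ∀ x : Mb, (x : (Cz z) ⧸ Q) ∈ At ↔ ψb x ∈ AL := fun x => by
    constructor
    · rintro ⟨y, hy, hyx⟩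
      exact (Subtype.ext hyx : y = x) ▸ hy
    · exact fun hx => ⟨x, hx, rfl⟩
  have hmemN : ∀ x : Mb, (x : (Cz z) ⧸ Q) ∈ Subgroup.zpowers h ↔ ψb x = 1 := fun x => by
    rw [← hNbh, hψbk]
  let ρ : Pt →* PL :=
    { toFun := fun p => ⟨ψb ⟨p, hPtM p.2⟩, (hmemP _).mp p.2⟩
      map_one' := Subtype.ext (map_one ψb)
      map_mul' := fun a c => Subtype.ext (map_mul ψb ⟨a, hPtM a.2⟩ ⟨c, hPtM c.2⟩) }
  have hρs : Function.Surjective ρ := fun y => by
    obtain ⟨x, hx⟩ := hψbs y.1
    exact ⟨⟨x, (hmemP x).mpr (hx ▸ y.2)⟩, Subtype.ext hx⟩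
  have hcardA : Nat.card At = 243 := by
    have h1 := (AL.comap ψb).card_mul_index
    rw [Subgroup.index_comap_of_surjective _ hψbs] at h1
    have h2 := AL.card_mul_index
    rw [hALcard, hL] at h2
    have hMc : Nat.card Mb = 9797760 := by
      have hkb : ψb.ker.map Mb.subtype = Nb := by
        ext x
        constructor
        · rintro ⟨y, hy, rfl⟩; exact (hψbk y).mp hy
        · exact fun hx => ⟨⟨x, hNbM hx⟩, (hψbk _).mpr hx, rfl⟩
      have hk := Subgroup.card_eq_card_quotient_mul_card_subgroup ψb.ker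
      rw [Nat.card_congr (QuotientGroup.quotientKerEquivOfSurjective ψb hψbs).toEquiv, hL,
        Nat.card_congr (Subgroup.equivMapOfInjective ψb.ker _ Mb.subtype_injective).toEquiv, hkb, hNb3] at hk
      exact hk.trans (by norm_num)
    rw [hMc] at h1
    have h3 : Nat.card At = Nat.card (AL.comap ψb) :=
      (Nat.card_congr (Subgroup.equivMapOfInjective _ _ Mb.subtype_injective).toEquiv).symm
    have h4 : AL.index = 40320 := by omega
    rw [h4] at h1
    omega
  have hcardW : Nat.card ((Cz z) ⧸ Q) = 19595520 := by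
    have h1 := Mb.card_mul_index
    have hkb : ψb.ker.map Mb.subtype = Nb := by
      ext x
      constructor
      · rintro ⟨y, hy, rfl⟩; exact (hψbk y).mp hy
      · exact fun hx => ⟨⟨x, hNbM hx⟩, (hψbk _).mpr hx, rfl⟩
    have hk := Subgroup.card_eq_card_quotient_mul_card_subgroup ψb.ker
    rw [Nat.card_congr (QuotientGroup.quotientKerEquivOfSurjective ψb hψbs).toEquiv, hL,
      Nat.card_congr (Subgroup.equivMapOfInjective ψb.ker _ Mb.subtype_injective).toEquiv, hkb, hNb3] at hk
    rw [hk, hidx] at h1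
    omega
  let D : Core ((Cz z) ⧸ Q) V :=
    { two := htwo
      q := q
      bilin := hbilin
      nondeg := hnd
      cardV := hcardV
      q_smul := hqsmul
      faithful := hfaith
      cardW := hcardW
      h := h
      h_ne := fun h1 => by simp [h1] at hho
      h_cube := hh3
      Mb := Mb
      index := hidx
      h_mem := hNbM hhN
      central := hcentral
      h_conj := hconj
      P := Pt
      A := At
      A_le := hAPt
      P_le := hPtM
      h_A := (hmemA ⟨h, hNbM hhN⟩).mpr (by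
        rw [(hmemN ⟨h, hNbM hhN⟩).mp (Subgroup.mem_zpowers h)]; exact one_mem _)
      cardA := hcardA
      A_conj := fun p hp a ha => by
        have h1 := hALc _ ((hmemP ⟨p, hPtM hp⟩).mp hp) _ ((hmemA ⟨a, hPtM (hAPt ha)⟩).mp ha)
        rw [← map_inv, ← map_mul, ← map_mul] at h1
        exact (hmemA _).mpr h1
      π := πL.comp ρ
      surj := hπLs.comp hρs
      ker := fun p => by
        rw [MonoidHom.comp_apply, hπLk]
        exact (hmemA ⟨p, hPtM p.2⟩).symm
      moves := by
        obtain ⟨p, hp, a, ha, hpa⟩ := hmoves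
        obtain ⟨p', rfl⟩ := hψbs p
        obtain ⟨a', rfl⟩ := hψbs a
        refine ⟨p', (hmemP p').mpr hp, a', (hmemA a').mpr ha, fun hc => hpa ?_⟩
        have := (hmemN (p' * a' * p'⁻¹ * a'⁻¹)).mp hc
        rw [map_mul, map_mul, map_mul, map_inv, map_inv] at this
        exact mul_inv_eq_one.mp this
      comm_mod := fun a ha c hc => by
        refine (hmemN (⟨a, hPtM (hAPt ha)⟩ * ⟨c, hPtM (hAPt hc)⟩ * (⟨a, hPtM (hAPt ha)⟩ : Mb)⁻¹ *
          (⟨c, hPtM (hAPt hc)⟩ : Mb)⁻¹)).mpr ?_
        rw [map_mul, map_mul, map_mul, map_inv, map_inv,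
          hALab _ ((hmemA _).mp ha) _ ((hmemA _).mp hc)]
        group
      cube_mod := fun a ha => by
        refine (hmemN (⟨a, hPtM (hAPt ha)⟩ * ⟨a, hPtM (hAPt ha)⟩ * ⟨a, hPtM (hAPt ha)⟩ : Mb)).mpr ?_
        rw [map_mul, map_mul]
        exact hALcube _ ((hmemA _).mp ha) }
  refine ⟨⟨V, inferInstance, Finite.of_surjective π hπ_surj, act, D, π, hπ_surj, hπ_mul, fun x => ?_,
    fun x => ?_, hπ_conj, M, N, hQN, hNM, rfl, hNbh, ?_, K, hK, e.toMonoidHom, e.bijective⟩⟩
  · rw [hπ_zero]
    constructor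
    · intro hx
      rcases hzcases x hx with rfl | rfl
      exacts [Or.inl rfl, Or.inr rfl]
    · rintro (rfl | hxz)
      · exact one_mem _
      · have : x = zQ := Subtype.ext (Subtype.ext hxz)
        rw [this]
        exact (hes.mem_center _).mpr (Subgroup.mem_zpowers _)
  · show q (π x) = 0 ↔ _
    rw [hq]
    simp only [ind]
    split_ifs with hx
    · exact iff_of_true rfl hx
    · exact iff_of_false one_ne_zero hx
  · intro U hU1 hU2 hU3
    haveI : IsSimpleGroup (Cfsg.PSU 4 K 3) := Cfsg.Agent.Lib.Unitary.isSimpleGroup_PSU (F := K) (n := 4) (q := 3)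
      (by rw [hK]; norm_num) (by norm_num) (by norm_num)
    set U0 := U.subgroupOf Mb with hU0
    haveI : U0.Normal := ⟨fun x hx m => hU3 m m.2 x hx⟩
    have hk : ψb.ker ≤ U0 := fun x hx => hU1 ((hmemN x).mpr hx)
    rcases IsSimpleGroup.eq_bot_or_eq_top_of_normal (U0.map ψb)
        (Subgroup.Normal.map inferInstance _ hψbs) with h0 | h0
    · left
      refine le_antisymm (fun x hx => ?_) hU1
      have : ψb ⟨x, hU2 hx⟩ ∈ U0.map ψb := ⟨⟨x, hU2 hx⟩, hx, rfl⟩
      rw [h0, Subgroup.mem_bot] at this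
      exact (hmemN _).mpr this
    · right
      refine le_antisymm hU2 fun x hx => ?_
      have : (⟨x, hx⟩ : Mb) ∈ U0 := by
        rw [← Subgroup.comap_map_eq_self hk, h0, Subgroup.comap_top]; exact Subgroup.mem_top _
      exact this

end Cfsg.Agent.Lib.LargeFischer13
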