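import Cfsg.Agent.Lib.LargeFischer13.Frame

/-!
Exactly two orbits on the singular vectors: an element of order seven fixes none of them, and the
monomial group leaves only one way to cut 2079 into parts that are multiples of seven and divide
the group order.
-/

set_option autoImplicit false
set_option linter.style.haveILetI false
set_option linter.unusedSectionVars false

namespace Cfsg.Agent.Lib.LargeFischer13

open Model

/-- the class of weight two and sum of phases one -/
def Model.IsU (c : Model.Coord) : Prop := wt c = 2 ∨ (wt c = 6 ∧ phase c = 1)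

/-- the other singular class -/
def Model.IsR (c : Model.Coord) : Prop := wt c = 4 ∨ (wt c = 6 ∧ phase c ≠ 1)

namespace Frame

variable {W : Type*} [Group W] [Finite W] {V : Type*} [AddCommGroup V] [Finite V]
  [DistribMulAction W V] {D : Core W V} (F : Frame D)

/-- the vector with given coordinates -/
def vec (c : Coord) : V := ∑ i, D.lineEl (F.v i) (c i)

theorem vec_bij : Function.Bijective F.vec := F.bij

theorem vec_inj {c c' : Coord} (h : F.vec c = F.vec c') : c = c' := F.bij.1 h

theorem exists_coord (x : V) : ∃ c, F.vec c = x := F.bij.2 x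

theorem q_eq (c : Coord) : D.q (F.vec c) = (wt c : ZMod 2) := F.q_vec c

/-- an element of `Mb` permuting the lines -/
def IsMono (m : W) (π : Equiv.Perm (Fin 6)) (σ : Ph) : Prop :=
  ∀ i, m • F.v i = D.lineEl (F.v (π i)) (some (σ i))

theorem smul_vec {m : W} (hm : m ∈ D.Mb) {π : Equiv.Perm (Fin 6)} {σ : Ph} (h : F.IsMono m π σ)
    (c : Coord) : m • F.vec c = F.vec (move π σ c) := by
  rw [vec, vec, Finset.smul_sum, ← Equiv.sum_comp π (fun j => D.lineEl (F.v j) (move π σ c j))]
  refine Finset.sum_congr rfl fun i _ => ?_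
  rw [D.smul_lineEl hm (h i), move, Equiv.symm_apply_apply]

theorem exists_shift (k : Ph) (hk : ∑ i, k i = 0) :
    ∃ a ∈ D.A, ∀ c, a • F.vec c = F.vec (shift k c) := by
  obtain ⟨a, ha, h⟩ := F.diag' k hk
  exact ⟨a, ha, fun c => (F.smul_vec (D.A_le_Mb ha) (π := 1) h c).trans (by rw [move_one])⟩

theorem vec_zero : F.vec (fun _ => none) = 0 := by simp [vec, Core.lineEl]

theorem vec_ne_zero {c : Coord} (h : wt c ≠ 0) : F.vec c ≠ 0 := fun h0 => h (by
  rw [F.vec_inj (h0.trans F.vec_zero.symm)]; simp [wt, supp])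

theorem wt_zero {c : Coord} (h : wt c = 0) : c = fun _ => none := by
  funext i
  by_contra hn
  have : i ∈ supp c := mem_supp.mpr (Option.isSome_iff_ne_none.mpr hn)
  exact absurd (Finset.card_pos.mpr ⟨i, this⟩) (by rw [show (supp c).card = 0 from h]; norm_num)

theorem sing_iff (c : Coord) :
    (F.vec c ≠ 0 ∧ D.q (F.vec c) = 0) ↔ (wt c = 2 ∨ wt c = 4 ∨ wt c = 6) := by
  have hle : wt c ≤ 6 := le_trans (Finset.card_le_univ _) (by simp)
  rw [F.q_eq]
  constructor
  · rintro ⟨h0, hq⟩
    have hne : wt c ≠ 0 := fun h => h0 (by rw [wt_zero h]; exact F.vec_zero)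
    have h2 := (ZMod.natCast_eq_zero_iff_even).mp hq
    obtain ⟨r, hr⟩ := h2
    omega
  · intro h
    refine ⟨F.vec_ne_zero (by omega), ?_⟩
    rcases h with h | h | h <;> rw [h] <;> decide

theorem orbit_classes {c c' : Coord} (hc : wt c = wt c') (h2 : wt c = 2 ∨ wt c = 4 ∨ wt c = 6)
    (hp : wt c = 6 → phase c = phase c') : ∃ w : W, w • F.vec c = F.vec c' := by
  by_cases h6 : wt c = 6
  · obtain ⟨k, hk, hkc⟩ := exists_shift_six h6 (hc ▸ h6) (hp h6)
    obtain ⟨a, -, hac⟩ := F.exists_shift k hk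
    exact ⟨a, by rw [hac, hkc]⟩
  · obtain ⟨π, hπ, hall⟩ := exists_move_wt hc (by omega) h6
    obtain ⟨p, hp', σ, hσ⟩ := F.mono' π hπ
    obtain ⟨k, hk, hkc⟩ := hall σ
    obtain ⟨a, -, hac⟩ := F.exists_shift k hk
    exact ⟨a * p, by rw [mul_smul, F.smul_vec (D.P_le hp') hσ, hac, hkc]⟩

end Frame

namespace Core

variable {W : Type*} [Group W] [Finite W] {V : Type*} [AddCommGroup V] [Finite V]
  [DistribMulAction W V] (D : Core W V)

/-- an element of order seven fixes no singular vector -/
theorem exists_seven : ∃ g : W, orderOf g = 7 ∧ g ∈ D.Mb ∧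
    ∀ x : V, g • x = x → D.q x = 0 → x = 0 := by
  classical
  haveI : Fact (Nat.Prime 7) := ⟨by norm_num⟩
  haveI : Fact (Nat.Prime 3) := ⟨Nat.prime_three⟩
  haveI := Fintype.ofFinite V
  obtain ⟨g, hg⟩ := exists_prime_orderOf_dvd_card' (G := W) 7 (by rw [D.cardW]; norm_num)
  have hgM : g ∈ D.Mb := D.mem_of_odd (hg ▸ ⟨3, rfl⟩)
  obtain ⟨F⟩ := D.exists_frame
  refine ⟨g, hg, hgM, fun x hx hq => ?_⟩
  by_contra hx0
  let C : AddSubgroup V :=
    { carrier := {v | g • v = v}
      zero_mem' := smul_zero g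
      add_mem' := fun {a c} ha hc => by show g • (a + c) = a + c; rw [smul_add, ha, hc]
      neg_mem' := fun {a} ha => by show g • -a = -a; rw [smul_neg, ha] }
  -- fixed points of `g`
  have h7 : ∀ (S : Set V), (∀ v ∈ S, g • v ∈ S) → Nat.card S ≡ Nat.card {v : V // v ∈ S ∧ g • v = v} [MOD 7] := by
    intro S hS
    let U := Subgroup.zpowers g
    have hU : IsPGroup 7 U := IsPGroup.of_card (n := 1) (by rw [Nat.card_zpowers, hg, pow_one])
    have hgS : Set.MapsTo (fun v => g • v) S S := hS
    have hpow : ∀ n : ℕ, ∀ v ∈ S, (g ^ n) • v ∈ S := by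
      intro n
      induction n with
      | zero => simp
      | succ n ih => intro v hv; rw [pow_succ, mul_smul]; exact ih _ (hS v hv)
    have hUS : ∀ u : U, ∀ v ∈ S, (u : W) • v ∈ S := fun u v hv => by
      obtain ⟨n, hn⟩ := (mem_powers_iff_mem_zpowers.mpr u.2)
      rw [← hn]; exact hpow n v hv
    letI : MulAction U S :=
      { smul := fun u v => ⟨(u : W) • v.1, hUS u v.1 v.2⟩
        one_smul := fun v => Subtype.ext (one_smul W v.1)
        mul_smul := fun u u' v => Subtype.ext (mul_smul (u : W) (u' : W) v.1) }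
    have h := hU.card_modEq_card_fixedPoints S
    suffices e : Nat.card {v : V // v ∈ S ∧ g • v = v} = Nat.card (MulAction.fixedPoints U S) by
      rw [e]; exact h
    refine (Nat.card_congr ⟨fun v => ⟨⟨v.1, v.2.1⟩, fun u => Subtype.ext ?_⟩,
      fun v => ⟨v.1.1, v.1.2, congrArg Subtype.val (v.2 ⟨g, Subgroup.mem_zpowers g⟩)⟩,
      fun v => rfl, fun v => rfl⟩)
    show (u : W) • v.1 = v.1
    have hst : U ≤ MulAction.stabilizer W v.1 := Subgroup.zpowers_le.mpr v.2.2
    exact hst u.2
  have hC7 : 4096 ≡ Nat.card C [MOD 7] := by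
    have h := h7 Set.univ (fun v _ => trivial)
    rw [Nat.card_congr (Equiv.Set.univ V), D.cardV] at h
    have e : Nat.card {v : V // v ∈ Set.univ ∧ g • v = v} = Nat.card C :=
      Nat.card_congr (Equiv.subtypeEquivRight fun v => by simp; rfl)
    rwa [e] at h
  -- `h` acts freely on the non-zero fixed vectors
  have hfree : ∀ v : V, D.h • v = v → v = 0 := by
    intro v hv
    obtain ⟨c, rfl⟩ := F.exists_coord v
    have hh : F.IsMono D.h 1 (fun _ => 1) := fun i => by
      simp [Core.lineEl, show (1 : ZMod 3).val = 1 from rfl]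
    rw [F.smul_vec D.h_mem hh, move_one] at hv
    have e := F.vec_inj hv
    rw [show c = fun _ => none from funext fun i => by
      have := congrFun e i
      cases hc : c i with
      | none => rfl
      | some k => simp [shift, hc] at this]
    exact F.vec_zero
  have h3 : ∀ S : Set V, (∀ v ∈ S, D.h • v ∈ S) → (0 : V) ∉ S → 3 ∣ Nat.card S := by
    intro S hS h0
    let U := Subgroup.zpowers D.h
    have hU : IsPGroup 3 U := IsPGroup.of_card (n := 1) (by rw [Nat.card_zpowers, D.h_order, pow_one])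
    have hUS : ∀ u : U, ∀ v ∈ S, (u : W) • v ∈ S := fun u v hv => by
      rcases D.zpowers_cases u.2 with e | e | e <;> rw [e]
      · rwa [one_smul]
      · exact hS v hv
      · rw [mul_smul]; exact hS _ (hS v hv)
    letI : MulAction U S :=
      { smul := fun u v => ⟨(u : W) • v.1, hUS u v.1 v.2⟩
        one_smul := fun v => Subtype.ext (one_smul W v.1)
        mul_smul := fun u u' v => Subtype.ext (mul_smul (u : W) (u' : W) v.1) }
    have h := hU.card_modEq_card_fixedPoints S
    haveI : IsEmpty (MulAction.fixedPoints U S) := ⟨fun v => h0 (by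
      have := hfree v.1.1 (congrArg Subtype.val (v.2 ⟨D.h, Subgroup.mem_zpowers _⟩))
      exact this ▸ v.1.2)⟩
    rw [Nat.card_of_isEmpty (α := MulAction.fixedPoints U S)] at h
    exact Nat.modEq_zero_iff_dvd.mp h
  have hCh : ∀ v : V, g • v = v → g • D.h • v = D.h • v := fun v hv => by
    rw [D.smul_h_comm hgM, hv]
  -- the order of the fixed space
  have hxC : x ∈ C := hx
  have hCne : Nat.card C ≠ 4096 := fun h => by
    have htop : C = ⊤ := AddSubgroup.eq_top_of_card_eq C (by rw [h, D.cardV])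
    have := D.faithful g fun v => (htop ▸ AddSubgroup.mem_top v : v ∈ C)
    rw [this, orderOf_one] at hg
    norm_num at hg
  obtain ⟨k, hk, hkC⟩ := (Nat.dvd_prime_pow Nat.prime_two).mp
    (show Nat.card C ∣ 2 ^ 12 by
      have := C.card_addSubgroup_dvd_card
      rw [D.cardV] at this
      exact this)
  have hC3 : 3 ∣ Nat.card C - 1 := by
    have h := h3 ((C : Set V) \ {0}) (fun v hv => ⟨hCh v hv.1, fun h => hv.2 (by
      simpa using congrArg (D.h⁻¹ • ·) (Set.mem_singleton_iff.mp h))⟩) (fun h => h.2 rfl)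
    rwa [Nat.card_coe_set_eq, Set.ncard_sdiff_singleton_of_mem (zero_mem C), ← Nat.card_coe_set_eq] at h
  have hC1 : 1 < Nat.card C := by
    haveI : Nontrivial C := ⟨⟨x, hxC⟩, 0, fun h => hx0 (congrArg Subtype.val h)⟩
    exact Finite.one_lt_card
  have h64 : Nat.card C = 64 := by
    rw [hkC] at hC7 hC3 hC1 hCne ⊢
    interval_cases k <;> simp_all [Nat.ModEq]
  -- `C` is non-degenerate
  have hnd : ∀ y ∈ C, y ≠ 0 → ∃ y' ∈ C, D.b y y' = 1 := by
    intro y hy hy0
    obtain ⟨z, hz⟩ := D.exists_b hy0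
    refine ⟨∑ i ∈ Finset.range 7, (g ^ i) • z, ?_, ?_⟩
    · show g • ∑ i ∈ Finset.range 7, (g ^ i) • z = _
      rw [Finset.smul_sum]
      simp only [smul_smul, ← pow_succ']
      rw [Finset.sum_range_succ (fun i => (g ^ (i + 1)) • z), Finset.sum_range_succ' (fun i => (g ^ i) • z)]
      rw [show g ^ (6 + 1) = g ^ 0 by rw [show 6 + 1 = orderOf g from hg.symm, pow_orderOf_eq_one, pow_zero]]
    · have hfix : ∀ i : ℕ, (g ^ i) • y = y := by
        intro i
        induction i with
        | zero => simp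
        | succ i ih => rw [pow_succ, mul_smul, show g • y = y from hy, ih]
      rw [D.b_comm, D.b_sum, Finset.sum_congr rfl (g := fun _ => (1 : ZMod 2)) fun i _ => ?_]
      · simp; decide
      · rw [← hfix i, D.b_smul, D.b_comm, hz]
  -- the square of the sum of signs is the order
  let sg : ZMod 2 → ℤ := fun a => if a = 0 then 1 else -1
  have hsg : ∀ a b, sg (a + b) = sg a * sg b := by decide
  set S : ℤ := ∑ v : C, sg (D.q v) with hSdef
  have hS2 : S * S = 64 := by
    have step : ∀ u : C, ∑ v : C, sg (D.q v) * sg (D.q (u + v : C)) =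
        if u = 0 then (64 : ℤ) else 0 := by
      intro u
      have e : ∀ v : C, sg (D.q v) * sg (D.q (u + v : C)) = sg (D.q u) * sg (D.b u v) := fun v => by
        rw [AddSubgroup.coe_add, D.q_add, ← hsg, ← hsg]
        congr 1
        generalize D.q (v : V) = a, D.q (u : V) = c, D.b (u : V) (v : V) = d
        revert a c d
        decide
      simp only [e, ← Finset.mul_sum]
      by_cases hu : u = 0
      · subst hu
        rw [if_pos rfl]
        simp [D.q_zero, D.b_zero_left, sg, ← Nat.card_eq_fintype_card, h64]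
      · rw [if_neg hu]
        obtain ⟨y', hy', hb⟩ := hnd u u.2 (fun h => hu (Subtype.ext h))
        have h := Equiv.sum_comp (Equiv.addRight (⟨y', hy'⟩ : C)) (fun v : C => sg (D.b u v))
        simp only [Equiv.coe_addRight, AddSubgroup.coe_add, D.b_add_right, hsg, hb, ← Finset.sum_mul] at h
        have h1 : sg 1 = -1 := rfl
        rw [h1] at h
        have : ∑ v : C, sg (D.b u v) = 0 := by linarith
        rw [this, mul_zero]
    calc S * S = ∑ v : C, ∑ w : C, sg (D.q v) * sg (D.q w) := by rw [hSdef, Finset.sum_mul_sum]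
      _ = ∑ v : C, ∑ u : C, sg (D.q v) * sg (D.q (u + v : C)) := Finset.sum_congr rfl fun v _ =>
          (Equiv.sum_comp (Equiv.addRight v) fun w : C => sg (D.q v) * sg (D.q w)).symm
      _ = ∑ u : C, if u = 0 then (64 : ℤ) else 0 := by rw [Finset.sum_comm]; simp only [step]
      _ = 64 := by simp
  have hS8 : S = 8 ∨ S = -8 := by
    rcases mul_eq_zero.mp (show (S - 8) * (S + 8) = 0 by linarith) with h | h <;> omega
  -- counting the singular vectors of `C`
  let Cs : Set V := {v | v ≠ 0 ∧ D.q v = 0 ∧ g • v = v}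
  have hn3 : 3 ∣ Nat.card Cs := h3 Cs (fun v hv =>
    ⟨fun h => hv.1 (by simpa using congrArg (D.h⁻¹ • ·) h), (D.q_smul _ _).trans hv.2.1, hCh v hv.2.2⟩)
    (fun h => h.1 rfl)
  have hn7 : 7 ∣ Nat.card Cs := by
    have h := h7 {v | v ≠ 0 ∧ D.q v = 0} (fun v hv =>
      ⟨fun h => hv.1 (by simpa using congrArg (g⁻¹ • ·) h), (D.q_smul _ _).trans hv.2⟩)
    have h2 : Nat.card {v : V | v ≠ 0 ∧ D.q v = 0} = 2079 := by
      have e : {v : V | v ≠ 0 ∧ D.q v = 0} ≃ {c : Coord // wt c = 2 ∨ wt c = 4 ∨ wt c = 6} :=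
        ((Equiv.ofBijective _ F.vec_bij).subtypeEquiv fun c => (F.sing_iff c).symm).symm
      rw [Nat.card_congr e, Nat.card_eq_fintype_card]
      decide +kernel
    rw [h2] at h
    have h3' : Nat.card {v : V // v ∈ {v : V | v ≠ 0 ∧ D.q v = 0} ∧ g • v = v} = Nat.card Cs :=
      Nat.card_congr (Equiv.subtypeEquivRight fun v => by simp [Cs, and_assoc])
    rw [h3'] at h
    exact Nat.modEq_zero_iff_dvd.mp (h.symm.trans (by decide))
  have hcount : S = 2 * ((Nat.card Cs : ℤ) + 1) - 64 := by
    have e1 : S = 2 * ((Finset.univ.filter fun v : C => D.q v = 0).card : ℤ) - 64 := by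
      rw [hSdef]
      simp only [sg, Finset.sum_ite, Finset.sum_const, nsmul_eq_mul, mul_one, mul_neg]
      have h := Finset.card_filter_add_card_filter_not (s := (Finset.univ : Finset C)) (fun v : C => D.q v = 0)
      rw [Finset.card_univ, ← Nat.card_eq_fintype_card, h64] at h
      have h' := congrArg (Nat.cast : ℕ → ℤ) h
      push_cast at h'
      linarith
    rw [e1]
    have hins : {v : C | D.q v = 0}.ncard = Nat.card Cs + 1 := by
      have h0 : (0 : C) ∈ {v : C | D.q v = 0} := D.q_zero
      rw [← Set.ncard_sdiff_singleton_add_one h0]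
      congr 1
      rw [← Nat.card_coe_set_eq]
      refine Nat.card_congr ⟨fun v => ⟨v.1.1, fun h => v.2.2 (Subtype.ext h), v.2.1, v.1.2⟩,
        fun v => ⟨⟨v.1, v.2.2.2⟩, v.2.2.1, fun h => v.2.1 (congrArg Subtype.val h)⟩,
        fun v => rfl, fun v => rfl⟩
    rw [Set.ncard_eq_toFinset_card', Set.toFinset_setOf] at hins
    rw [hins]
    push_cast
    ring
  omega

include D in
theorem card_orbit_dvd (x : V) : Nat.card (MulAction.orbit W x) ∣ 19595520 := by
  rw [← D.cardW]
  exact ⟨Nat.card (MulAction.stabilizer W x), by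
    rw [← Nat.card_prod]
    exact Nat.card_congr (MulAction.orbitProdStabilizerEquivGroup W x).symm⟩

theorem card_orbit_seven {x : V} (hx : x ≠ 0) (hq : D.q x = 0) :
    7 ∣ Nat.card (MulAction.orbit W x) := by
  haveI : Fact (Nat.Prime 7) := ⟨by norm_num⟩
  obtain ⟨g, hg, -, hfree⟩ := D.exists_seven
  have hU : IsPGroup 7 (Subgroup.zpowers g) :=
    IsPGroup.of_card (n := 1) (by rw [Nat.card_zpowers, hg, pow_one])
  have h := hU.card_modEq_card_fixedPoints (MulAction.orbit W x)
  haveI : IsEmpty (MulAction.fixedPoints (Subgroup.zpowers g) (MulAction.orbit W x)) := ⟨fun v => by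
    obtain ⟨w, hw⟩ := v.1.2
    have hw' : w • x = v.1.1 := hw
    have h0 : v.1.1 = 0 := hfree _ (congrArg Subtype.val (v.2 ⟨g, Subgroup.mem_zpowers g⟩))
      (by rw [← hw', D.q_smul]; exact hq)
    rw [h0] at hw'
    exact hx (by simpa using congrArg (w⁻¹ • ·) hw')⟩
  rw [Nat.card_of_isEmpty (α := MulAction.fixedPoints (Subgroup.zpowers g) (MulAction.orbit W x))] at h
  exact Nat.modEq_zero_iff_dvd.mp h

end Core

namespace Frame

variable {W : Type*} [Group W] [Finite W] {V : Type*} [AddCommGroup V] [Finite V]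
  [DistribMulAction W V] {D : Core W V} (F : Frame D)

open Classical in
/-- the classes met by an orbit -/
theorem card_orbit_eq (x : V) (hx : x ≠ 0) (hq : D.q x = 0) :
    Nat.card (MulAction.orbit W x) =
      (if ∃ c, wt c = 2 ∧ F.vec c ∈ MulAction.orbit W x then 135 else 0) +
      (if ∃ c, wt c = 4 ∧ F.vec c ∈ MulAction.orbit W x then 1215 else 0) +
      ∑ e : ZMod 3, (if ∃ c, wt c = 6 ∧ phase c = e ∧ F.vec c ∈ MulAction.orbit W x then 243 else 0) := by
  set O := MulAction.orbit W x with hO
  have h1 : Nat.card O = (Finset.univ.filter fun c : Coord => F.vec c ∈ O).card := by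
    rw [← Fintype.card_subtype, ← Nat.card_eq_fintype_card]
    exact Nat.card_congr ((Equiv.ofBijective _ F.vec_bij).subtypeEquiv fun c => Iff.rfl).symm
  have hcl : ∀ c, F.vec c ∈ O → (wt c = 2 ∨ wt c = 4 ∨ wt c = 6) := by
    rintro c ⟨w, hw⟩
    have hw' : w • x = F.vec c := hw
    refine (F.sing_iff c).mp ⟨fun h => hx ?_, by rw [← hw', D.q_smul]; exact hq⟩
    rw [h] at hw'
    simpa using congrArg (w⁻¹ • ·) hw'
  have hfill : ∀ c c', wt c = wt c' → (wt c = 2 ∨ wt c = 4 ∨ wt c = 6) →
      (wt c = 6 → phase c = phase c') → F.vec c ∈ O → F.vec c' ∈ O := by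
    intro c c' h1 h2 h3 hc
    obtain ⟨w, hw⟩ := F.orbit_classes h1 h2 h3
    rw [← hw]
    exact MulAction.mem_orbit_of_mem_orbit w hc
  rw [h1]
  set S := Finset.univ.filter fun c : Coord => F.vec c ∈ O with hS
  have hdec : S.card = (S.filter fun c => wt c = 2).card + (S.filter fun c => wt c = 4).card +
      ∑ e : ZMod 3, (S.filter fun c => wt c = 6 ∧ phase c = e).card := by
    have e6 : ∑ e : ZMod 3, (S.filter fun c => wt c = 6 ∧ phase c = e).card =
        (S.filter fun c => wt c = 6).card := by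
      rw [Finset.card_eq_sum_card_fiberwise (f := phase) (t := Finset.univ) (fun c _ => Finset.mem_univ _)]
      refine Finset.sum_congr rfl fun e _ => ?_
      simp only [S, Finset.filter_filter, and_assoc]
    rw [e6]
    have hpart : S = (S.filter fun c => wt c = 2) ∪ (S.filter fun c => wt c = 4) ∪
        (S.filter fun c => wt c = 6) := by
      ext c
      have h' : c ∈ S → (wt c = 2 ∨ wt c = 4 ∨ wt c = 6) := fun h => hcl c (Finset.mem_filter.mp h).2
      simp only [Finset.mem_union, Finset.mem_filter]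
      tauto
    conv_lhs => rw [hpart]
    rw [Finset.card_union_of_disjoint, Finset.card_union_of_disjoint]
    · rw [Finset.disjoint_filter]; intros; omega
    · rw [Finset.disjoint_union_left, Finset.disjoint_filter, Finset.disjoint_filter]
      constructor <;> intros <;> omega
  rw [hdec]
  refine congrArg₂ (· + ·) (congrArg₂ (· + ·) ?_ ?_) ?_
  · split_ifs with h
    · obtain ⟨c, hc, hcO⟩ := h
      rw [← card_wt_two]
      apply congrArg
      ext d
      simp only [S, Finset.mem_filter, Finset.mem_univ, true_and]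
      exact ⟨fun h => h.2, fun hd => ⟨hfill c d (hc.trans hd.symm) (Or.inl hc) (by omega) hcO, hd⟩⟩
    · rw [Finset.card_eq_zero, Finset.filter_eq_empty_iff]
      exact fun c hc hw => h ⟨c, hw, (Finset.mem_filter.mp hc).2⟩
  · split_ifs with h
    · obtain ⟨c, hc, hcO⟩ := h
      rw [← card_wt_four]
      apply congrArg
      ext d
      simp only [S, Finset.mem_filter, Finset.mem_univ, true_and]
      exact ⟨fun h => h.2, fun hd => ⟨hfill c d (hc.trans hd.symm) (Or.inr (Or.inl hc)) (by omega) hcO, hd⟩⟩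
    · rw [Finset.card_eq_zero, Finset.filter_eq_empty_iff]
      exact fun c hc hw => h ⟨c, hw, (Finset.mem_filter.mp hc).2⟩
  · refine Finset.sum_congr rfl fun e _ => ?_
    split_ifs with h
    · obtain ⟨c, hc, hp, hcO⟩ := h
      rw [← card_wt_six e]
      apply congrArg
      ext d
      simp only [S, Finset.mem_filter, Finset.mem_univ, true_and]
      exact ⟨fun h => h.2, fun hd => ⟨hfill c d (hc.trans hd.1.symm) (Or.inr (Or.inr hc))
        (fun _ => hp.trans hd.2.symm) hcO, hd⟩⟩
    · rw [Finset.card_eq_zero, Finset.filter_eq_empty_iff]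
      exact fun c hc hw => h ⟨c, hw.1, hw.2, (Finset.mem_filter.mp hc).2⟩

/-- multiply the basis vectors by powers of `h` -/
def rebase (s : Ph) : Frame D where
  v i := D.lineEl (F.v i) (some (s i))
  bij := by
    have e : (fun c : Coord => ∑ i, D.lineEl (D.lineEl (F.v i) (some (s i))) (c i)) =
        F.vec ∘ shift s := by
      funext c
      rw [Function.comp_apply, Frame.vec]
      refine Finset.sum_congr rfl fun i _ => ?_
      cases hc : c i with
      | none => simp [shift, hc, Core.lineEl]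
      | some k => simp [shift, hc, Core.lineEl, smul_smul, ← D.h_pow_val_add]
    rw [e]
    refine F.vec_bij.comp (Finite.injective_iff_bijective.mp fun c c' h => funext fun i => ?_)
    exact Option.map_injective (add_left_injective (s i)) (congrFun h i)
  q_vec c := by
    have e : ∑ i, D.lineEl (D.lineEl (F.v i) (some (s i))) (c i) = F.vec (shift s c) := by
      refine Finset.sum_congr rfl fun i _ => ?_
      cases hc : c i with
      | none => simp [shift, hc, Core.lineEl]
      | some k => simp [shift, hc, Core.lineEl, smul_smul, ← D.h_pow_val_add]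
    rw [e, F.q_eq, wt_shift]
  diag a ha := by
    obtain ⟨k, hk, hka⟩ := F.diag a ha
    refine ⟨k, hk, fun i => ?_⟩
    rw [D.smul_lineEl (D.A_le_Mb ha) (hka i)]
    simp [Core.lineEl, smul_smul, ← D.h_pow_val_add, add_comm]
  diag' k hk := by
    obtain ⟨a, ha, hka⟩ := F.diag' k hk
    refine ⟨a, ha, fun i => ?_⟩
    rw [D.smul_lineEl (D.A_le_Mb ha) (hka i)]
    simp [Core.lineEl, smul_smul, ← D.h_pow_val_add, add_comm]
  mono p hp := by
    obtain ⟨π, σ, hπ, h⟩ := F.mono p hp
    refine ⟨π, fun i => s i + σ i - s (π i), hπ, fun i => ?_⟩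
    rw [D.smul_lineEl (D.P_le hp) (h i)]
    simp [Core.lineEl, smul_smul, ← D.h_pow_val_add]
  mono' π hπ := by
    obtain ⟨p, hp, σ, h⟩ := F.mono' π hπ
    refine ⟨p, hp, fun i => s i + σ i - s (π i), fun i => ?_⟩
    rw [D.smul_lineEl (D.P_le hp) (h i)]
    simp [Core.lineEl, smul_smul, ← D.h_pow_val_add]

theorem rebase_vec (s : Ph) (c : Coord) : (F.rebase s).vec c = F.vec (shift s c) := by
  refine Finset.sum_congr rfl fun i _ => ?_
  cases hc : c i with
  | none => simp [shift, hc, Core.lineEl, rebase]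
  | some k => simp [shift, hc, Core.lineEl, smul_smul, rebase, ← D.h_pow_val_add]

end Frame

/-- A frame in which the orbit of weight two contains the vectors of weight six with phase sum one. -/
structure NFrame {W : Type*} [Group W] {V : Type*} [AddCommGroup V] [DistribMulAction W V]
    (D : Core W V) extends Frame D where
  transU : ∀ c c', IsU c → IsU c' → ∃ w : W,
    w • ∑ i, D.lineEl (v i) (c i) = ∑ i, D.lineEl (v i) (c' i)
  transR : ∀ c c', IsR c → IsR c' → ∃ w : W,
    w • ∑ i, D.lineEl (v i) (c i) = ∑ i, D.lineEl (v i) (c' i)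
  sep : ∀ c c', IsU c → IsR c' → ∀ w : W,
    w • ∑ i, D.lineEl (v i) (c i) ≠ ∑ i, D.lineEl (v i) (c' i)

namespace Core

variable {W : Type*} [Group W] [Finite W] {V : Type*} [AddCommGroup V] [Finite V]
  [DistribMulAction W V] (D : Core W V)

open Classical in
theorem exists_nframe : Nonempty (NFrame D) := by
  obtain ⟨F⟩ := D.exists_frame
  set c2 : Coord := fun i => if i = 0 ∨ i = 1 then some 0 else none with hc2def
  set c4 : Coord := fun i => if i = 0 ∨ i = 1 then none else some 0 with hc4def
  have hc2 : wt c2 = 2 := by rw [hc2def]; decide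
  have hc4 : wt c4 = 4 := by rw [hc4def]; decide
  have s2 := (F.sing_iff c2).mpr (Or.inl hc2)
  have s4 := (F.sing_iff c4).mpr (Or.inr (Or.inl hc4))
  set O := MulAction.orbit W (F.vec c2) with hO
  set R := MulAction.orbit W (F.vec c4) with hR
  have hO7 := D.card_orbit_seven s2.1 s2.2
  have hR7 := D.card_orbit_seven s4.1 s4.2
  have hOd := D.card_orbit_dvd (F.vec c2)
  have hO2 : ∃ c, wt c = 2 ∧ F.vec c ∈ O := ⟨c2, hc2, MulAction.mem_orbit_self _⟩
  have hR4 : ∃ c, wt c = 4 ∧ F.vec c ∈ R := ⟨c4, hc4, MulAction.mem_orbit_self _⟩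
  let P : ZMod 3 → Prop := fun e => ∃ c, wt c = 6 ∧ phase c = e ∧ F.vec c ∈ O
  let P' : ZMod 3 → Prop := fun e => ∃ c, wt c = 6 ∧ phase c = e ∧ F.vec c ∈ R
  have hOcard := F.card_orbit_eq _ s2.1 s2.2
  have hRcard := F.card_orbit_eq _ s4.1 s4.2
  rw [← hO, if_pos hO2] at hOcard
  rw [← hR, if_pos hR4] at hRcard
  have h3 : ∀ f : ZMod 3 → ℕ, ∑ e, f e = f 0 + f 1 + f 2 := fun f => Fin.sum_univ_three f
  rw [h3] at hOcard hRcard
  -- the orbit of weight two
  have hO4 : ¬∃ c, wt c = 4 ∧ F.vec c ∈ O := by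
    intro h
    rw [if_pos h] at hOcard
    rw [← hO] at hOd
    rw [hOcard] at hO7 hOd
    split_ifs at hO7 hOd <;> first
      | (norm_num at hO7; done)
      | (norm_num at hOd; done)
  rw [if_neg hO4] at hOcard
  obtain ⟨e, he⟩ : ∃ e, ∀ e', P e' ↔ e' = e := by
    have hcases : ∀ e : ZMod 3, e = 0 ∨ e = 1 ∨ e = 2 := by decide
    rw [hOcard] at hO7
    by_cases p0 : P 0 <;> by_cases p1 : P 1 <;> by_cases p2 : P 2 <;>
      simp only [P] at p0 p1 p2 <;>
      simp only [p0, p1, p2, if_true, if_false] at hO7 <;> norm_num at hO7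
    all_goals
      first
        | (refine ⟨0, fun e' => ?_⟩
           rcases hcases e' with rfl | rfl | rfl <;>
             first
               | exact iff_of_true (by assumption) rfl
               | exact iff_of_false (by assumption) (by decide))
        | (refine ⟨1, fun e' => ?_⟩
           rcases hcases e' with rfl | rfl | rfl <;>
             first
               | exact iff_of_true (by assumption) rfl
               | exact iff_of_false (by assumption) (by decide))
        | (refine ⟨2, fun e' => ?_⟩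
           rcases hcases e' with rfl | rfl | rfl <;>
             first
               | exact iff_of_true (by assumption) rfl
               | exact iff_of_false (by assumption) (by decide))
  have hdisj : ∀ c, F.vec c ∈ O → F.vec c ∉ R := by
    intro c hcO hcR
    apply hO4
    refine ⟨c4, hc4, ?_⟩
    have h1 : MulAction.orbit W (F.vec c) = O := MulAction.orbit_eq_iff.mpr hcO
    have h2 : MulAction.orbit W (F.vec c) = R := MulAction.orbit_eq_iff.mpr hcR
    rw [← h1, h2]
    exact MulAction.mem_orbit_self _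
  have hR2 : ¬∃ c, wt c = 2 ∧ F.vec c ∈ R := by
    rintro ⟨c, hc, hcR⟩
    obtain ⟨w, hw⟩ := F.orbit_classes (hc2.trans hc.symm) (Or.inl hc2) (by omega)
    exact hdisj c ⟨w, hw⟩ hcR
  rw [if_neg hR2] at hRcard
  have hPR : ∀ e', P' e' → e' ≠ e := by
    rintro e' ⟨c, hc, hp, hcR⟩ rfl
    obtain ⟨c', hc', hp', hcO⟩ := (he _).mpr rfl
    obtain ⟨w, hw⟩ := F.orbit_classes (hc'.trans hc.symm) (Or.inr (Or.inr hc')) (fun _ => hp'.trans hp.symm)
    exact hdisj c (hw ▸ MulAction.mem_orbit_of_mem_orbit w hcO) hcR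
  have hP'all : ∀ e', e' ≠ e → P' e' := by
    have hcases : ∀ e : ZMod 3, e = 0 ∨ e = 1 ∨ e = 2 := by decide
    rw [hRcard] at hR7
    have hne : ¬P' e := fun h => hPR e h rfl
    intro e' hee
    by_contra hn
    simp only [P'] at hne hn
    rcases hcases e with rfl | rfl | rfl <;> rcases hcases e' with rfl | rfl | rfl <;>
      first
        | exact hee rfl
        | (simp only [hne, hn, if_false] at hR7; split_ifs at hR7 <;> norm_num at hR7)
  set s : Ph := Function.update 0 0 (e - 1) with hs
  set G := F.rebase s with hG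
  have hsum : ∑ i, s i = e - 1 := by
    rw [hs, Finset.sum_eq_single 0 (fun i _ hi => by rw [Function.update_of_ne hi]; rfl)
      (fun h => absurd (Finset.mem_univ _) h), Function.update_self]
  have hph : ∀ c, wt c = 6 → phase (shift s c) = phase c + (e - 1) := fun c hc => by
    rw [← move_one, phase_move _ _ hc, hsum]
  have hU : ∀ c, IsU c → G.vec c ∈ O := by
    intro c hc
    rw [hG, F.rebase_vec]
    rcases hc with hc | ⟨hc, hp⟩
    · obtain ⟨w, hw⟩ := F.orbit_classes (c := c2) (c' := shift s c) (by rw [hc2, wt_shift, hc])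
        (Or.inl hc2) (by omega)
      exact ⟨w, hw⟩
    · obtain ⟨c', hc', hp', hcO⟩ := (he _).mpr rfl
      obtain ⟨w, hw⟩ := F.orbit_classes (c := c') (c' := shift s c) (by rw [hc', wt_shift, hc])
        (Or.inr (Or.inr hc')) (fun _ => by rw [hp', hph c hc, hp]; ring)
      exact hw ▸ MulAction.mem_orbit_of_mem_orbit w hcO
  have hRm : ∀ c, IsR c → G.vec c ∈ R := by
    intro c hc
    rw [hG, F.rebase_vec]
    rcases hc with hc | ⟨hc, hp⟩
    · obtain ⟨w, hw⟩ := F.orbit_classes (c := c4) (c' := shift s c) (by rw [hc4, wt_shift, hc])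
        (Or.inr (Or.inl hc4)) (by omega)
      exact ⟨w, hw⟩
    · obtain ⟨c', hc', hp', hcO⟩ := hP'all (phase c + (e - 1)) (fun h => hp (by linear_combination h))
      obtain ⟨w, hw⟩ := F.orbit_classes (c := c') (c' := shift s c) (by rw [hc', wt_shift, hc])
        (Or.inr (Or.inr hc')) (fun _ => by rw [hp', hph c hc])
      exact hw ▸ MulAction.mem_orbit_of_mem_orbit w hcO
  have htr : ∀ {x y z : V}, y ∈ MulAction.orbit W x → z ∈ MulAction.orbit W x →
      ∃ w : W, w • y = z := fun {x y z} hy hz => by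
    rw [← MulAction.orbit_eq_iff.mpr hy] at hz
    exact hz
  exact ⟨{ G with
    transU := fun c c' hc hc' => htr (hU c hc) (hU c' hc')
    transR := fun c c' hc hc' => htr (hRm c hc) (hRm c' hc')
    sep := fun c c' hc hc' w h => by
      have h' : w • G.vec c = G.vec c' := h
      obtain ⟨d, hd⟩ := F.exists_coord (G.vec c')
      have h1 : G.vec c' ∈ O := h' ▸ MulAction.mem_orbit_of_mem_orbit w (hU c hc)
      exact hdisj d (hd.symm ▸ h1) (hd.symm ▸ hRm c' hc') }⟩

end Core

namespace NFrame

variable {W : Type*} [Group W] [Finite W] {V : Type*} [AddCommGroup V] [Finite V]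
  [DistribMulAction W V] {D : Core W V} (F : NFrame D)

theorem exists_class {x : V} (hx : x ≠ 0) (hq : D.q x = 0) :
    ∃ c, F.vec c = x ∧ (IsU c ∨ IsR c) := by
  obtain ⟨c, rfl⟩ := F.exists_coord x
  refine ⟨c, rfl, ?_⟩
  rcases (F.sing_iff c).mp ⟨hx, hq⟩ with h | h | h
  · exact Or.inl (Or.inl h)
  · exact Or.inr (Or.inl h)
  · by_cases hp : phase c = 1
    · exact Or.inl (Or.inr ⟨h, hp⟩)
    · exact Or.inr (Or.inr ⟨h, hp⟩)

theorem isU_smul {c c' : Coord} (hc : IsU c) {w : W} (h : w • F.vec c = F.vec c') : IsU c' := by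
  have hs : wt c = 2 ∨ wt c = 4 ∨ wt c = 6 := by rcases hc with h | h <;> omega
  obtain ⟨h1, h2⟩ := (F.sing_iff c).mpr hs
  have hx : F.vec c' ≠ 0 := by
    rw [← h]
    intro h0
    exact h1 (by simpa using congrArg (w⁻¹ • ·) h0)
  obtain ⟨d, hd, hd'⟩ := F.exists_class hx (by rw [← h, D.q_smul]; exact h2)
  obtain rfl := F.vec_inj hd
  exact hd'.resolve_right fun hR => F.sep c d hc hR w h

theorem isR_smul {c c' : Coord} (hc : IsR c) {w : W} (h : w • F.vec c = F.vec c') : IsR c' := by
  have hs : wt c = 2 ∨ wt c = 4 ∨ wt c = 6 := by rcases hc with h | h <;> omega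
  obtain ⟨h1, h2⟩ := (F.sing_iff c).mpr hs
  have hx : F.vec c' ≠ 0 := by
    rw [← h]
    intro h0
    exact h1 (by simpa using congrArg (w⁻¹ • ·) h0)
  obtain ⟨d, hd, hd'⟩ := F.exists_class hx (by rw [← h, D.q_smul]; exact h2)
  obtain rfl := F.vec_inj hd
  exact hd'.resolve_left fun hU => F.sep d c hU hc w⁻¹ (by
    show w⁻¹ • F.vec d = F.vec c
    rw [← h, inv_smul_smul])

end NFrame

end Cfsg.Agent.Lib.LargeFischer13
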