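import Cfsg.Agent.Lib.LargeFischer13.Bridge
import Cfsg.Agent.Lib.LargeFischer13.Orbits

/-!
Involutions of `Q` and singular vectors of `Q/⟨z⟩`.
-/

set_option autoImplicit false
set_option linter.style.haveILetI false
set_option linter.unusedSectionVars false

namespace Cfsg.Agent.Lib.LargeFischer13

universe u

attribute [instance] Bridge.acg Bridge.fin Bridge.act

namespace Bridge

variable {G : Type u} [Group G] [Finite G] {z : G} {Q : Subgroup (Cz z)} [Q.Normal] (B : Bridge z Q)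

theorem π_one : B.π 1 = 0 := (B.π_zero 1).mpr (Or.inl rfl)

theorem π_inv (x : Q) : B.π x⁻¹ = B.π x := by
  have h : B.π x⁻¹ + B.π x = 0 := by rw [← B.π_mul, inv_mul_cancel, B.π_one]
  exact add_right_cancel (h.trans (B.D.two _).symm)

theorem fibre {a b : Q} (h : B.π a = B.π b) : b = a ∨ ((b : Cz z) : G) = ((a : Cz z) : G) * z := by
  have h0 : B.π (a⁻¹ * b) = 0 := by rw [B.π_mul, B.π_inv, h, B.D.two]
  rcases (B.π_zero _).mp h0 with h1 | h1
  · exact Or.inl (inv_mul_eq_one.mp h1).symm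
  · right
    have h2 : (((a : Cz z) : G))⁻¹ * ((b : Cz z) : G) = z := by simpa using h1
    calc ((b : Cz z) : G) = ((a : Cz z) : G) * (((a : Cz z) : G)⁻¹ * ((b : Cz z) : G)) := by group
      _ = _ := by rw [h2]

theorem sing {x : Q} (h2 : x * x = 1) (h1 : x ≠ 1) (hz : ((x : Cz z) : G) ≠ z) :
    B.π x ≠ 0 ∧ B.D.q (B.π x) = 0 :=
  ⟨fun h => ((B.π_zero x).mp h).elim h1 hz, (B.π_q x).mpr h2⟩

theorem exists_flip {x : Q} (h2 : x * x = 1) (hx : B.π x ≠ 0) :
    ∃ u : Q, ((u * x * u⁻¹ : Q) : Cz z).1 = ((x : Cz z) : G) * z := by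
  obtain ⟨v, hv⟩ := B.D.nondeg _ hx
  obtain ⟨y, rfl⟩ := B.π_surj v
  refine ⟨y, ?_⟩
  have hπ : B.π (y * x * y⁻¹) = B.π x := by
    rw [B.π_mul, B.π_mul, B.π_inv, add_comm (B.π y), add_assoc, B.D.two, add_zero]
  rcases B.fibre hπ.symm with h | h
  · exfalso
    have hc : Commute y x := mul_inv_eq_iff_eq_mul.mp h
    have e : x * y * (x * y) = y * y := by
      calc x * y * (x * y) = x * (y * x) * y := by group
        _ = x * (x * y) * y := by rw [hc.eq]
        _ = (x * x) * (y * y) := by group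
        _ = y * y := by rw [h2, one_mul]
    rw [← B.π_mul, (B.π_q x).mpr h2, add_zero] at hv
    have key : ∀ a c : ZMod 2, (a = 0 ↔ c = 0) → a + c ≠ 1 := by decide
    exact key _ _ (by rw [B.π_q, B.π_q, e]) hv
  · exact h

/-- conjugacy of involutions is conjugacy of their vectors -/
theorem lift_of_smul {s x : Q} (h2 : x * x = 1) (hx : B.π x ≠ 0) {w : (Cz z) ⧸ Q}
    (hw : w • B.π s = B.π x) : ∃ c : Cz z, (QuotientGroup.mk c : (Cz z) ⧸ Q) = w ∧ c * s * c⁻¹ = x := by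
  obtain ⟨c, rfl⟩ := QuotientGroup.mk_surjective w
  have h := B.π_conj c s ⟨c * s * c⁻¹, (inferInstance : Q.Normal).conj_mem s s.2 c⟩ rfl
  rw [hw] at h
  rcases B.fibre h with e | e
  · exact ⟨c, rfl, congrArg Subtype.val e⟩
  · obtain ⟨u, hu⟩ := B.exists_flip h2 hx
    refine ⟨u * c, by rw [QuotientGroup.mk_mul, (QuotientGroup.eq_one_iff _).mpr u.2, one_mul], Subtype.ext ?_⟩
    have hu' : (u : Cz z).1 * (x : Cz z).1 * ((u : Cz z).1)⁻¹ = (x : Cz z).1 * z := hu
    have e' : (c : G) * (s : Cz z).1 * (c : G)⁻¹ = (x : Cz z).1 * z := e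
    have hzz : z * z = 1 := by
      obtain ⟨u0, hu0⟩ := B.π_surj 0
      have := congrArg (fun t : Q => ((t : Cz z) : G)) h2
      have hcz : Commute ((x : Cz z).1) z := Subgroup.mem_centralizer_singleton_iff.mp (x : Cz z).2
      have huz : Commute ((u : Cz z).1) z := Subgroup.mem_centralizer_singleton_iff.mp (u : Cz z).2
      have h4 : ((u : Cz z).1 * (x : Cz z).1 * ((u : Cz z).1)⁻¹) * ((u : Cz z).1 * (x : Cz z).1 * ((u : Cz z).1)⁻¹) = 1 := by
        calc _ = (u : Cz z).1 * ((x : Cz z).1 * (x : Cz z).1) * ((u : Cz z).1)⁻¹ := by group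
          _ = 1 := by rw [show (x : Cz z).1 * (x : Cz z).1 = 1 from this]; group
      rw [hu'] at h4
      calc z * z = ((x : Cz z).1 * (x : Cz z).1) * (z * z) := by
            rw [show (x : Cz z).1 * (x : Cz z).1 = 1 from this, one_mul]
        _ = (x : Cz z).1 * ((x : Cz z).1 * z) * z := by group
        _ = (x : Cz z).1 * (z * (x : Cz z).1) * z := by rw [hcz.eq]
        _ = 1 := by rw [← h4]; group
    show ((u : Cz z).1 * (c : G)) * (s : Cz z).1 * ((u : Cz z).1 * (c : G))⁻¹ = (x : Cz z).1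
    have huz : Commute ((u : Cz z).1) z := Subgroup.mem_centralizer_singleton_iff.mp (u : Cz z).2
    calc _ = (u : Cz z).1 * ((c : G) * (s : Cz z).1 * (c : G)⁻¹) * ((u : Cz z).1)⁻¹ := by group
      _ = ((u : Cz z).1 * (x : Cz z).1 * ((u : Cz z).1)⁻¹) * ((u : Cz z).1 * z * ((u : Cz z).1)⁻¹) := by
          rw [e']; group
      _ = (x : Cz z).1 * z * z := by rw [hu', huz.eq, mul_inv_cancel_right]
      _ = (x : Cz z).1 := by rw [mul_assoc, hzz, mul_one]

theorem conj_of_smul {s x : Q} (h2 : x * x = 1) (hx : B.π x ≠ 0) {w : (Cz z) ⧸ Q}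
    (hw : w • B.π s = B.π x) : ∃ c : Cz z, c * s * c⁻¹ = x := by
  obtain ⟨c, -, hc⟩ := B.lift_of_smul h2 hx hw
  exact ⟨c, hc⟩

theorem smul_of_conj {s x : Q} {c : Cz z} (h : c * s * c⁻¹ = x) :
    (QuotientGroup.mk c : (Cz z) ⧸ Q) • B.π s = B.π x :=
  B.π_conj c s x h.symm

/-- an involution over a singular vector -/
theorem exists_involution {v : B.V} (hv : v ≠ 0) (hq : B.D.q v = 0) :
    ∃ x : Q, B.π x = v ∧ x * x = 1 ∧ x ≠ 1 ∧ ((x : Cz z) : G) ≠ z ∧ orderOf (x : Cz z) = 2 := by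
  obtain ⟨x, rfl⟩ := B.π_surj v
  have h2 : x * x = 1 := (B.π_q x).mp hq
  have h1 : x ≠ 1 := fun h => hv (by rw [h, B.π_one])
  refine ⟨x, rfl, h2, h1, fun h => hv ((B.π_zero x).mpr (Or.inr h)), ?_⟩
  exact orderOf_eq_prime (by rw [sq]; exact congrArg Subtype.val h2) fun h => h1 (Subtype.ext h)

end Bridge

end Cfsg.Agent.Lib.LargeFischer13
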