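import Cfsg.Agent.Lib.LargeFischer13.Monomial

/-!
The stabiliser of a vector in the orbit of 378: its normal 2-subgroups inside the index-two subgroup
have order at most two.
-/

set_option autoImplicit false
set_option linter.style.haveILetI false
set_option linter.unusedSectionVars false

namespace Cfsg.Agent.Lib.LargeFischer13

open Model

/-- the representative of weight two -/
def Model.cU : Model.Coord := fun i => if i = 0 ∨ i = 1 then some 0 else none

/-- all phases zero but on the first two coordinates: weight four -/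
def Model.cR : Model.Coord := fun i => if i = 0 ∨ i = 1 then none else some 0

theorem Model.isU_cU : Model.IsU Model.cU := by left; unfold Model.cU; decide

theorem Model.isR_cR : Model.IsR Model.cR := by left; unfold Model.cR; decide

namespace Frame

variable {W : Type*} [Group W] [Finite W] {V : Type*} [AddCommGroup V] [Finite V]
  [DistribMulAction W V] {D : Core W V} (F : Frame D)

theorem vec_unit (j : Fin 6) (o : Option (ZMod 3)) : F.vec (Model.unit j o) = D.lineEl (F.v j) o := by
  rw [vec, Finset.sum_eq_single j (fun l _ hl => by simp [Model.unit, hl, Core.lineEl])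
    (fun h => absurd (Finset.mem_univ _) h)]
  simp [Model.unit]

theorem hpow_vec (m : ZMod 3) (c : Coord) : (D.h ^ m.val) • F.vec c = F.vec (shift (fun _ => m) c) := by
  have hh : F.IsMono (D.h ^ m.val) 1 (fun _ => m) := fun j => by simp [Core.lineEl]
  rw [F.smul_vec (pow_mem D.h_mem _) hh, move_one]

theorem b_vec (c d : Coord) : D.b (F.vec c) (F.vec d) =
    (wt (fun i => oadd (c i) (d i)) : ZMod 2) + (wt c : ZMod 2) + (wt d : ZMod 2) := by
  rw [Core.b, F.vec_add, F.q_eq, F.q_eq, F.q_eq]

/-- two vectors of weight one on the same line pair by `δ` -/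
theorem b_unit (c : Coord) (j : Fin 6) (o : ZMod 3) :
    D.b (F.vec c) (F.vec (Model.unit j (some o))) =
      match c j with
      | none => 0
      | some a => if a = o then 0 else 1 := by
  classical
  rw [F.b_vec]
  have hu : wt (Model.unit j (some o)) = 1 := by
    rw [wt, show supp (Model.unit j (some o)) = {j} from ?_, Finset.card_singleton]
    ext i; by_cases h : i = j <;> simp [mem_supp, Model.unit, h]
  have hs : ∀ e : Coord, supp e = (if (e j).isSome then {j} else ∅) ∪ (supp e).erase j := fun e => by
    ext i; by_cases h : i = j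
    · subst h; by_cases he : (e i).isSome <;> simp [mem_supp, he]
    · by_cases he : (e j).isSome <;> simp [mem_supp, h, he]
  have hw : ∀ e : Coord, wt e = (if (e j).isSome then 1 else 0) + ((supp e).erase j).card := fun e => by
    rw [wt]
    by_cases he : (e j).isSome
    · rw [if_pos he, Finset.card_erase_of_mem (mem_supp.mpr he)]
      have := Finset.card_pos.mpr ⟨j, mem_supp.mpr he⟩
      omega
    · rw [if_neg he, Finset.erase_eq_of_notMem (fun h => he (mem_supp.mp h)), zero_add]
  have her : (supp fun i => oadd (c i) (Model.unit j (some o) i)).erase j = (supp c).erase j := by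
    ext i
    by_cases h : i = j
    · simp [h]
    · cases hc : c i <;> simp [mem_supp, Model.unit, h, oadd, hc]
  rw [hw (fun i => oadd _ _), her, hu, hw c]
  simp only [Model.unit, Function.update_self]
  cases hc : c j with
  | none =>
    simp only [oadd, Option.isSome_some, Option.isSome_none, if_true, Bool.false_eq_true, if_false]
    push_cast
    generalize (((supp c).erase j).card : ZMod 2) = n
    revert n; decide
  | some a =>
    by_cases h : a = o <;> simp only [oadd, h, if_true, if_false, Option.isSome_some, Option.isSome_none,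
      Bool.false_eq_true] <;> push_cast <;> generalize (((supp c).erase j).card : ZMod 2) = n <;>
      revert n <;> decide

end Frame

namespace NFrame

variable {W : Type*} [Group W] [Finite W] {V : Type*} [AddCommGroup V] [Finite V]
  [DistribMulAction W V] {D : Core W V} (F : NFrame D)

theorem mem_orbit_iff {c c' : Coord} (hc : IsU c) : F.vec c' ∈ MulAction.orbit W (F.vec c) ↔ IsU c' :=
  ⟨fun ⟨_, hw⟩ => F.isU_smul hc hw, fun h => F.transU c c' hc h⟩

theorem mem_orbit_iff' {c c' : Coord} (hc : IsR c) : F.vec c' ∈ MulAction.orbit W (F.vec c) ↔ IsR c' :=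
  ⟨fun ⟨_, hw⟩ => F.isR_smul hc hw, fun h => F.transR c c' hc h⟩

theorem card_stab_aux (x : V) {n : ℕ} (P : Coord → Prop) [DecidablePred P]
    (hP : ∀ c, F.vec c ∈ MulAction.orbit W x ↔ P c) (hn : (Finset.univ.filter P).card = n) :
    n * Nat.card (MulAction.stabilizer W x) = 19595520 := by
  rw [← D.cardW, ← Nat.card_congr (MulAction.orbitProdStabilizerEquivGroup W x), Nat.card_prod, ← hn,
    ← Fintype.card_subtype, ← Nat.card_eq_fintype_card]
  congr 1
  exact Nat.card_congr ((Equiv.ofBijective _ F.vec_bij).subtypeEquiv fun c => (hP c).symm)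

instance : DecidablePred IsU := fun c => by unfold IsU; infer_instance

instance : DecidablePred IsR := fun c => by unfold IsR; infer_instance

theorem card_stab_U {c : Coord} (hc : IsU c) :
    Nat.card (MulAction.stabilizer W (F.vec c)) = 51840 := by
  have h := F.card_stab_aux (F.vec c) IsU (fun d => F.mem_orbit_iff hc)
    (show (Finset.univ.filter IsU).card = 378 by decide +kernel)
  omega

theorem card_stab_R {c : Coord} (hc : IsR c) :
    Nat.card (MulAction.stabilizer W (F.vec c)) = 11520 := by
  have h := F.card_stab_aux (F.vec c) IsR (fun d => F.mem_orbit_iff' hc)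
    (show (Finset.univ.filter IsR).card = 1701 by decide +kernel)
  omega

/-- diagonal elements fixing the representative of weight two -/
theorem diag_fix (k : Ph) (hk : ∑ i, k i = 0) (h0 : k 0 = 0) (h1 : k 1 = 0) :
    ∃ b ∈ MulAction.stabilizer W (F.vec cU), b ∈ D.Mb ∧ ∀ c, b • F.vec c = F.vec (shift k c) := by
  obtain ⟨b, hb, hbc⟩ := F.exists_shift k hk
  refine ⟨b, ?_, D.A_le_Mb hb, hbc⟩
  rw [MulAction.mem_stabilizer_iff, hbc]
  congr 1
  funext i
  unfold cU shift
  by_cases h : i = 0 ∨ i = 1
  · rcases h with rfl | rfl <;> simp [h0, h1]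
  · simp [h]

theorem pure_fix (π : Equiv.Perm (Fin 6)) (hπ : Equiv.Perm.sign π = 1)
    (h : ∀ i, cU (π i) = cU i) :
    ∃ p ∈ MulAction.stabilizer W (F.vec cU), p ∈ D.Mb ∧
      ∀ c, p • F.vec c = F.vec (move π (fun _ => 0) c) := by
  obtain ⟨p, hp, hm⟩ := F.exists_pure π hπ
  refine ⟨p, ?_, D.P_le hp, F.smul_vec (D.P_le hp) hm⟩
  rw [MulAction.mem_stabilizer_iff, F.smul_vec (D.P_le hp) hm]
  congr 1
  funext i
  have := h (π.symm i)
  rw [Equiv.apply_symm_apply] at this
  simp [move, ← this]

theorem cU_perm : ∀ j l : Fin 6, 2 ≤ j.val → 2 ≤ l.val →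
    ∃ π : Equiv.Perm (Fin 6), Equiv.Perm.sign π = 1 ∧ (∀ i, cU (π i) = cU i) ∧ π j = l := by
  unfold cU; decide +kernel

/-- coordinates supported outside the first two lines -/
def SY4 (c : Coord) : Prop := c 0 = none ∧ c 1 = none

/-- coordinates supported on the first two lines -/
def SY2 (c : Coord) : Prop := ∀ i, i ≠ 0 → i ≠ 1 → c i = none

theorem fin6_cases : ∀ i : Fin 6, i = 0 ∨ i = 1 ∨ 2 ≤ i.val := by decide

theorem not_low : ∀ i : Fin 6, 2 ≤ i.val → i ≠ 0 ∧ i ≠ 1 := by decide

/-- an additive subgroup invariant under the stabiliser sees all of the last four lines or none -/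
theorem invariant_Y4 (T : AddSubgroup V)
    (hT : ∀ g ∈ MulAction.stabilizer W (F.vec cU), g ∈ D.Mb → ∀ x ∈ T, g • x ∈ T)
    {c : Coord} (hc : F.vec c ∈ T) {j : Fin 6} (hj : 2 ≤ j.val) (hcj : (c j).isSome) :
    ∀ d : Coord, SY4 d → F.vec d ∈ T := by
  have hothers : ∀ j : Fin 6, 2 ≤ j.val → ∃ l m : Fin 6, 2 ≤ l.val ∧ 2 ≤ m.val ∧ l ≠ j ∧ m ≠ j ∧ l ≠ m := by
    decide
  obtain ⟨l, m, hl, hm, hlj, hmj, hlm⟩ := hothers j hj
  have hdz : ∀ l : Fin 6, 2 ≤ l.val → diff j l 0 = 0 ∧ diff j l 1 = 0 := fun l hl => by
    have := not_low j hj; have := not_low l hl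
    simp [diff, Pi.single_apply, *]
  have step : ∀ (c : Coord) (l : Fin 6), 2 ≤ l.val → F.vec c ∈ T →
      F.vec (fun i => oadd (c i) (shift (diff j l) c i)) ∈ T := by
    intro c l hl hc
    obtain ⟨b, hbS, hbM, hb⟩ := F.diag_fix (diff j l) (by simp [diff]) (hdz l hl).1 (hdz l hl).2
    rw [← F.vec_add, ← hb]
    exact T.add_mem hc (hT b hbS hbM _ hc)
  obtain ⟨a, ha⟩ := Option.isSome_iff_exists.mp hcj
  have hself : ∀ o : Option (ZMod 3), oadd o (o.map (· + 0)) = none := by
    intro o; cases o <;> simp [oadd]
  have h2 := step _ m hm (step _ l hl hc)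
  -- only the line `j` survives
  obtain ⟨a', ha'⟩ : ∃ a' : ZMod 3, F.vec (Model.unit j (some a')) ∈ T := by
    obtain ⟨a', he⟩ : ∃ a', (fun i => oadd (oadd (c i) (shift (diff j l) c i))
        (shift (diff j m) (fun i => oadd (c i) (shift (diff j l) c i)) i)) = Model.unit j (some a') := by
      have key : ∀ a : ZMod 3, ∃ a', oadd (oadd (some a) (some (a + 1)))
          ((oadd (some a) (some (a + 1))).map (· + 1)) = some a' := by decide
      obtain ⟨a', hk⟩ := key a
      refine ⟨a', funext fun i => ?_⟩
      rcases eq_or_ne i j with rfl | hij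
      · simpa [Model.unit, shift, diff, Pi.single_apply, ha, hlj.symm, hmj.symm] using hk
      rcases eq_or_ne i l with rfl | hil
      · have h0 : diff j m i = 0 := by simp [diff, Pi.single_apply, hij, hlm]
        simp only [Model.unit, Function.update_of_ne hij, shift, h0]
        exact hself _
      · have h0 : diff j l i = 0 := by simp [diff, Pi.single_apply, hij, hil]
        simp only [Model.unit, Function.update_of_ne hij, shift, h0, hself]
        rfl
    exact ⟨a', he ▸ h2⟩
  have hall : ∀ i : Fin 6, 2 ≤ i.val → ∀ o, F.vec (Model.unit i o) ∈ T := by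
    intro i hi o
    cases o with
    | none => rw [F.vec_unit]; simp [Core.lineEl]
    | some t =>
      obtain ⟨b, hbS, hbM, hb⟩ := F.diag_fix (fun i => (t - a') * diff j l i)
        (by rw [← Finset.mul_sum]; simp [diff]) (by rw [(hdz l hl).1, mul_zero]) (by rw [(hdz l hl).2, mul_zero])
      have h1 := hT b hbS hbM _ ha'
      rw [hb] at h1
      obtain ⟨π, hπ, hfix, hπj⟩ := cU_perm j i hj hi
      obtain ⟨p, hpS, hpM, hp⟩ := F.pure_fix π hπ hfix
      have h3 := hT p hpS hpM _ h1
      rw [hp] at h3
      convert h3 using 2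
      funext x
      by_cases hx : x = i
      · subst hx
        rw [← hπj]
        simp [Model.unit, move, shift, diff, Pi.single_apply, hlj.symm]
      · have hx' : π.symm x ≠ j := fun h => hx (by rw [← hπj, ← h, Equiv.apply_symm_apply])
        simp [Model.unit, move, shift, hx, hx']
  intro d hd
  have : F.vec d = ∑ i, F.vec (Model.unit i (d i)) := by
    simp only [F.vec_unit]; rfl
  rw [this]
  refine T.sum_mem fun i _ => ?_
  rcases fin6_cases i with rfl | rfl | hi
  · rw [hd.1, F.vec_unit]; simp [Core.lineEl]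
  · rw [hd.2, F.vec_unit]; simp [Core.lineEl]
  · exact hall i hi _

theorem b_Y2_Y4 {x y : Coord} (hx : SY2 x) (hy : SY4 y) : D.b (F.vec x) (F.vec y) = 0 := by
  rw [show F.vec y = ∑ i, F.vec (Model.unit i (y i)) by simp only [F.vec_unit]; rfl, D.b_comm, D.b_sum]
  refine Finset.sum_eq_zero fun i _ => ?_
  rw [D.b_comm]
  cases hyi : y i with
  | none => rw [F.vec_unit, D.b_comm]; exact D.b_zero_left _
  | some o =>
    have hi0 : i ≠ 0 := fun h => by rw [h, hy.1] at hyi; exact absurd hyi (by simp)
    have hi1 : i ≠ 1 := fun h => by rw [h, hy.2] at hyi; exact absurd hyi (by simp)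
    rw [F.b_unit, hx i hi0 hi1]

/-- a vector orthogonal to the first two lines lives on the last four -/
theorem SY4_of_perp {c : Coord} (h : ∀ d, SY2 d → D.b (F.vec c) (F.vec d) = 0) : SY4 c := by
  have key : ∀ j : Fin 6, (j = 0 ∨ j = 1) → c j = none := by
    intro j hj
    by_contra hn
    obtain ⟨a, ha⟩ := Option.ne_none_iff_exists'.mp hn
    have h2 := h (Model.unit j (some (a + 1))) (fun i h0 h1 => by
      rw [Model.unit, Function.update_of_ne]
      rintro rfl
      rcases hj with rfl | rfl
      exacts [h0 rfl, h1 rfl])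
    rw [F.b_unit, ha] at h2
    simp at h2
  exact ⟨key 0 (Or.inl rfl), key 1 (Or.inr rfl)⟩

/-- a vector orthogonal to the last four lines lives on the first two -/
theorem SY2_of_perp {c : Coord} (h : ∀ d, SY4 d → D.b (F.vec c) (F.vec d) = 0) : SY2 c := by
  intro j h0 h1
  by_contra hn
  obtain ⟨a, ha⟩ := Option.ne_none_iff_exists'.mp hn
  have h2 := h (Model.unit j (some (a + 1)))
    ⟨by simp [Model.unit, Ne.symm h0], by simp [Model.unit, Ne.symm h1]⟩
  rw [F.b_unit, ha] at h2
  simp at h2

/-- the line through the representative -/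
def lv (o : Option (ZMod 3)) : Coord := fun i => if i = 0 ∨ i = 1 then o else none

theorem smul_h_lv (o : Option (ZMod 3)) (m : ZMod 3) :
    (D.h ^ m.val) • F.vec (lv o) = F.vec (lv (o.map (· + m))) := by
  rw [F.hpow_vec]
  congr 1
  funext i
  simp only [lv, shift]
  split_ifs <;> simp

/-- an `h`-invariant subgroup of the first two lines through the representative -/
theorem subgroup_Y2_cases (T : AddSubgroup V) (hh : ∀ x ∈ T, D.h • x ∈ T) (hv : F.vec cU ∈ T)
    (hsub : ∀ c, F.vec c ∈ T → SY2 c) :
    (∀ c, F.vec c ∈ T → ∃ o, c = lv o) ∨ (∀ c, SY2 c → F.vec c ∈ T) := by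
  refine or_iff_not_imp_left.mpr fun hne => ?_
  push Not at hne
  obtain ⟨c, hc, hno⟩ := hne
  have hpow : ∀ (m : ZMod 3), ∀ x ∈ T, (D.h ^ m.val) • x ∈ T := by
    intro m x hx
    induction m.val with
    | zero => simpa
    | succ n ih => rw [pow_succ', mul_smul]; exact hh _ ih
  have hlv : ∀ o, F.vec (lv o) ∈ T := by
    intro o
    cases o with
    | none =>
      rw [show lv none = fun _ => none from funext fun i => by simp [lv], F.vec_zero]
      exact T.zero_mem
    | some t =>
      have h1 := hpow t _ hv
      rwa [show cU = lv (some 0) from rfl, F.smul_h_lv, Option.map_some, zero_add] at h1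
  have hd : c 0 ≠ c 1 := fun h => hno (c 0) (funext fun i => by
    by_cases h0 : i = 0
    · simp [lv, h0]
    by_cases h1 : i = 1
    · simp [lv, h1, h]
    · simp [lv, h0, h1, hsub c hc i h0 h1])
  have hkey : ∀ o o' : Option (ZMod 3), o ≠ o' → (oadd o o).isSome = false ∧ (oadd o' o).isSome = true := by
    decide
  obtain ⟨a, ha⟩ := Option.isSome_iff_exists.mp (hkey _ _ hd).2
  have h1 : F.vec (Model.unit 1 (some a)) ∈ T := by
    convert T.add_mem hc (hlv (c 0)) using 1
    rw [F.vec_add]
    congr 1
    funext i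
    by_cases h0 : i = 0
    · subst h0
      simpa [Model.unit, lv] using (Option.isSome_eq_false_iff.mp (hkey _ _ hd).1 |> Option.isNone_iff_eq_none.mp).symm
    by_cases h1 : i = 1
    · subst h1; simp [Model.unit, lv, ha]
    · simp [Model.unit, lv, h0, h1, hsub c hc i h0 h1, oadd]
  have h1' : ∀ o, F.vec (Model.unit 1 o) ∈ T := by
    intro o
    cases o with
    | none => rw [F.vec_unit]; exact T.zero_mem
    | some t =>
      have h2 := hpow (t - a) _ h1
      rw [F.vec_unit, ← D.lineEl_map] at h2
      simpa [F.vec_unit] using h2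
  intro d hd
  have e : F.vec d = F.vec (lv (d 0)) + F.vec (Model.unit 1 (oadd (d 0) (d 1))) := by
    rw [F.vec_add]
    congr 1
    funext i
    by_cases h0 : i = 0
    · subst h0; simp [Model.unit, lv]; cases d 0 <;> simp [oadd]
    by_cases h1 : i = 1
    · subst h1
      simp [Model.unit, lv]
      have : ∀ o o', o' = oadd o (oadd o o') := by decide
      exact this _ _
    · simp [Model.unit, lv, h0, h1, hd i h0 h1, oadd]
  rw [e]
  exact T.add_mem (hlv _) (h1' _)

theorem exists_fixed_ne (W0 : Subgroup W) (hp : IsPGroup 2 W0) (S : Set V)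
    (hS : ∀ w ∈ W0, ∀ x ∈ S, w • x ∈ S) (h0 : (0 : V) ∈ S) (heven : 2 ∣ Nat.card S) :
    ∃ x ∈ S, x ≠ 0 ∧ ∀ w ∈ W0, w • x = x := by
  haveI : Fact (Nat.Prime 2) := ⟨Nat.prime_two⟩
  letI : MulAction W0 S :=
    { smul := fun w x => ⟨(w : W) • x.1, hS w w.2 x.1 x.2⟩
      one_smul := fun x => Subtype.ext (one_smul W x.1)
      mul_smul := fun u u' x => Subtype.ext (mul_smul (u : W) (u' : W) x.1) }
  have hfix : (⟨0, h0⟩ : S) ∈ MulAction.fixedPoints W0 S := fun w => Subtype.ext (smul_zero (w : W))
  obtain ⟨x, hx, hne⟩ := hp.exists_fixed_point_of_prime_dvd_card_of_fixed_point S heven hfix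
  exact ⟨x.1, x.2, fun h => hne (Subtype.ext h.symm), fun w hw => congrArg Subtype.val (hx ⟨w, hw⟩)⟩

theorem not_preserve_Y2 (W0 : Subgroup W) (hp : IsPGroup 2 W0)
    (hmap : ∀ w ∈ W0, ∀ d, SY2 d → ∀ e, w • F.vec d = F.vec e → SY2 e)
    (hno : ∀ c, SY4 c → (∀ w ∈ W0, w • F.vec c = F.vec c) → F.vec c = 0) : False := by
  let S : Set V := {x | ∃ c, SY4 c ∧ F.vec c = x}
  have hS : ∀ w ∈ W0, ∀ x ∈ S, w • x ∈ S := by
    rintro w hw _ ⟨c, hc, rfl⟩
    obtain ⟨e, he⟩ := F.exists_coord (w • F.vec c)
    refine ⟨e, F.SY4_of_perp fun d hd => ?_, he⟩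
    obtain ⟨d', hd'⟩ := F.exists_coord (w⁻¹ • F.vec d)
    have h2 : SY2 d' := hmap w⁻¹ (inv_mem hw) d hd d' hd'.symm
    rw [he, ← smul_inv_smul w (F.vec d), D.b_smul, ← hd', D.b_comm]
    exact F.b_Y2_Y4 h2 hc
  have hcard : Nat.card S = 256 := by
    have e : S ≃ {c : Coord // SY4 c} :=
      { toFun := fun x => ⟨x.2.choose, x.2.choose_spec.1⟩
        invFun := fun c => ⟨F.vec c.1, c.1, c.2, rfl⟩
        left_inv := fun x => Subtype.ext x.2.choose_spec.2
        right_inv := fun c => Subtype.ext (F.vec_inj (Exists.choose_spec (⟨c.1, c.2, rfl⟩ :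
          ∃ d, SY4 d ∧ F.vec d = F.vec c.1)).2) }
    rw [Nat.card_congr e]
    unfold SY4
    rw [Nat.card_eq_fintype_card]
    decide +kernel
  obtain ⟨_, ⟨c, hc, rfl⟩, hne, hfix⟩ := exists_fixed_ne W0 hp S hS
    ⟨fun _ => none, ⟨rfl, rfl⟩, F.vec_zero⟩ (by rw [hcard]; norm_num)
  exact hne (hno c hc hfix)

/-- a normal 2-subgroup inside `Mb` of the stabiliser: trivial or the swap of the first two lines -/
theorem twoGroup_U (W0 : Subgroup W) (hle : W0 ≤ MulAction.stabilizer W (F.vec cU)) (hM : W0 ≤ D.Mb)
    (hp : IsPGroup 2 W0)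
    (hn : ∀ g ∈ MulAction.stabilizer W (F.vec cU), ∀ w ∈ W0, g * w * g⁻¹ ∈ W0) :
    ∀ w ∈ W0, w = 1 ∨ F.IsMono w (Equiv.swap 0 1) (fun _ => 0) := by
  classical
  haveI : Fact (Nat.Prime 2) := ⟨Nat.prime_two⟩
  let F0 : AddSubgroup V :=
    { carrier := {x | ∀ w ∈ W0, w • x = x}
      zero_mem' := fun w _ => smul_zero w
      add_mem' := fun {x y} hx hy w hw => by rw [smul_add, hx w hw, hy w hw]
      neg_mem' := fun {x} hx w hw => by rw [smul_neg, hx w hw] }
  have hv0 : F.vec cU ∈ F0 := fun w hw => MulAction.mem_stabilizer_iff.mp (hle hw)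
  have hFh : ∀ x ∈ F0, D.h • x ∈ F0 := fun x hx w hw => by rw [D.smul_h_comm (hM hw), hx w hw]
  have hFinv : ∀ g ∈ MulAction.stabilizer W (F.vec cU), g ∈ D.Mb → ∀ x ∈ F0, g • x ∈ F0 := by
    intro g hg _ x hx w hw
    have h1 : g⁻¹ * w * g ∈ W0 := by simpa using hn g⁻¹ (inv_mem hg) w hw
    calc w • g • x = g • (g⁻¹ * w * g) • x := by rw [smul_smul, smul_smul]; congr 1; group
      _ = g • x := by rw [hx _ h1]
  -- every element fixes the last four lines
  have hY4 : ∀ c, SY4 c → F.vec c ∈ F0 := by
    by_cases hex : ∃ c, F.vec c ∈ F0 ∧ ∃ j : Fin 6, 2 ≤ j.val ∧ (c j).isSome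
    · obtain ⟨c, hc, j, hj, hcj⟩ := hex
      exact F.invariant_Y4 F0 hFinv hc hj hcj
    exfalso
    have hF2 : ∀ c, F.vec c ∈ F0 → SY2 c := by
      intro c hc i h0 h1
      by_contra hne
      exact hex ⟨c, hc, i, by rcases fin6_cases i with h | h | h <;> simp_all,
        Option.isSome_iff_ne_none.mpr hne⟩
    have hno : ∀ c, SY4 c → (∀ w ∈ W0, w • F.vec c = F.vec c) → F.vec c = 0 := by
      intro c hc hfix
      rw [show c = fun _ => none from funext fun i => ?_, F.vec_zero]
      rcases fin6_cases i with rfl | rfl | hi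
      · exact hc.1
      · exact hc.2
      · exact hF2 c hfix i (not_low i hi).1 (not_low i hi).2
    rcases F.subgroup_Y2_cases F0 hFh hv0 hF2 with hL | hbig
    swap
    · refine F.not_preserve_Y2 W0 hp (fun w hw d hd e he => ?_) hno
      rw [hbig d hd w hw] at he
      exact F.vec_inj he ▸ hd
    let T : AddSubgroup V :=
      { carrier := {x | ∀ w ∈ W0, w • x + x ∈ F0}
        zero_mem' := fun w _ => by simpa using F0.zero_mem
        add_mem' := fun {x y} hx hy w hw => by
          rw [smul_add, add_add_add_comm]; exact F0.add_mem (hx w hw) (hy w hw)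
        neg_mem' := fun {x} hx w hw => by
          rw [smul_neg, ← neg_add]; exact F0.neg_mem (hx w hw) }
    have hFT : ∀ x ∈ F0, x ∈ T := fun x hx w hw => by rw [hx w hw, D.two]; exact F0.zero_mem
    have hTh : ∀ x ∈ T, D.h • x ∈ T := fun x hx w hw => by
      rw [D.smul_h_comm (hM hw), ← smul_add]; exact hFh _ (hx w hw)
    have hTinv : ∀ g ∈ MulAction.stabilizer W (F.vec cU), g ∈ D.Mb → ∀ x ∈ T, g • x ∈ T := by
      intro g hg hgM x hx w hw
      have h1 : g⁻¹ * w * g ∈ W0 := by simpa using hn g⁻¹ (inv_mem hg) w hw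
      have e : w • g • x + g • x = g • ((g⁻¹ * w * g) • x + x) := by
        rw [smul_add, smul_smul, smul_smul]; congr 2; group
      rw [e]; exact hFinv g hg hgM _ (hx _ h1)
    by_cases hexT : ∃ c, F.vec c ∈ T ∧ ∃ j : Fin 6, 2 ≤ j.val ∧ (c j).isSome
    swap
    · have hT2 : ∀ c, F.vec c ∈ T → SY2 c := by
        intro c hc i h0 h1
        by_contra hne
        exact hexT ⟨c, hc, i, by rcases fin6_cases i with h | h | h <;> simp_all,
          Option.isSome_iff_ne_none.mpr hne⟩
      rcases F.subgroup_Y2_cases T hTh (hFT _ hv0) hT2 with hTL | hTbig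
      · -- `T` is then the line, against the fixed point of the quotient
        letI : MulAction W0 (V ⧸ F0) :=
          { smul := fun w => QuotientAddGroup.map F0 F0 (DistribMulAction.toAddMonoidHom V (w : W))
              (fun x hx => by rw [AddSubgroup.mem_comap]; show (w : W) • x ∈ F0; rw [hx w w.2]; exact hx)
            one_smul := fun x => by
              induction x using QuotientAddGroup.induction_on with
              | H x => exact congrArg QuotientAddGroup.mk (one_smul W x)
            mul_smul := fun u u' x => by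
              induction x using QuotientAddGroup.induction_on with
              | H x => exact congrArg QuotientAddGroup.mk (mul_smul (u : W) (u' : W) x) }
        have hcardq : 2 ∣ Nat.card (V ⧸ F0) := by
          have h := AddSubgroup.card_eq_card_quotient_mul_card_addSubgroup F0
          have hle4 : Nat.card F0 ≤ 4 := by
            choose f hf using fun x : F0 => (F.exists_coord x.1).imp fun c hc =>
              (⟨hc, hL c (hc.symm ▸ x.2)⟩ : F.vec c = x.1 ∧ ∃ o, c = lv o)
            choose g hg using fun x => (hf x).2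
            have := Nat.card_le_card_of_injective g fun x y hxy => Subtype.ext (by
              rw [← (hf x).1, ← (hf y).1, hg x, hg y, hxy])
            simpa [Nat.card_eq_fintype_card] using this
          obtain ⟨m, hm, hmF⟩ := (Nat.dvd_prime_pow Nat.prime_two).mp
            (show Nat.card F0 ∣ 2 ^ 12 by
              have := F0.card_addSubgroup_dvd_card
              rw [D.cardV] at this; exact this)
          rw [D.cardV, hmF] at h
          rw [hmF] at hle4
          have : m ≤ 2 := (Nat.pow_le_pow_iff_right (by norm_num)).mp hle4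
          interval_cases m <;> omega
        have hfix : (0 : V ⧸ F0) ∈ MulAction.fixedPoints W0 (V ⧸ F0) := fun w =>
          congrArg QuotientAddGroup.mk (smul_zero (w : W))
        obtain ⟨x, hx, hne⟩ := hp.exists_fixed_point_of_prime_dvd_card_of_fixed_point (V ⧸ F0) hcardq hfix
        induction x using QuotientAddGroup.induction_on with
        | H x =>
          apply hne
          have hxT : x ∈ T := by
            intro w hw
            have h := hx ⟨w, hw⟩
            have h' : ((w • x : V) : V ⧸ F0) = (x : V ⧸ F0) := h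
            rw [QuotientAddGroup.eq] at h'
            have e : -(w • x) = w • x := neg_eq_of_add_eq_zero_left (D.two _)
            rwa [e] at h'
          obtain ⟨c, rfl⟩ := F.exists_coord x
          obtain ⟨o, rfl⟩ := hTL c hxT
          symm
          rw [QuotientAddGroup.eq_zero_iff]
          cases o with
          | none =>
            rw [show lv none = fun _ => none from funext fun i => by simp [lv], F.vec_zero]
            exact F0.zero_mem
          | some t =>
            intro w hw
            have e : F.vec (lv (some t)) = (D.h ^ t.val) • F.vec cU := by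
              rw [show cU = lv (some 0) from rfl, F.smul_h_lv]; simp
            rw [e, smul_smul, (Commute.pow_right (D.central w (hM hw) : Commute w D.h) _).eq,
              ← smul_smul, hv0 w hw]
      · refine F.not_preserve_Y2 W0 hp (fun w hw d hd e he => hT2 e ?_) hno
        have h1 := hTbig d hd
        rw [← he, show w • F.vec d = (w • F.vec d + F.vec d) + F.vec d by rw [add_assoc, D.two, add_zero]]
        exact T.add_mem (hFT _ (h1 w hw)) h1
    obtain ⟨c, hc, j, hj, hcj⟩ := hexT
    have hT4 := F.invariant_Y4 T hTinv hc hj hcj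
    -- the homomorphisms from the last four lines to the line
    have hf : ∀ w : W0, ∀ i : Fin 6, 2 ≤ i.val →
        ∃ o, (w : W) • F.vec (Model.unit i (some 0)) + F.vec (Model.unit i (some 0)) = F.vec (lv o) := by
      intro w i hi
      obtain ⟨e, he⟩ := F.exists_coord ((w : W) • F.vec (Model.unit i (some 0)) + F.vec (Model.unit i (some 0)))
      obtain ⟨o, ho⟩ := hL e (he.symm ▸ hT4 _ ⟨by simp [Model.unit, (not_low i hi).1.symm],
        by simp [Model.unit, (not_low i hi).2.symm]⟩ w w.2)
      exact ⟨o, by rw [← ho, he]⟩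
    let R : (Fin 6 → Option (ZMod 3)) → Prop := fun f => ∃ w : W0, ∀ i : Fin 6, 2 ≤ i.val →
      (w : W) • F.vec (Model.unit i (some 0)) + F.vec (Model.unit i (some 0)) = F.vec (lv (f i))
    have hlvfix : ∀ o, ∀ w ∈ W0, w • F.vec (lv o) = F.vec (lv o) := by
      intro o w hw
      cases o with
      | none =>
        rw [show lv none = fun _ => none from funext fun i => by simp [lv], F.vec_zero, smul_zero]
      | some t =>
        have e : F.vec (lv (some t)) = (D.h ^ t.val) • F.vec cU := by
          rw [show cU = lv (some 0) from rfl, F.smul_h_lv]; simp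
        rw [e, smul_smul, (Commute.pow_right (D.central w (hM hw) : Commute w D.h) _).eq,
          ← smul_smul, hv0 w hw]
    have hlvadd : ∀ o o', F.vec (lv o) + F.vec (lv o') = F.vec (lv (oadd o o')) := by
      intro o o'
      rw [F.vec_add]
      congr 1
      funext i
      simp only [lv]
      split_ifs <;> rfl
    have Rmul : ∀ f f', R f → R f' → R fun i => oadd (f i) (f' i) := by
      rintro f f' ⟨w, hw⟩ ⟨w', hw'⟩
      refine ⟨w * w', fun i hi => ?_⟩
      have e1 : (w' : W) • F.vec (Model.unit i (some 0)) =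
          F.vec (lv (f' i)) + F.vec (Model.unit i (some 0)) := by
        rw [← hw' i hi, add_assoc, D.two, add_zero]
      rw [Subgroup.coe_mul, mul_smul, e1, smul_add, hlvfix _ _ w.2, add_assoc, hw i hi, hlvadd]
      congr 2
      have : ∀ o o', oadd o' o = oadd o o' := by decide
      exact this _ _
    have Rdiag : ∀ (f : Coord) (k : Ph), R f → ∑ i, k i = 0 → k 0 = 0 → k 1 = 0 → R fun i => (f i).map (· + -k i) := by
      rintro f k ⟨w, hw⟩ hk h0 h1
      obtain ⟨b, hbS, hbM, hb⟩ := F.diag_fix k hk h0 h1
      refine ⟨⟨b * w * b⁻¹, hn b hbS w w.2⟩, fun i hi => ?_⟩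
      have hub : b⁻¹ • F.vec (Model.unit i (some 0)) = (D.h ^ (-k i).val) • F.vec (Model.unit i (some 0)) := by
        rw [inv_smul_eq_iff, F.hpow_vec, hb]
        congr 1
        funext x
        by_cases hx : x = i
        · subst hx; simp [Model.unit, shift]
        · simp [Model.unit, shift, hx]
      show (b * (w : W) * b⁻¹) • F.vec (Model.unit i (some 0)) + F.vec (Model.unit i (some 0)) = _
      rw [mul_smul, mul_smul, hub]
      have hcm : ∀ x : V, (w : W) • (D.h ^ (-k i).val) • x = (D.h ^ (-k i).val) • (w : W) • x := fun x => by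
        rw [smul_smul, smul_smul, (Commute.pow_right (D.central _ (hM w.2) : Commute (w : W) D.h) _).eq]
      have e1 : (w : W) • F.vec (Model.unit i (some 0)) =
          F.vec (lv (f i)) + F.vec (Model.unit i (some 0)) := by
        rw [← hw i hi, add_assoc, D.two, add_zero]
      rw [hcm, e1, smul_add, F.smul_h_lv, smul_add, ← hub, smul_inv_smul, add_assoc, D.two, add_zero, hb]
      congr 1
      funext x
      by_cases hx : x = 0 ∨ x = 1
      · rcases hx with rfl | rfl <;> simp [lv, shift, h0, h1, Function.comp_def]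
      · simp [lv, shift, hx]
    have Rperm : ∀ f π, R f → Equiv.Perm.sign π = 1 → (∀ i, cU (π i) = cU i) → R fun i => f (π.symm i) := by
      rintro f π ⟨w, hw⟩ hπ hfix
      obtain ⟨p, hpS, hpM, hp'⟩ := F.pure_fix π hπ hfix
      refine ⟨⟨p * w * p⁻¹, hn p hpS w w.2⟩, fun i hi => ?_⟩
      have hi' : 2 ≤ (π.symm i).val := by
        rcases fin6_cases (π.symm i) with h | h | h
        · have := hfix (π.symm i); rw [Equiv.apply_symm_apply, h] at this
          simp [cU, not_low i hi] at this
        · have := hfix (π.symm i); rw [Equiv.apply_symm_apply, h] at this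
          simp [cU, not_low i hi] at this
        · exact h
      have hup : p⁻¹ • F.vec (Model.unit i (some 0)) = F.vec (Model.unit (π.symm i) (some 0)) := by
        rw [inv_smul_eq_iff, hp']
        congr 1
        funext x
        by_cases hx : x = i
        · subst hx; simp [Model.unit, move]
        · have hx' : π.symm x ≠ π.symm i := fun h => hx (π.symm.injective h)
          simp [Model.unit, move, hx, hx']
      show (p * (w : W) * p⁻¹) • F.vec (Model.unit i (some 0)) + F.vec (Model.unit i (some 0)) = _
      rw [mul_smul, mul_smul, hup]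
      have e1 : (w : W) • F.vec (Model.unit (π.symm i) (some 0)) =
          F.vec (lv (f (π.symm i))) + F.vec (Model.unit (π.symm i) (some 0)) := by
        rw [← hw _ hi', add_assoc, D.two, add_zero]
      rw [e1, smul_add, ← hup, smul_inv_smul, add_assoc, D.two, add_zero, hp']
      congr 1
      funext x
      have := hfix (π.symm x)
      rw [Equiv.apply_symm_apply] at this
      by_cases hx : x = 0 ∨ x = 1
      · have hx2 : π.symm x = 0 ∨ π.symm x = 1 := by
          by_contra hc; simp [cU, hx, hc] at this
        simp [lv, move, hx, hx2]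
      · have hx2 : ¬(π.symm x = 0 ∨ π.symm x = 1) := fun hc => by simp [cU, hx, hc] at this
        simp [lv, move, hx, hx2]
    choose fw hfw using hf
    have hR : ∀ w : W0, R fun i => if hi : 2 ≤ i.val then fw w i hi else none :=
      fun w => ⟨w, fun i hi => by simp only [dif_pos hi]; exact hfw w i hi⟩
    by_cases hnz : ∃ f, R f ∧ ∃ i : Fin 6, 2 ≤ i.val ∧ (f i).isSome
    swap
    · -- otherwise the last four lines are fixed
      apply hex
      refine ⟨Model.unit 2 (some 0), fun w hw => ?_, 2, by decide, by simp [Model.unit]⟩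
      have h0 : fw ⟨w, hw⟩ 2 (by decide) = none := by
        by_contra hne
        exact hnz ⟨_, hR ⟨w, hw⟩, 2, by decide, by
          simp only [show 2 ≤ (2 : Fin 6).val from le_rfl, dif_pos]
          exact Option.isSome_iff_ne_none.mpr hne⟩
      have h1 := hfw ⟨w, hw⟩ 2 (by decide)
      rw [h0, show lv none = fun _ => none from funext fun i => by simp [lv], F.vec_zero] at h1
      rw [eq_neg_of_add_eq_zero_left h1]
      exact neg_eq_of_add_eq_zero_left (D.two _)
    obtain ⟨f, hRf, j, hj, hfj⟩ := hnz
    have hothers : ∀ j : Fin 6, 2 ≤ j.val → ∃ l m : Fin 6, 2 ≤ l.val ∧ 2 ≤ m.val ∧ l ≠ j ∧ m ≠ j ∧ l ≠ m := by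
      decide
    obtain ⟨l, m, hl, hm, hlj, hmj, hlm⟩ := hothers j hj
    have hz : ∀ l : Fin 6, 2 ≤ l.val → diff j l 0 = 0 ∧ diff j l 1 = 0 := fun l hl => by
      have := not_low j hj; have := not_low l hl
      simp [diff, Pi.single_apply, Ne.symm this.1, Ne.symm this.2, *]
    have hstep : ∀ f l, R f → 2 ≤ l.val → R fun i => oadd (f i) ((f i).map (· + -diff j l i)) :=
      fun f l hf hl => Rmul _ _ hf (Rdiag f _ hf (by simp [diff]) (hz l hl).1 (hz l hl).2)
    have h2 := hstep _ m (hstep f l hRf hl) hm
    set f2 := fun i => oadd (oadd (f i) ((f i).map (· + -diff j l i)))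
      ((oadd (f i) ((f i).map (· + -diff j l i))).map (· + -diff j m i)) with hf2
    obtain ⟨a, ha⟩ : ∃ a, f2 j = some a := by
      obtain ⟨t, ht⟩ := Option.isSome_iff_exists.mp hfj
      have key : ∀ t : ZMod 3, ∃ a, oadd (oadd (some t) ((some t).map (· + -1)))
          ((oadd (some t) ((some t).map (· + -1))).map (· + -1)) = some a := by decide
      simpa [hf2, ht, diff, Pi.single_apply, hlj.symm, hmj.symm] using key t
    have hoff : ∀ i, i ≠ j → f2 i = none := by
      intro i hij
      have hself : ∀ o : Option (ZMod 3), oadd o (o.map (· + -0)) = none := by decide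
      rcases eq_or_ne i l with rfl | hil
      · have h0 : diff j m i = 0 := by simp [diff, Pi.single_apply, hij, hlm]
        simp only [hf2, h0]
        exact hself _
      · have h0 : diff j l i = 0 := by simp [diff, Pi.single_apply, hij, hil]
        simp only [hf2, h0, hself]
        rfl
    -- all single values
    have hsingle : ∀ i : Fin 6, 2 ≤ i.val → ∀ t : ZMod 3, R (Model.unit i (some t)) := by
      intro i hi t
      obtain ⟨π, hπ, hfix, hπj⟩ := cU_perm j i hj hi
      have h3 := Rperm _ π (Rdiag f2 (fun x => (a - t) * diff j l x) h2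
        (by rw [← Finset.mul_sum]; simp [diff]) (by rw [(hz l hl).1, mul_zero])
        (by rw [(hz l hl).2, mul_zero])) hπ hfix
      convert h3 using 1
      funext x
      by_cases hx : x = i
      · subst hx
        rw [← hπj, Equiv.symm_apply_apply]
        simp [Model.unit, ha, diff, Pi.single_apply, hlj.symm]
      · have hx' : π.symm x ≠ j := fun h => hx (by rw [← hπj, ← h, Equiv.apply_symm_apply])
        simp [Model.unit, hx, hoff _ hx']
    have Rcongr : ∀ f f', R f → (∀ i : Fin 6, 2 ≤ i.val → f i = f' i) → R f' := by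
      rintro f f' ⟨w, hw⟩ h
      exact ⟨w, fun i hi => by rw [← h i hi]; exact hw i hi⟩
    have R1 : R fun _ => none := ⟨1, fun i _ => by
      rw [Subgroup.coe_one, one_smul, D.two, show lv none = fun _ => none from funext fun i => by simp [lv],
        F.vec_zero]⟩
    have hall : ∀ d : Coord, R d := by
      intro d
      have : ∀ s : Finset (Fin 6), R fun i => if i ∈ s then d i else none := by
        intro s
        induction s using Finset.induction_on with
        | empty => simpa using R1
        | insert i s his ih =>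
          by_cases hi : 2 ≤ i.val
          · cases hdi : d i with
            | none =>
              refine Rcongr _ _ ih fun x _ => ?_
              by_cases hxi : x = i <;> simp [hxi, hdi, his]
            | some t =>
              refine Rcongr _ _ (Rmul _ _ ih (hsingle i hi t)) fun x _ => ?_
              by_cases hxi : x = i
              · subst hxi; simp [his, Model.unit, hdi, oadd]
              · simp only [Finset.mem_insert, hxi, false_or, Model.unit, Function.update_of_ne hxi]
                split_ifs <;> cases d x <;> rfl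
          · refine Rcongr _ _ ih fun x hx => ?_
            have hxi : x ≠ i := fun h => hi (h ▸ hx)
            simp [hxi]
      exact Rcongr _ _ (this Finset.univ) fun i _ => by simp
    choose wsel hwsel using fun d : {i : Fin 6 // 2 ≤ i.val} → Option (ZMod 3) =>
      hall fun i => if hi : 2 ≤ i.val then d ⟨i, hi⟩ else none
    have h256 := Nat.card_le_card_of_injective wsel fun d d' h => funext fun i => by
      have h1 := hwsel d i.1 i.2
      rw [h, hwsel d' i.1 i.2] at h1
      simp only [dif_pos i.2] at h1
      have := congrFun (F.vec_inj h1) 0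
      simpa [lv] using this.symm
    rw [Nat.card_eq_fintype_card, Fintype.card_fun, Fintype.card_option, ZMod.card] at h256
    have h4 : Fintype.card {i : Fin 6 // 2 ≤ i.val} = 4 := by decide
    rw [h4] at h256
    have hd := Subgroup.card_dvd_of_le hle
    rw [F.card_stab_U isU_cU] at hd
    obtain ⟨n, hn2⟩ := hp.exists_card_eq
    rw [hn2] at hd h256
    have hn7 : n ≤ 7 := by
      by_contra hgt
      have : 2 ^ 8 ∣ 51840 := dvd_trans (Nat.pow_dvd_pow 2 (by omega)) hd
      norm_num at this
    have := Nat.pow_le_pow_right (show 0 < 2 by norm_num) hn7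
    omega
  -- so each element is determined by the image of the first line
  intro w hw
  have hfix4 : ∀ i : Fin 6, 2 ≤ i.val → w • F.v i = F.v i := by
    intro i hi
    have := hY4 (Model.unit i (some 0)) ⟨by simp [Model.unit, (not_low i hi).1.symm],
      by simp [Model.unit, (not_low i hi).2.symm]⟩ w hw
    rw [F.vec_unit] at this
    simpa [Core.lineEl] using this
  obtain ⟨e, he⟩ := F.exists_coord (w • F.vec (Model.unit 0 (some 0)))
  have he2 : SY2 e := F.SY2_of_perp fun d hd => by
    rw [he, ← hY4 d hd w hw, D.b_smul]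
    exact F.b_Y2_Y4 (fun i h0 _ => by simp [Model.unit, h0]) hd
  have h01 : w • F.vec (Model.unit 1 (some 0)) = F.vec (fun i => oadd (e i) (cU i)) := by
    have hsum : F.vec (Model.unit 0 (some 0)) + F.vec cU = F.vec (Model.unit 1 (some 0)) := by
      rw [F.vec_add]
      congr 1
      funext i
      revert i
      unfold Model.unit cU
      decide
    rw [← hsum, smul_add, ← he, hv0 w hw, F.vec_add]
  have hq0 : wt e % 2 = 1 := by
    have h := congrArg D.q he
    rw [F.q_eq, D.q_smul, F.q_eq, show wt (Model.unit 0 (some 0)) = 1 by unfold Model.unit; decide] at h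
    have := congrArg ZMod.val h
    rwa [ZMod.val_natCast, ZMod.val_natCast] at this
  have hq1 : wt (fun i => oadd (e i) (cU i)) % 2 = 1 := by
    have h := congrArg D.q h01
    rw [D.q_smul, F.q_eq, F.q_eq, show wt (Model.unit 1 (some 0)) = 1 by unfold Model.unit; decide] at h
    have := congrArg ZMod.val h.symm
    rwa [ZMod.val_natCast, ZMod.val_natCast] at this
  have key : ∀ a c : Option (ZMod 3),
      let e : Coord := fun i => if i = 0 then a else if i = 1 then c else none
      wt e % 2 = 1 → wt (fun i => oadd (e i) (cU i)) % 2 = 1 →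
        (e = Model.unit 0 (some 0)) ∨ (e = Model.unit 1 (some 0)) := by
    unfold Model.unit cU; decide +kernel
  have hee : e = fun i => if i = 0 then e 0 else if i = 1 then e 1 else none := by
    funext i
    split_ifs with h0 h1
    · rw [h0]
    · rw [h1]
    · exact he2 i h0 h1
  have hk := key (e 0) (e 1) (hee ▸ hq0) (hee ▸ hq1)
  rw [← hee] at hk
  have hu : ∀ i, F.vec (Model.unit i (some 0)) = F.v i := fun i => by rw [F.vec_unit]; simp [Core.lineEl]
  have hlow : ∀ j, D.lineEl (F.v j) (some 0) = F.v j := fun j => by simp [Core.lineEl]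
  rcases hk with hk | hk
  · left
    have hm : F.IsMono w 1 (fun _ => 0) := by
      intro i
      rw [Equiv.Perm.one_apply, hlow]
      rcases fin6_cases i with rfl | rfl | hi
      · rw [← hu, ← he, hk]
      · rw [← hu, h01, hk]
        congr 1
        funext x; revert x; unfold Model.unit cU; decide
      · exact hfix4 i hi
    exact F.eq_of_basis (D.central w (hM hw)) (by rw [one_mul, mul_one]) hm (fun i => by simp [Core.lineEl])
  · right
    intro i
    rw [hlow]
    rcases fin6_cases i with rfl | rfl | hi
    · rw [Equiv.swap_apply_left, ← hu, ← he, hk, hu]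
    · rw [Equiv.swap_apply_right, ← hu, h01, hk, ← hu 0]
      congr 1
      funext x; revert x; unfold Model.unit cU; decide
    · rw [Equiv.swap_apply_of_ne_of_ne (not_low i hi).1 (not_low i hi).2]
      exact hfix4 i hi

/-- a normal elementary subgroup of the stabiliser is small -/
theorem card_normal_le_four (Wn : Subgroup W) (hle : Wn ≤ MulAction.stabilizer W (F.vec cU))
    (hn : ∀ g ∈ MulAction.stabilizer W (F.vec cU), ∀ w ∈ Wn, g * w * g⁻¹ ∈ Wn)
    (hp : IsPGroup 2 Wn) : Nat.card Wn ≤ 4 := by
  classical
  have hp0 : IsPGroup 2 (Wn ⊓ D.Mb : Subgroup W) := hp.to_le inf_le_left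
  have hM := F.twoGroup_U (Wn ⊓ D.Mb) (inf_le_left.trans hle) inf_le_right hp0
    (fun g hg w hw => ⟨hn g hg w hw.1, D.conj_mem_Mb g hw.2⟩)
  have h2 : Nat.card (Wn ⊓ D.Mb : Subgroup W) ≤ 2 := by
    have h := Nat.card_le_card_of_injective
      (fun w : (Wn ⊓ D.Mb : Subgroup W) => decide ((w : W) = 1)) fun a c h => by
        simp only [decide_eq_decide] at h
        apply Subtype.ext
        rcases hM a a.2 with ha | ha <;> rcases hM c c.2 with hc | hc
        · rw [ha, hc]
        · rw [ha, h.mp ha]
        · rw [hc, h.mpr hc]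
        · exact F.eq_of_basis (D.central _ a.2.2) (D.central _ c.2.2) ha hc
    rwa [Nat.card_eq_fintype_card (α := Bool), Fintype.card_bool] at h
  have h1 := Subgroup.relIndex_mul_relIndex (⊥ : Subgroup W) (Wn ⊓ D.Mb) Wn bot_le inf_le_left
  rw [Subgroup.relIndex_bot_left, Subgroup.relIndex_bot_left] at h1
  have h3 : (Wn ⊓ D.Mb).relIndex Wn ≤ 2 := by
    rw [inf_comm, Subgroup.inf_relIndex_right]
    exact (Nat.le_of_dvd (by rw [D.index]; norm_num)
      (@Subgroup.relIndex_dvd_index_of_normal W _ D.Mb Wn D.Mb_normal)).trans D.index.le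
  calc Nat.card Wn = Nat.card (Wn ⊓ D.Mb : Subgroup W) * (Wn ⊓ D.Mb).relIndex Wn := h1.symm
    _ ≤ 2 * 2 := Nat.mul_le_mul h2 h3

end NFrame

end Cfsg.Agent.Lib.LargeFischer13
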