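import Cfsg.Agent.Lib.LargeFischer13.Fixed

/-!
A copy of `A₆` in the stabiliser of `ones` normalises no totally singular subgroup of order sixteen
on which a Sylow 3-subgroup has no fixed point.
-/

set_option autoImplicit false
set_option linter.style.haveILetI false
set_option linter.unusedSectionVars false

namespace Cfsg.Agent.Lib.LargeFischer13

open Model
open scoped Pointwise

/-- six vectors: two constant phases on the pairs inside the two triples -/
def Model.e3 (a c : ZMod 3) (i : Fin 6) : Model.Coord := fun l =>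
  if l = i then none else if (l.val < 3 ↔ i.val < 3) then (if i.val < 3 then some a else some c) else none

theorem cyc1_even : cyc1 ∈ alternatingGroup (Fin 6) :=
  Equiv.Perm.mem_alternatingGroup.mpr (by decide +kernel)

theorem cyc2_even : cyc2 ∈ alternatingGroup (Fin 6) :=
  Equiv.Perm.mem_alternatingGroup.mpr (by decide +kernel)

/-- the first generator as an element of `A₆` -/
def alt1 : alternatingGroup (Fin 6) := ⟨cyc1, cyc1_even⟩

/-- the second generator as an element of `A₆` -/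
def alt2 : alternatingGroup (Fin 6) := ⟨cyc2, cyc2_even⟩

/-- the centraliser in `A₆` of the two generators -/
def nine : Subgroup (alternatingGroup (Fin 6)) :=
  (Subgroup.centralizer ({cyc1, cyc2} : Set (Equiv.Perm (Fin 6)))).subgroupOf (alternatingGroup (Fin 6))

theorem mem_nine {p : alternatingGroup (Fin 6)} : p ∈ nine ↔ p.1 * cyc1 = cyc1 * p.1 ∧ p.1 * cyc2 = cyc2 * p.1 := by
  rw [nine, Subgroup.mem_subgroupOf, Subgroup.mem_centralizer_iff]
  exact ⟨fun h => ⟨(h cyc1 (Or.inl rfl)).symm, (h cyc2 (Or.inr rfl)).symm⟩, fun h g hg => by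
    rcases hg with rfl | rfl
    exacts [h.1.symm, h.2.symm]⟩

theorem card_nine : Nat.card nine = 9 := by
  rw [← nine_facts, ← Fintype.card_subtype, ← Nat.card_eq_fintype_card]
  exact Nat.card_congr
    { toFun := fun p => ⟨p.1.1, mem_nine.mp p.2⟩
      invFun := fun p => ⟨⟨p.1, Equiv.Perm.mem_alternatingGroup.mpr (nine_even p.1 p.2.1 p.2.2)⟩, mem_nine.mpr p.2⟩
      left_inv := fun _ => rfl
      right_inv := fun _ => rfl }

theorem nine_gen : ∀ p : Equiv.Perm (Fin 6), p * cyc1 = cyc1 * p → p * cyc2 = cyc2 * p →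
    ∃ i j : Fin 3, p = cyc1 ^ i.val * cyc2 ^ j.val := by
  decide +kernel

theorem nine_le {p : alternatingGroup (Fin 6)} (hp : p ∈ nine) : ∃ i j : ℕ, p = alt1 ^ i * alt2 ^ j := by
  obtain ⟨i, j, h⟩ := nine_gen p.1 (mem_nine.mp hp).1 (mem_nine.mp hp).2
  exact ⟨i, j, Subtype.ext (by simpa [alt1, alt2] using h)⟩

theorem alt1_mem : alt1 ∈ nine := mem_nine.mpr ⟨rfl, by decide +kernel⟩

theorem alt2_mem : alt2 ∈ nine := mem_nine.mpr ⟨by decide +kernel, rfl⟩

theorem block_perms :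
    (Finset.univ.filter fun σ : Equiv.Perm (Fin 6) =>
      ∀ i j : Fin 6, (i.val < 3 ↔ j.val < 3) → ((σ i).val < 3 ↔ (σ j).val < 3)).card = 72 := by
  decide +kernel

theorem e3_wt : ∀ (a c : ZMod 3) (i : Fin 6), wt (e3 a c i) = 2 := by decide +kernel

theorem e3_inj : ∀ (a c : ZMod 3) (i j : Fin 6), e3 a c i = e3 a c j → i = j := by
  intro a c i j h
  have key : ∀ (a c : ZMod 3) (i j : Fin 6), (∀ l, e3 a c i l = e3 a c j l) → i = j := by decide +kernel
  exact key a c i j fun l => congrFun h l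

theorem e3_same : ∀ (a c : ZMod 3) (i j : Fin 6), i ≠ j →
    ((wt fun l => oadd (e3 a c i l) (e3 a c j l)) = 2 ↔ (i.val < 3 ↔ j.val < 3)) ∧
      ((wt fun l => oadd (e3 a c i l) (e3 a c j l)) = 2 ∨ (wt fun l => oadd (e3 a c i l) (e3 a c j l)) = 4) := by
  decide +kernel

/-- singular vectors of sum zero on the first triple -/
theorem triple_shape_one : ∀ p q r : Option (ZMod 3), oadd (oadd p q) r = none →
    wt ![p, q, r, none, none, none] % 2 = 0 →
      (p = none ∧ q = none ∧ r = none) ∨ ∃ (a : ZMod 3) (i : Fin 6), i.val < 3 ∧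
        ∀ l, ![p, q, r, none, none, none] l = e3 a 0 i l := by
  decide +kernel

/-- singular vectors of sum zero on the second triple -/
theorem triple_shape_two : ∀ p q r : Option (ZMod 3), oadd (oadd p q) r = none →
    wt ![none, none, none, p, q, r] % 2 = 0 →
      (p = none ∧ q = none ∧ r = none) ∨ ∃ (c : ZMod 3) (i : Fin 6), 3 ≤ i.val ∧
        ∀ l, ![none, none, none, p, q, r] l = e3 0 c i l := by
  decide +kernel

theorem phase_unique_one : ∀ (a a' : ZMod 3) (i i' : Fin 6), i.val < 3 → i'.val < 3 →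
    (∀ k : Fin 3, (wt fun l => oadd (e3 a 0 i l) (e3 a' 0 ((cyc1 ^ k.val) i') l)) % 2 = 0) → a = a' := by
  decide +kernel

theorem phase_unique_two : ∀ (c c' : ZMod 3) (i i' : Fin 6), 3 ≤ i.val → 3 ≤ i'.val →
    (∀ k : Fin 3, (wt fun l => oadd (e3 0 c i l) (e3 0 c' ((cyc2 ^ k.val) i') l)) % 2 = 0) → c = c' := by
  decide +kernel

theorem e3_cyc : ∀ (a c : ZMod 3) (i : Fin 6),
    (∀ l, e3 a c i (cyc1.symm l) = e3 a c (cyc1 i) l) ∧ (∀ l, e3 a c i (cyc2.symm l) = e3 a c (cyc2 i) l) ∧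
      ∀ (a' c' : ZMod 3), (i.val < 3 → ∀ l, e3 a c i l = e3 a c' i l) ∧ (3 ≤ i.val → ∀ l, e3 a c i l = e3 a' c i l) := by
  decide +kernel

theorem cyc_orbit : ∀ i j : Fin 6, (i.val < 3 → j.val < 3 → j = i ∨ j = cyc1 i ∨ j = cyc1 (cyc1 i)) ∧
    (3 ≤ i.val → 3 ≤ j.val → j = i ∨ j = cyc2 i ∨ j = cyc2 (cyc2 i)) := by
  decide +kernel

namespace NFrame

variable {W : Type*} [Group W] [Finite W] {V : Type*} [AddCommGroup V] [Finite V]
  [DistribMulAction W V] {D : Core W V} (F : NFrame D)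

include F

theorem rho_fix_ones {ρ : alternatingGroup (Fin 6) →* W}
    (hρ : ∀ p, ρ p ∈ D.P ∧ F.IsMono (ρ p) p.1 (fun _ => 0)) (p : alternatingGroup (Fin 6)) :
    ρ p ∈ MulAction.stabilizer W (F.vec ones) := by
  rw [MulAction.mem_stabilizer_iff, F.smul_vec_comm (D.central _ (D.P_le (hρ p).1)) (hρ p).2, move_ones]

/-- conjugate the Sylow subgroup to the pure one -/
theorem exists_conj_nine (ι ρ : alternatingGroup (Fin 6) →* W) (hι : Function.Injective ι)
    (hρ : Function.Injective ρ) (hιS : ∀ p, ι p ∈ MulAction.stabilizer W (F.vec ones))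
    (hρS : ∀ p, ρ p ∈ MulAction.stabilizer W (F.vec ones)) :
    ∃ w ∈ MulAction.stabilizer W (F.vec ones),
      (∀ p ∈ nine, ∃ p' ∈ nine, w * ι p * w⁻¹ = ρ p') ∧ ∀ p ∈ nine, ∃ p' ∈ nine, ρ p = w * ι p' * w⁻¹ := by
  haveI : Fact (Nat.Prime 3) := ⟨Nat.prime_three⟩
  set S := MulAction.stabilizer W (F.vec ones) with hS
  have key : ∀ φ : alternatingGroup (Fin 6) →* W, Function.Injective φ → (∀ p, φ p ∈ S) →
      ∃ Syl : Sylow 3 S, (Syl : Subgroup S) = (nine.map φ).subgroupOf S := by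
    intro φ hφ hφS
    have hle : nine.map φ ≤ S := by rintro _ ⟨p, -, rfl⟩; exact hφS p
    have hc : Nat.card ((nine.map φ).subgroupOf S) = 9 := by
      rw [Nat.card_congr (Subgroup.subgroupOfEquivOfLe hle).toEquiv, Subgroup.card_map_of_injective hφ, card_nine]
    have hp : IsPGroup 3 ((nine.map φ).subgroupOf S) := IsPGroup.of_card (n := 2) (by rw [hc]; norm_num)
    refine ⟨hp.toSylow ?_, rfl⟩
    have h := ((nine.map φ).subgroupOf S).card_mul_index
    rw [hc, hS, F.card_stab_R isR_ones] at h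
    rw [hS, show ((nine.map φ).subgroupOf (MulAction.stabilizer W (F.vec ones))).index = 1280 by omega]
    norm_num
  obtain ⟨P1, h1⟩ := key ι hι hιS
  obtain ⟨P2, h2⟩ := key ρ hρ hρS
  obtain ⟨g, hg⟩ := MulAction.exists_smul_eq S P1 P2
  have he := congrArg (fun P : Sylow 3 S => (P : Subgroup S)) hg
  simp only [Sylow.coe_subgroup_smul, h1, h2] at he
  refine ⟨g, g.2, fun p hp => ?_, fun p hp => ?_⟩
  · have hm : (MulAut.conj g) • (⟨ι p, hιS p⟩ : S) ∈ (nine.map ρ).subgroupOf S := by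
      rw [← he]
      exact Subgroup.smul_mem_pointwise_smul _ _ _ ⟨p, hp, rfl⟩
    obtain ⟨p', hp', e⟩ := hm
    exact ⟨p', hp', e.symm⟩
  · have hm : (⟨ρ p, hρS p⟩ : S) ∈ MulAut.conj g • (nine.map ι).subgroupOf S := by
      rw [he]; exact ⟨p, hp, rfl⟩
    obtain ⟨⟨u, hu⟩, ⟨p', hp', hu'⟩, e⟩ := hm
    refine ⟨p', hp', ?_⟩
    have e' := congrArg Subtype.val e
    rw [show ι p' = u from hu']
    exact e'.symm

theorem no_complement_std (M : AddSubgroup V) (hcard : Nat.card M = 16) (hq : ∀ m ∈ M, D.q m = 0)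
    {a b : W} (ha : a * D.h = D.h * a) (hb : b * D.h = D.h * b)
    (ham : F.IsMono a cyc1 (fun _ => 0)) (hbm : F.IsMono b cyc2 (fun _ => 0))
    (hMa : ∀ m ∈ M, a • m ∈ M) (hMb : ∀ m ∈ M, b • m ∈ M)
    (hfree : ∀ m ∈ M, a • m = m → b • m = m → m = 0) :
    ∃ φa φc : ZMod 3, (∀ i, F.vec (e3 φa φc i) ∈ M) ∧
      ∀ m ∈ M, IsU (F.exists_coord m).choose → ∃ i, m = F.vec (e3 φa φc i) := by
  classical
  have hmv : ∀ (π : Equiv.Perm (Fin 6)) (e : Coord), move π (fun _ => 0) e = fun i => e (π.symm i) := by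
    intro π e; funext i; simp [move]
  have hra : ∀ c : Coord, F.vec c ∈ M → F.vec (fun i => c (cyc1.symm i)) ∈ M := fun c hc => by
    rw [← hmv, ← F.smul_vec_comm ha ham]; exact hMa _ hc
  have hrb : ∀ c : Coord, F.vec c ∈ M → F.vec (fun i => c (cyc2.symm i)) ∈ M := fun c hc => by
    rw [← hmv, ← F.smul_vec_comm hb hbm]; exact hMb _ hc
  have hadd : ∀ c d : Coord, F.vec c ∈ M → F.vec d ∈ M → F.vec (fun i => oadd (c i) (d i)) ∈ M :=
    fun c d hc hd => F.vec_add c d ▸ M.add_mem hc hd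
  have heven : ∀ c : Coord, F.vec c ∈ M → wt c % 2 = 0 := fun c hc => by
    have h := hq _ hc
    rw [F.q_eq] at h
    have := congrArg ZMod.val h
    rwa [ZMod.val_natCast, ZMod.val_zero] at this
  -- both triple sums vanish
  have htri : ∀ c : Coord, F.vec c ∈ M →
      oadd (oadd (c 0) (c 1)) (c 2) = none ∧ oadd (oadd (c 3) (c 4)) (c 5) = none ∧
        F.vec ![c 0, c 1, c 2, none, none, none] ∈ M ∧ F.vec ![none, none, none, c 3, c 4, c 5] ∈ M := by
    intro c hc
    have n1 := hadd _ _ (hadd _ _ hc (hra _ hc)) (hra _ (hra _ hc))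
    set c1 : Coord := fun i => oadd (oadd (c i) (c (cyc1.symm i))) (c (cyc1.symm (cyc1.symm i))) with hc1
    have n2 := hadd _ _ (hadd _ _ n1 (hrb _ n1)) (hrb _ (hrb _ n1))
    set c2 : Coord := fun i => oadd (oadd (c1 i) (c1 (cyc2.symm i))) (c1 (cyc2.symm (cyc2.symm i))) with hc2
    set s := oadd (oadd (c 0) (c 1)) (c 2) with hs
    set t := oadd (oadd (c 3) (c 4)) (c 5) with ht
    have key : ∀ p q r u v x : Option (ZMod 3),
        oadd (oadd p r) q = oadd (oadd p q) r ∧ oadd (oadd q p) r = oadd (oadd p q) r ∧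
          oadd (oadd r q) p = oadd (oadd p q) r ∧ oadd (oadd p p) p = p ∧
          oadd (oadd u x) v = oadd (oadd u v) x ∧ oadd (oadd v u) x = oadd (oadd u v) x ∧
          oadd (oadd x v) u = oadd (oadd u v) x := by
      intro p q r u v x
      have h : ∀ p q r : Option (ZMod 3), oadd (oadd p r) q = oadd (oadd p q) r ∧
          oadd (oadd q p) r = oadd (oadd p q) r ∧ oadd (oadd r q) p = oadd (oadd p q) r ∧
          oadd (oadd p p) p = p := by decide
      exact ⟨(h p q r).1, (h p q r).2.1, (h p q r).2.2.1, (h p q r).2.2.2, (h u v x).1, (h u v x).2.1,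
        (h u v x).2.2.1⟩
    have e1 : c1 = ![s, s, s, c 3, c 4, c 5] := by
      funext i
      fin_cases i <;> simp [hc1, hs, show cyc1.symm 0 = 2 by decide +kernel,
        show cyc1.symm 1 = 0 by decide +kernel, show cyc1.symm 2 = 1 by decide +kernel,
        show cyc1.symm 3 = 3 by decide +kernel, show cyc1.symm 4 = 4 by decide +kernel,
        show cyc1.symm 5 = 5 by decide +kernel]
      all_goals first
        | exact (key (c 0) (c 1) (c 2) none none none).1
        | exact (key (c 0) (c 1) (c 2) none none none).2.1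
        | exact (key (c 0) (c 1) (c 2) none none none).2.2.1
        | exact (key (c 3) none none none none none).2.2.2.1
        | exact (key (c 4) none none none none none).2.2.2.1
        | exact (key (c 5) none none none none none).2.2.2.1
    have e2 : c2 = ![s, s, s, t, t, t] := by
      funext i
      fin_cases i <;> simp [hc2, e1, ht, show cyc2.symm 0 = 0 by decide +kernel,
        show cyc2.symm 1 = 1 by decide +kernel, show cyc2.symm 2 = 2 by decide +kernel,
        show cyc2.symm 3 = 5 by decide +kernel, show cyc2.symm 4 = 3 by decide +kernel,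
        show cyc2.symm 5 = 4 by decide +kernel]
      all_goals first
        | exact (key s none none none none none).2.2.2.1
        | exact (key none none none (c 3) (c 4) (c 5)).2.2.2.2.1
        | exact (key none none none (c 3) (c 4) (c 5)).2.2.2.2.2.1
        | exact (key none none none (c 3) (c 4) (c 5)).2.2.2.2.2.2
    have hz : F.vec c2 = 0 := hfree _ n2
      (by rw [F.smul_vec_comm ha ham, hmv, e2]; congr 1; funext i; fin_cases i <;> simp [
        show cyc1.symm 0 = 2 by decide +kernel, show cyc1.symm 1 = 0 by decide +kernel,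
        show cyc1.symm 2 = 1 by decide +kernel, show cyc1.symm 3 = 3 by decide +kernel,
        show cyc1.symm 4 = 4 by decide +kernel, show cyc1.symm 5 = 5 by decide +kernel])
      (by rw [F.smul_vec_comm hb hbm, hmv, e2]; congr 1; funext i; fin_cases i <;> simp [
        show cyc2.symm 0 = 0 by decide +kernel, show cyc2.symm 1 = 1 by decide +kernel,
        show cyc2.symm 2 = 2 by decide +kernel, show cyc2.symm 3 = 5 by decide +kernel,
        show cyc2.symm 4 = 3 by decide +kernel, show cyc2.symm 5 = 4 by decide +kernel])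
    rw [← F.vec_zero] at hz
    have hs0 : s = none := by simpa [e2] using congrFun (F.vec_inj hz) 0
    have ht0 : t = none := by simpa [e2] using congrFun (F.vec_inj hz) 3
    rw [e1, hs0] at n1
    refine ⟨hs0, ht0, ?_, n1⟩
    have := hadd _ _ hc n1
    convert this using 2
    funext i
    have hn : ∀ o : Option (ZMod 3), oadd o none = o ∧ oadd o o = none := by decide
    fin_cases i <;> simp [(hn _).1, (hn _).2]
  have hone : ∀ c : Coord, F.vec c ∈ M → ∀ l, 3 ≤ (l : Fin 6).val → (∀ i : Fin 6, 3 ≤ i.val → c i = none) →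
      (c = fun _ => none) ∨ ∃ (φ : ZMod 3) (i : Fin 6), i.val < 3 ∧ c = e3 φ 0 i := by
    intro c hc l _ h0
    have e : c = ![c 0, c 1, c 2, none, none, none] := by
      funext i; fin_cases i <;> simp [h0]
    rcases triple_shape_one _ _ _ (htri c hc).1 (e ▸ heven c hc) with ⟨p0, p1, p2⟩ | ⟨φ, i, hi, h⟩
    · left; rw [e, p0, p1, p2]; funext i; fin_cases i <;> rfl
    · right; exact ⟨φ, i, hi, e.trans (funext h)⟩
  have htwo : ∀ c : Coord, F.vec c ∈ M → (∀ i : Fin 6, i.val < 3 → c i = none) →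
      (c = fun _ => none) ∨ ∃ (φ : ZMod 3) (i : Fin 6), 3 ≤ i.val ∧ c = e3 0 φ i := by
    intro c hc h0
    have e : c = ![none, none, none, c 3, c 4, c 5] := by
      funext i; fin_cases i <;> simp [h0]
    rcases triple_shape_two _ _ _ (htri c hc).2.1 (e ▸ heven c hc) with ⟨p0, p1, p2⟩ | ⟨φ, i, hi, h⟩
    · left; rw [e, p0, p1, p2]; funext i; fin_cases i <;> rfl
    · right; exact ⟨φ, i, hi, e.trans (funext h)⟩
  -- each part is non-zero
  have hsplit : ∀ c : Coord, c = fun i => oadd (![c 0, c 1, c 2, none, none, none] i)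
      (![none, none, none, c 3, c 4, c 5] i) := fun c => by
    have hn : ∀ o : Option (ZMod 3), oadd o none = o ∧ oadd none o = o := by decide
    funext i; fin_cases i <;> simp [(hn _).1, (hn _).2]
  have hrot1 : ∀ φ i, i.val < 3 → F.vec (e3 φ 0 i) ∈ M → ∀ j : Fin 6, j.val < 3 → F.vec (e3 φ 0 j) ∈ M := by
    intro φ i hi h j hj
    have h1 : F.vec (e3 φ 0 (cyc1 i)) ∈ M := funext (e3_cyc φ 0 i).1 ▸ hra _ h
    have h2 : F.vec (e3 φ 0 (cyc1 (cyc1 i))) ∈ M := funext (e3_cyc φ 0 (cyc1 i)).1 ▸ hra _ h1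
    rcases (cyc_orbit i j).1 hi hj with rfl | rfl | rfl <;> assumption
  have hrot2 : ∀ φ i, 3 ≤ i.val → F.vec (e3 0 φ i) ∈ M → ∀ j : Fin 6, 3 ≤ j.val → F.vec (e3 0 φ j) ∈ M := by
    intro φ i hi h j hj
    have h1 : F.vec (e3 0 φ (cyc2 i)) ∈ M := funext (e3_cyc 0 φ i).2.1 ▸ hrb _ h
    have h2 : F.vec (e3 0 φ (cyc2 (cyc2 i))) ∈ M := funext (e3_cyc 0 φ (cyc2 i)).2.1 ▸ hrb _ h1
    rcases (cyc_orbit i j).2 hi hj with rfl | rfl | rfl <;> assumption
  have hu1 : ∀ φ φ' i i', i.val < 3 → i'.val < 3 → F.vec (e3 φ 0 i) ∈ M → F.vec (e3 φ' 0 i') ∈ M → φ = φ' := by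
    intro φ φ' i i' hi hi' h h'
    refine phase_unique_one φ φ' i i' hi hi' fun k => heven _ (hadd _ _ h (hrot1 φ' i' hi' h' _ ?_))
    exact (by decide +kernel : ∀ (k : Fin 3) (i : Fin 6), i.val < 3 → ((cyc1 ^ k.val) i).val < 3) k i' hi'
  have hu2 : ∀ φ φ' i i', 3 ≤ i.val → 3 ≤ i'.val → F.vec (e3 0 φ i) ∈ M → F.vec (e3 0 φ' i') ∈ M → φ = φ' := by
    intro φ φ' i i' hi hi' h h'
    refine phase_unique_two φ φ' i i' hi hi' fun k => heven _ (hadd _ _ h (hrot2 φ' i' hi' h' _ ?_))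
    exact (by decide +kernel : ∀ (k : Fin 3) (i : Fin 6), 3 ≤ i.val → 3 ≤ ((cyc2 ^ k.val) i).val) k i' hi'
  -- at most four possibilities for each part, all realised
  obtain ⟨φa, hφa⟩ : ∃ φ : ZMod 3, ∀ c : Coord, F.vec c ∈ M → (∀ i : Fin 6, 3 ≤ i.val → c i = none) →
      (c = fun _ => none) ∨ ∃ i : Fin 6, i.val < 3 ∧ c = e3 φ 0 i := by
    by_cases h : ∃ φ i, (i : Fin 6).val < 3 ∧ F.vec (e3 φ 0 i) ∈ M
    · obtain ⟨φ, i, hi, hm⟩ := h
      refine ⟨φ, fun c hc h0 => ?_⟩
      rcases hone c hc 3 le_rfl h0 with hz | ⟨φ', j, hj, rfl⟩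
      · exact Or.inl hz
      · exact Or.inr ⟨j, hj, by rw [hu1 φ φ' i j hi hj hm hc]⟩
    · refine ⟨0, fun c hc h0 => ?_⟩
      rcases hone c hc 3 le_rfl h0 with hz | ⟨φ', j, hj, rfl⟩
      · exact Or.inl hz
      · exact absurd ⟨φ', j, hj, hc⟩ h
  obtain ⟨φc, hφc⟩ : ∃ φ : ZMod 3, ∀ c : Coord, F.vec c ∈ M → (∀ i : Fin 6, i.val < 3 → c i = none) →
      (c = fun _ => none) ∨ ∃ i : Fin 6, 3 ≤ i.val ∧ c = e3 0 φ i := by
    by_cases h : ∃ φ i, 3 ≤ (i : Fin 6).val ∧ F.vec (e3 0 φ i) ∈ M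
    · obtain ⟨φ, i, hi, hm⟩ := h
      refine ⟨φ, fun c hc h0 => ?_⟩
      rcases htwo c hc h0 with hz | ⟨φ', j, hj, rfl⟩
      · exact Or.inl hz
      · exact Or.inr ⟨j, hj, by rw [hu2 φ φ' i j hi hj hm hc]⟩
    · refine ⟨0, fun c hc h0 => ?_⟩
      rcases htwo c hc h0 with hz | ⟨φ', j, hj, rfl⟩
      · exact Or.inl hz
      · exact absurd ⟨φ', j, hj, hc⟩ h
  have hlow : ∀ (c : Coord) (i : Fin 6), 3 ≤ i.val → ![c 0, c 1, c 2, none, none, none] i = none := by
    intro c i hi; fin_cases i <;> simp at hi ⊢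
  have hhigh : ∀ (c : Coord) (i : Fin 6), i.val < 3 → ![none, none, none, c 3, c 4, c 5] i = none := by
    intro c i hi; fin_cases i <;> simp at hi ⊢
  have hdec : ∀ c : Coord, F.vec c ∈ M → ∃ c1 c2 : Coord, (F.vec c1 ∈ M ∧ F.vec c2 ∈ M) ∧
      ((c1 = fun _ => none) ∨ ∃ i : Fin 6, i.val < 3 ∧ c1 = e3 φa φc i) ∧
      ((c2 = fun _ => none) ∨ ∃ i : Fin 6, 3 ≤ i.val ∧ c2 = e3 φa φc i) ∧
      c = fun i => oadd (c1 i) (c2 i) := by
    intro c hc
    obtain ⟨-, -, h1, h2⟩ := htri c hc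
    refine ⟨_, _, ⟨h1, h2⟩, ?_, ?_, hsplit c⟩
    · rcases hφa _ h1 (hlow c) with h | ⟨i, hi, h⟩
      · exact Or.inl h
      · exact Or.inr ⟨i, hi, h.trans (funext (((e3_cyc φa 0 i).2.2 φa φc).1 hi))⟩
    · rcases hφc _ h2 (hhigh c) with h | ⟨i, hi, h⟩
      · exact Or.inl h
      · exact Or.inr ⟨i, hi, h.trans (funext (((e3_cyc 0 φc i).2.2 φa φc).2 hi))⟩
  -- count
  have hboth : (∃ i : Fin 6, i.val < 3 ∧ F.vec (e3 φa φc i) ∈ M) ∧
      ∃ i : Fin 6, 3 ≤ i.val ∧ F.vec (e3 φa φc i) ∈ M := by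
    have small : ∀ (Pr : Fin 6 → Prop) [DecidablePred Pr], (Finset.univ.filter Pr).card = 3 →
        (∀ m ∈ M, m = 0 ∨ ∃ i, Pr i ∧ m = F.vec (e3 φa φc i)) → False := by
      intro Pr _ hPr h
      have h' := Nat.card_le_card_of_injective
        (fun m : M => (if hm : m.1 = 0 then none else some ⟨((h m m.2).resolve_left hm).choose,
          ((h m m.2).resolve_left hm).choose_spec.1⟩ : Option {i // Pr i})) fun m m' e => by
        by_cases hm : m.1 = 0 <;> by_cases hm' : m'.1 = 0 <;> simp only [hm, hm', dif_pos, dif_neg,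
          not_false_iff, reduceCtorEq, Option.some.injEq, Subtype.mk.injEq] at e
        · exact Subtype.ext (hm.trans hm'.symm)
        · apply Subtype.ext
          rw [((h m m.2).resolve_left hm).choose_spec.2, ((h m' m'.2).resolve_left hm').choose_spec.2, e]
      rw [hcard, Nat.card_eq_fintype_card, Fintype.card_option, Fintype.card_subtype, hPr] at h'
      omega
    constructor
    · by_contra hn
      refine small (fun i => 3 ≤ i.val) (by decide) fun m hm => ?_
      obtain ⟨c, rfl⟩ := F.exists_coord m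
      obtain ⟨c1, c2, ⟨h1, h2⟩, r1, r2, hc⟩ := hdec c hm
      rcases r1 with rfl | ⟨i, hi, rfl⟩
      · rw [hc, ← F.vec_add, F.vec_zero, zero_add]
        rcases r2 with rfl | ⟨j, hj, rfl⟩
        exacts [Or.inl F.vec_zero, Or.inr ⟨j, hj, rfl⟩]
      · exact absurd ⟨i, hi, h1⟩ hn
    · by_contra hn
      refine small (fun i => i.val < 3) (by decide) fun m hm => ?_
      obtain ⟨c, rfl⟩ := F.exists_coord m
      obtain ⟨c1, c2, ⟨h1, h2⟩, r1, r2, hc⟩ := hdec c hm
      rcases r2 with rfl | ⟨i, hi, rfl⟩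
      · rw [hc, ← F.vec_add, F.vec_zero, add_zero]
        rcases r1 with rfl | ⟨j, hj, rfl⟩
        exacts [Or.inl F.vec_zero, Or.inr ⟨j, hj, rfl⟩]
      · exact absurd ⟨i, hi, h2⟩ hn
  obtain ⟨⟨i1, hi1, hm1⟩, ⟨i2, hi2, hm2⟩⟩ := hboth
  refine ⟨φa, φc, fun i => ?_, fun m hm hU => ?_⟩
  · by_cases hi : i.val < 3
    · rw [← funext (((e3_cyc φa 0 i).2.2 φa φc).1 hi)]
      refine hrot1 φa i1 hi1 ?_ i hi
      rwa [funext (((e3_cyc φa 0 i1).2.2 φa φc).1 hi1)]
    · have hi' : 3 ≤ i.val := not_lt.mp hi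
      rw [← funext (((e3_cyc 0 φc i).2.2 φa φc).2 hi')]
      refine hrot2 φc i2 hi2 ?_ i hi'
      rwa [funext (((e3_cyc 0 φc i2).2.2 φa φc).2 hi2)]
  · set c := (F.exists_coord m).choose with hc
    have hcv : F.vec c = m := (F.exists_coord m).choose_spec
    obtain ⟨c1, c2, -, r1, r2, he⟩ := hdec c (hcv.symm ▸ hm)
    rw [← hcv, he, ← F.vec_add]
    rcases r1 with rfl | ⟨i, hi, rfl⟩ <;> rcases r2 with rfl | ⟨j, hj, rfl⟩
    · exfalso
      rw [he] at hU
      revert hU
      decide +kernel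
    · exact ⟨j, by rw [F.vec_zero, zero_add]⟩
    · exact ⟨i, by rw [F.vec_zero, add_zero]⟩
    · exfalso
      have hij : i ≠ j := fun h => by subst h; omega
      obtain ⟨h1, h2⟩ := e3_same φa φc i j hij
      have hne : ¬ (i.val < 3 ↔ j.val < 3) := fun h => by have := h.mp hi; omega
      have h4 := h2.resolve_left fun h => hne (h1.mp h)
      rw [he] at hU
      rcases hU with h | ⟨h, -⟩ <;> omega

/-- no complement -/
theorem no_complement (ι : alternatingGroup (Fin 6) →* W) (hι : Function.Injective ι)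
    (hιS : ∀ p, ι p ∈ MulAction.stabilizer W (F.vec ones))
    (M : AddSubgroup V) (hcard : Nat.card M = 16) (hq : ∀ m ∈ M, D.q m = 0)
    (hinv : ∀ p, ∀ m ∈ M, ι p • m ∈ M)
    (hfree : ∀ m ∈ M, ι alt1 • m = m → ι alt2 • m = m → m = 0) : False := by
  classical
  obtain ⟨ρ, hρ⟩ := F.exists_rho
  have hρi : Function.Injective ρ := (injective_iff_map_eq_one ρ).mpr fun p hp => by
    have h1 := (hρ p).2
    rw [hp] at h1
    exact Subtype.ext (F.perm_unique h1 F.isMono_one).1
  obtain ⟨w, -, hw1, hw2⟩ := F.exists_conj_nine ι ρ hι hρi hιS (F.rho_fix_ones hρ)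
  -- move everything
  let ι' := (MulAut.conj w).toMonoidHom.comp ι
  have hι'e : ∀ p, ι' p = w * ι p * w⁻¹ := fun p => rfl
  let M' : AddSubgroup V := M.map (DistribSMul.toAddMonoidHom V w)
  have hinv' : ∀ p, ∀ m ∈ M', ι' p • m ∈ M' := by
    rintro p _ ⟨m, hm, rfl⟩
    refine ⟨ι p • m, hinv p m hm, ?_⟩
    show w • ι p • m = (w * ι p * w⁻¹) • w • m
    rw [mul_smul, mul_smul, inv_smul_smul]
  obtain ⟨pa, -, hpa⟩ := hw2 alt1 alt1_mem
  obtain ⟨pb, -, hpb⟩ := hw2 alt2 alt2_mem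
  have hρc : ∀ p, ρ p * D.h = D.h * ρ p := fun p => D.central _ (D.P_le (hρ p).1)
  have hfree' : ∀ m ∈ M', ρ alt1 • m = m → ρ alt2 • m = m → m = 0 := by
    rintro _ ⟨m, hm, rfl⟩ h1 h2
    have hall : ∀ p ∈ nine, ρ p • (w • m) = w • m := by
      intro p hp
      obtain ⟨i, j, rfl⟩ := nine_le hp
      rw [map_mul, map_pow, map_pow, mul_smul]
      have hstab : ∀ (g : W), g • (w • m) = w • m → ∀ n : ℕ, (g ^ n) • (w • m) = w • m := fun g hg n =>
        (MulAction.mem_stabilizer_iff).mp (pow_mem ((MulAction.mem_stabilizer_iff).mpr hg) n)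
      rw [hstab _ h2 j, hstab _ h1 i]
    have h0 : ∀ p ∈ nine, ι p • m = m := by
      intro p hp
      obtain ⟨p', hp', e⟩ := hw1 p hp
      have := hall p' hp'
      rw [← e, mul_smul, mul_smul, inv_smul_smul] at this
      exact (smul_left_cancel_iff w).mp this
    show w • m = 0
    rw [hfree m hm (h0 _ alt1_mem) (h0 _ alt2_mem), smul_zero]
  obtain ⟨φa, φc, hel, honly⟩ := F.no_complement_std M'
    (by rw [show Nat.card M' = Nat.card M from (Nat.card_congr (M.equivMapOfInjective _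
      (MulAction.injective w)).toEquiv).symm, hcard])
    (by rintro _ ⟨m, hm, rfl⟩; show D.q (w • m) = 0; rw [D.q_smul]; exact hq m hm)
    (hρc alt1) (hρc alt2) (hρ alt1).2 (hρ alt2).2
    (fun m hm => by rw [hpa, ← hι'e]; exact hinv' _ m hm)
    (fun m hm => by rw [hpb, ← hι'e]; exact hinv' _ m hm) hfree'
  set el : Fin 6 → V := fun i => F.vec (e3 φa φc i) with hel'
  have helinj : Function.Injective el := fun i j h => e3_inj φa φc i j (F.vec_inj h)
  have helU : ∀ i, IsU (e3 φa φc i) := fun i => Or.inl (e3_wt φa φc i)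
  have himg : ∀ p i, ∃ j, ι' p • el i = el j := by
    intro p i
    refine honly _ (hinv' p _ (hel i)) ?_
    exact F.isU_smul (helU i) (w := ι' p) (F.exists_coord _).choose_spec.symm
  choose σ hσ using himg
  have hσi : ∀ p, Function.Injective (σ p) := fun p i j h => helinj (MulAction.injective (ι' p) (by
    show ι' p • el i = ι' p • el j
    rw [hσ, hσ, h]))
  let θ : alternatingGroup (Fin 6) →* Equiv.Perm (Fin 6) :=
    MonoidHom.mk' (fun p => Equiv.ofBijective (σ p) (Finite.injective_iff_bijective.mp (hσi p)))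
      fun p q => Equiv.ext fun i => helinj (by
        show el (σ (p * q) i) = el (σ p (σ q i))
        rw [← hσ, ← hσ, ← hσ, map_mul, mul_smul])
  -- the two triples are blocks
  have hblock : ∀ p (i j : Fin 6), (i.val < 3 ↔ j.val < 3) → ((σ p i).val < 3 ↔ (σ p j).val < 3) := by
    intro p i j hij
    rcases eq_or_ne i j with rfl | hne
    · rfl
    have hne' : σ p i ≠ σ p j := fun h => hne (hσi p h)
    have e : ι' p • F.vec (fun l => oadd (e3 φa φc i l) (e3 φa φc j l)) =
        F.vec (fun l => oadd (e3 φa φc (σ p i) l) (e3 φa φc (σ p j) l)) := by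
      rw [← F.vec_add, ← F.vec_add, smul_add]
      exact congrArg₂ _ (hσ p i) (hσ p j)
    have h2 := F.isU_smul (Or.inl ((e3_same φa φc i j hne).1.mpr hij)) e
    refine (e3_same φa φc _ _ hne').1.mp (h2.resolve_right fun h => ?_)
    rcases (e3_same φa φc _ _ hne').2 with h4 | h4 <;> omega
  haveI : IsSimpleGroup (alternatingGroup (Fin 6)) := alternatingGroup.isSimpleGroup (by simp)
  have hker : θ.ker = ⊥ := by
    refine (IsSimpleGroup.eq_bot_or_eq_top_of_normal θ.ker inferInstance).resolve_right fun h => ?_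
    have h1 : θ pa = 1 := MonoidHom.mem_ker.mp (h ▸ Subgroup.mem_top pa)
    have h2 : σ pa 0 = 0 := congrArg (fun s : Equiv.Perm (Fin 6) => s 0) h1
    have h3 : ρ alt1 • el 0 = el 0 := by rw [hpa, ← hι'e, hσ, h2]
    rw [F.smul_vec_comm (hρc alt1) (hρ alt1).2] at h3
    have h4 := congrFun (F.vec_inj h3) 1
    have key : ∀ a c : ZMod 3, move alt1.1 (fun _ => 0) (e3 a c 0) 1 ≠ e3 a c 0 1 := by decide +kernel
    exact key φa φc h4
  have hinjθ : Function.Injective θ := (MonoidHom.ker_eq_bot_iff θ).mp hker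
  have hb := block_perms
  have hle := Nat.card_le_card_of_injective
    (fun p => (⟨θ p, hblock p⟩ : {s : Equiv.Perm (Fin 6) //
      ∀ i j : Fin 6, (i.val < 3 ↔ j.val < 3) → ((s i).val < 3 ↔ (s j).val < 3)}))
    fun p q h => hinjθ (congrArg Subtype.val h)
  rw [nat_card_alternatingGroup, Nat.card_eq_fintype_card (α := Fin 6), Fintype.card_fin,
    Nat.card_eq_fintype_card, Fintype.card_subtype, hb] at hle
  norm_num [Nat.factorial] at hle

end NFrame

end Cfsg.Agent.Lib.LargeFischer13
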