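import Cfsg.Agent.Lib.LargeFischer13.Setting
import Cfsg.Agent.Lib.LargeFischer13.Complement

/-!
The centraliser in `C(z)` of a subgroup `X` of order three with `XQ` normal: it is perfect, with centre
cyclic of order six.
-/

set_option autoImplicit false
set_option linter.style.haveILetI false
set_option linter.unusedSectionVars false

namespace Cfsg.Agent.Lib.LargeFischer13

open Cfsg.Agent.Lib.LargeExtra.TwoConjugate
open Cfsg.Agent.Lib.LargeExtraspecial.Basic
open Model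
open scoped commutatorElement

universe u

variable {G : Type u} [Group G] [Finite G] {z : G} {Q : Subgroup (Cz z)} [Q.Normal]

/-- An element of order three above the generator of the normal subgroup of order three. -/
structure Three (B : Bridge z Q) (x : Cz z) : Prop where
  map : (QuotientGroup.mk x : (Cz z) ⧸ Q) = B.D.h
  cube : x * x * x = 1
  norm : (Subgroup.zpowers x ⊔ Q).Normal

theorem exists_second (hF : Cfsg.IsOfLargeFischerTypeAt z Q) :
    ∃ g : G, ∃ y : Q, ((y : Cz z) : G) = g * z * g⁻¹ ∧ g * z * g⁻¹ ≠ z := by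
  obtain ⟨g, ⟨hq, hmem⟩, hne⟩ := hF.1.2.2.2.2
  exact ⟨g, ⟨_, hmem⟩, rfl, hne⟩

theorem card_Q (hF : Cfsg.IsOfLargeFischerTypeAt z Q) : Nat.card Q = 2 ^ 13 := hF.1.2.2.2.1

theorem mem_Ebar {g : G} {c : Cz z} (hc : (c : G) ∈ (QG Q).map (MulAut.conj g).toMonoidHom) :
    (QuotientGroup.mk c : (Cz z) ⧸ Q) ∈ Ebar Q g :=
  ⟨c, ⟨hc, c.2⟩, rfl⟩

theorem exists_three (B : Bridge z Q) (hF : Cfsg.IsOfLargeFischerTypeAt z Q) (X : Subgroup (Cz z))
    (hX : Nat.card X = 3) (hXQ : (X ⊔ Q).Normal) : ∃ x, X = Subgroup.zpowers x ∧ Three B x := by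
  haveI : Fact (Nat.Prime 3) := ⟨Nat.prime_three⟩
  have hbot : ∀ a ∈ X, a ∈ Q → a = 1 := by
    intro a ha haQ
    have h1 : orderOf a ∣ 3 := hX ▸ Subgroup.orderOf_dvd_natCard X ha
    have h2 : orderOf a ∣ 2 ^ 13 := card_Q hF ▸ Subgroup.orderOf_dvd_natCard Q haQ
    exact orderOf_eq_one_iff.mp (Nat.dvd_one.mp ((by norm_num : Nat.gcd 3 (2 ^ 13) = 1) ▸ Nat.dvd_gcd h1 h2))
  set Xb := X.map (QuotientGroup.mk' Q) with hXb
  have hXbn : Xb.Normal := by
    have h := Subgroup.Normal.map hXQ (QuotientGroup.mk' Q) (QuotientGroup.mk'_surjective Q)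
    rwa [Subgroup.map_sup, (Subgroup.map_eq_bot_iff Q).mpr (by rw [QuotientGroup.ker_mk']), sup_bot_eq] at h
  have hinj : ∀ a ∈ X, ∀ b ∈ X, (QuotientGroup.mk a : (Cz z) ⧸ Q) = QuotientGroup.mk b → a = b :=
    fun a ha b hb h => inv_mul_eq_one.mp (hbot _ (mul_mem (inv_mem ha) hb) (QuotientGroup.eq.mp h))
  have hXb3 : Nat.card Xb = 3 := by
    rw [← hX]
    refine (Nat.card_congr (Equiv.ofBijective (fun a : X =>
      (⟨QuotientGroup.mk a.1, a.1, a.2, rfl⟩ : Xb)) ⟨fun a b h => Subtype.ext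
        (hinj a a.2 b b.2 (congrArg Subtype.val h)), ?_⟩)).symm
    rintro ⟨_, a, ha, rfl⟩
    exact ⟨⟨a, ha⟩, rfl⟩
  have hXbM : Xb ≤ B.D.Mb := fun a ha => B.D.mem_of_odd (by
    have h := Subgroup.orderOf_dvd_natCard Xb ha
    rw [hXb3] at h
    rcases (Nat.dvd_prime Nat.prime_three).mp h with e | e <;> rw [e] <;> decide)
  have hh3 : Nat.card (Subgroup.zpowers B.D.h) = 3 := by rw [Nat.card_zpowers, B.D.h_order]
  set U := Xb ⊔ Subgroup.zpowers B.D.h with hU
  have hUM : U ≤ B.D.Mb := sup_le hXbM (Subgroup.zpowers_le.mpr B.D.h_mem)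
  have hUcases := B.simple U le_sup_right hUM fun m hm a ha => by
    have hle : U.map (MulAut.conj m).toMonoidHom ≤ U := by
      rw [hU, Subgroup.map_sup]
      refine sup_le_sup ?_ ?_
      · rintro _ ⟨b, hb, rfl⟩; exact hXbn.conj_mem b hb m
      · rintro _ ⟨b, hb, rfl⟩
        show m * b * m⁻¹ ∈ _
        rw [B.D.commute_zpowers hm hb, mul_inv_cancel_right]
        exact hb
    exact hle ⟨a, ha, rfl⟩
  have hXh : Xb = Subgroup.zpowers B.D.h := by
    rcases hUcases with h | h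
    · exact Subgroup.eq_of_le_of_card_ge (h ▸ le_sup_left) (by rw [hh3, hXb3])
    · exfalso
      -- then the index-two subgroup would be commutative
      haveI : IsCyclic Xb := isCyclic_of_prime_card hXb3
      have hcomm : ∀ a ∈ Xb, ∀ b ∈ Xb, a * b = b * a := fun a ha b hb =>
        congrArg Subtype.val ((IsCyclic.commutative (α := Xb)).is_comm.comm (⟨a, ha⟩ : Xb) ⟨b, hb⟩)
      have hc1 : Xb ≤ Subgroup.centralizer (U : Set _) := fun a ha b hb => by
        have hle : U ≤ Subgroup.centralizer ({a} : Set _) := sup_le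
          (fun c hc => Subgroup.mem_centralizer_singleton_iff.mpr (hcomm c hc a ha))
          (Subgroup.zpowers_le.mpr (Subgroup.mem_centralizer_singleton_iff.mpr (B.D.central a (hXbM ha)).symm))
        exact Subgroup.mem_centralizer_singleton_iff.mp (hle hb)
      have hc2 : Subgroup.zpowers B.D.h ≤ Subgroup.centralizer (U : Set _) :=
        Subgroup.zpowers_le.mpr fun b hb => B.D.central b (hUM hb)
      obtain ⟨p, hp, a, ha, hpa⟩ := B.D.moves
      apply hpa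
      have hpU : p ∈ U := h.symm ▸ B.D.P_le hp
      have haU : a ∈ U := h.symm ▸ B.D.A_le_Mb ha
      rw [show p * a * p⁻¹ * a⁻¹ = 1 by
        rw [((sup_le hc1 hc2) hpU a haU).symm]; group]
      exact one_mem _
  obtain ⟨x, hxX, hx⟩ : B.D.h ∈ Xb := hXh ▸ Subgroup.mem_zpowers B.D.h
  have hx1 : x ≠ 1 := fun h => B.D.h_ne (by rw [← hx, h, map_one])
  have hxo : orderOf x = 3 := by
    have h := Subgroup.orderOf_dvd_natCard X hxX
    rw [hX] at h
    exact ((Nat.dvd_prime Nat.prime_three).mp h).resolve_left fun e => hx1 (orderOf_eq_one_iff.mp e)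
  have hXx : X = Subgroup.zpowers x :=
    (Subgroup.eq_of_le_of_card_ge (Subgroup.zpowers_le.mpr hxX) (by rw [Nat.card_zpowers, hxo, hX])).symm
  refine ⟨x, hXx, hx, ?_, hXx ▸ hXQ⟩
  rw [← sq, ← pow_succ, show 2 + 1 = orderOf x from hxo.symm, pow_orderOf_eq_one]

namespace Three

variable {B : Bridge z Q} {x : Cz z} (hx : Three B x)
include hx

theorem order : orderOf x = 3 :=
  haveI : Fact (Nat.Prime 3) := ⟨Nat.prime_three⟩
  orderOf_eq_prime (by rw [pow_succ, sq, hx.cube]) fun h => B.D.h_ne (by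
    rw [← hx.map, h, QuotientGroup.mk_one])

theorem pow_inj {a : Cz z} (ha : a ∈ Subgroup.zpowers x)
    (h : (QuotientGroup.mk a : (Cz z) ⧸ Q) = B.D.h) : a = x := by
  obtain ⟨k, hk⟩ := ha
  have hk' : x ^ k = a := hk
  rw [← zpow_mod_orderOf, hx.order] at hk'
  have hc : k % 3 = 0 ∨ k % 3 = 1 ∨ k % 3 = 2 := by omega
  rcases hc with e | e | e <;> simp only [Nat.cast_ofNat, e] at hk' <;> subst hk'
  · rw [zpow_zero, QuotientGroup.mk_one] at h
    exact absurd h.symm B.D.h_ne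
  · exact zpow_one x
  · rw [zpow_two, QuotientGroup.mk_mul, hx.map] at h
    exact absurd (mul_eq_left.mp h) B.D.h_ne

theorem fixed_Q (F : NFrame B.D) {q : Q} (hq : (q : Cz z) * x = x * q) :
    q = 1 ∨ ((q : Cz z) : G) = z := by
  apply (B.π_zero q).mp
  apply F.fixed_zero
  rw [← hx.map]
  refine B.π_conj x q q ?_
  rw [← hq, mul_inv_cancel_right]

theorem exists_lift (hF : Cfsg.IsOfLargeFischerTypeAt z Q) {m : (Cz z) ⧸ Q} (hm : m ∈ B.D.Mb) :
    ∃ c : Cz z, c * x = x * c ∧ QuotientGroup.mk c = m := by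
  haveI : Fact (Nat.Prime 3) := ⟨Nat.prime_three⟩
  set N := Subgroup.zpowers x ⊔ Q with hN
  haveI : N.Normal := hx.norm
  have hxN : x ∈ N := Subgroup.mem_sup_left (Subgroup.mem_zpowers x)
  have hNimg : ∀ s ∈ N, (QuotientGroup.mk s : (Cz z) ⧸ Q) ∈ Subgroup.zpowers B.D.h := by
    intro s hs
    have hle : N ≤ (Subgroup.zpowers B.D.h).comap (QuotientGroup.mk' Q) :=
      sup_le (Subgroup.zpowers_le.mpr (show (QuotientGroup.mk x : (Cz z) ⧸ Q) ∈ Subgroup.zpowers B.D.h by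
        rw [hx.map]; exact Subgroup.mem_zpowers _)) (fun q hq => by
        show (QuotientGroup.mk q : (Cz z) ⧸ Q) ∈ Subgroup.zpowers B.D.h
        rw [(QuotientGroup.eq_one_iff q).mpr hq]; exact one_mem _)
    exact hle hs
  have hcN : Nat.card N = 3 * 2 ^ 13 := by
    let f := (QuotientGroup.mk' Q).comp N.subtype
    have hr : f.range = Subgroup.zpowers B.D.h := by
      refine le_antisymm ?_ (Subgroup.zpowers_le.mpr ⟨⟨x, hxN⟩, hx.map⟩)
      rintro _ ⟨s, rfl⟩
      exact hNimg s s.2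
    have h2 := Subgroup.card_eq_card_quotient_mul_card_subgroup f.ker
    rw [Nat.card_congr (QuotientGroup.quotientKerEquivRange f).toEquiv, hr, Nat.card_zpowers, B.D.h_order] at h2
    rw [h2, ← card_Q hF]
    congr 1
    exact Nat.card_congr
      { toFun := fun s => ⟨s.1.1, (QuotientGroup.eq_one_iff (N := Q) _).mp s.2⟩
        invFun := fun q => ⟨⟨q.1, Subgroup.mem_sup_right q.2⟩, (QuotientGroup.eq_one_iff (N := Q) _).mpr q.2⟩
        left_inv := fun _ => rfl
        right_inv := fun _ => rfl }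
  have hle : Subgroup.zpowers x ≤ N := le_sup_left
  let X' : Subgroup N := (Subgroup.zpowers x).subgroupOf N
  have hc' : Nat.card X' = 3 := by
    rw [Nat.card_congr (Subgroup.subgroupOfEquivOfLe hle).toEquiv, Nat.card_zpowers, hx.order]
  have hp' : IsPGroup 3 X' := IsPGroup.of_card (n := 1) (by rw [hc', pow_one])
  let Syl : Sylow 3 N := hp'.toSylow (by
    have h := X'.card_mul_index
    rw [hc', hcN] at h
    rw [show X'.index = 2 ^ 13 by omega]
    norm_num)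
  have hsup := Sylow.normalizer_sup_eq_top Syl
  have hmap : (Syl : Subgroup N).map N.subtype = Subgroup.zpowers x :=
    Subgroup.map_subgroupOf_eq_of_le hle
  rw [hmap] at hsup
  obtain ⟨c, rfl⟩ := QuotientGroup.mk_surjective m
  obtain ⟨n, hn, s, hs, rfl⟩ := Subgroup.mem_sup_of_normal_right.mp
    (hsup ▸ Subgroup.mem_top c : c ∈ Subgroup.normalizer (Subgroup.zpowers x : Set (Cz z)) ⊔ N)
  obtain ⟨k, hk⟩ := hNimg s hs
  have hk' : B.D.h ^ k = QuotientGroup.mk s := hk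
  have hnM : (QuotientGroup.mk n : (Cz z) ⧸ Q) ∈ B.D.Mb := by
    rw [QuotientGroup.mk_mul] at hm
    have h := mul_mem hm (inv_mem (hk' ▸ zpow_mem B.D.h_mem k : (QuotientGroup.mk s : (Cz z) ⧸ Q) ∈ B.D.Mb))
    rwa [mul_inv_cancel_right] at h
  have hnx : n * x * n⁻¹ = x := by
    refine hx.pow_inj ((Subgroup.mem_normalizer_iff.mp hn x).mp (Subgroup.mem_zpowers x)) ?_
    rw [QuotientGroup.mk_mul, QuotientGroup.mk_mul, QuotientGroup.mk_inv, hx.map, B.D.central _ hnM,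
      mul_inv_cancel_right]
  refine ⟨n * x ^ k, ?_, ?_⟩
  · exact ((Commute.mul_left (mul_inv_eq_iff_eq_mul.mp hnx : Commute n x)
      ((Commute.refl x).zpow_left k)) : Commute _ x).eq
  · rw [QuotientGroup.mk_mul, QuotientGroup.mk_mul, QuotientGroup.mk_zpow, hx.map, hk']

theorem mk_mem (F : NFrame B.D) {v : B.V} {Wn : Subgroup ((Cz z) ⧸ Q)} (hB : Big B.D v Wn) {c : Cz z}
    (hc : c * x = x * c) : (QuotientGroup.mk c : (Cz z) ⧸ Q) ∈ B.D.Mb := by
  refine F.mem_Mb_of_comm hB ?_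
  rw [← hx.map, ← QuotientGroup.mk_mul, hc, QuotientGroup.mk_mul]

/-- a conjugate of `z` over `ones` whose product with its two images under `x` is trivial -/
theorem exists_triple (hF : Cfsg.IsOfLargeFischerTypeAt z Q) (F : NFrame B.D) :
    ∃ g : G, ∃ y : Q, ((y : Cz z) : G) = g * z * g⁻¹ ∧ g * z * g⁻¹ ≠ z ∧ B.π y = F.vec ones ∧
      (y : Cz z) * (x * y * x⁻¹) * (x * (x * y * x⁻¹) * x⁻¹) = 1 := by
  obtain ⟨g0, y0, hy0, hne0⟩ := exists_second hF
  obtain ⟨c0, hc0⟩ := F.exists_coord (B.π y0)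
  obtain ⟨hsv, hsq⟩ := (F.sing_iff ones).mpr (Or.inr (Or.inr (by unfold ones; decide)))
  obtain ⟨Y, hYπ, hY2, hY1, hYz, -⟩ := B.exists_involution hsv hsq
  have hB0 := B.big hF hy0 hne0
  rw [← hc0] at hB0
  obtain ⟨w, hw⟩ := F.transR c0 ones (F.isR_of_big hB0) isR_ones
  obtain ⟨c, hc⟩ := B.conj_of_smul (s := y0) hY2 (hYπ ▸ hsv) (w := w) (by rw [hYπ, ← hc0]; exact hw)
  have hYg : ((Y : Cz z) : G) = ((c : G) * g0) * z * ((c : G) * g0)⁻¹ := by
    rw [← congrArg Subtype.val hc]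
    show (c : G) * ((y0 : Cz z) : G) * (c : G)⁻¹ = _
    rw [hy0]; group
  -- the product maps to zero
  have hconj : ∀ t : Q, x * (t : Cz z) * x⁻¹ ∈ Q := fun t => (inferInstance : Q.Normal).conj_mem t t.2 x
  have hsmul : ∀ t : Q, B.π ⟨_, hconj t⟩ = B.D.h • B.π t := fun t => by
    rw [← hx.map]; exact (B.π_conj x t ⟨_, hconj t⟩ rfl).symm
  have hp0 : B.π (Y * ⟨_, hconj Y⟩ * ⟨_, hconj ⟨_, hconj Y⟩⟩) = 0 := by
    rw [B.π_mul, B.π_mul, hsmul ⟨_, hconj Y⟩, hsmul Y, hYπ, F.h_smul_vec, F.h_smul_vec, F.vec_add, F.vec_add]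
    rw [← F.vec_zero]
    congr 1
  rcases (B.π_zero _).mp hp0 with h | h
  · exact ⟨(c : G) * g0, Y, hYg, hYg ▸ hYz, hYπ, congrArg Subtype.val h⟩
  · obtain ⟨u, hu⟩ := B.exists_flip hY2 (hYπ ▸ hsv)
    have hu' : ((u : Cz z) : G) * ((Y : Cz z) : G) * ((u : Cz z) : G)⁻¹ = ((Y : Cz z) : G) * z := hu
    obtain ⟨s, -⟩ := exists_setting hF ⟨_, Y.2, hYg⟩ (hYg ▸ hYz)
    have hzz : z * z = 1 := s.es.sq
    have hcz : ∀ a : Cz z, (a : G) * z = z * a := fun a => Subgroup.mem_centralizer_singleton_iff.mp a.2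
    refine ⟨((u : Cz z) : G) * ((c : G) * g0), u * Y * u⁻¹, ?_, ?_, ?_, ?_⟩
    · show ((u : Cz z) : G) * ((Y : Cz z) : G) * ((u : Cz z) : G)⁻¹ = _
      rw [hYg]; group
    · intro e
      apply hY1
      have e2 : ((Y : Cz z) : G) * z = 1 * z := by
        rw [one_mul, ← hu', hYg]
        refine Eq.trans ?_ e
        group
      exact Subtype.ext (Subtype.ext (mul_right_cancel e2))
    · rw [B.π_mul, B.π_mul, B.π_inv, add_comm (B.π u), add_assoc, B.D.two, add_zero, hYπ]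
    · apply Subtype.ext
      set a := ((Y : Cz z) : G) with ha
      set xg := (x : G) with hxg
      show (((u : Cz z) : G) * a * ((u : Cz z) : G)⁻¹) *
          (xg * (((u : Cz z) : G) * a * ((u : Cz z) : G)⁻¹) * xg⁻¹) *
          (xg * (xg * (((u : Cz z) : G) * a * ((u : Cz z) : G)⁻¹) * xg⁻¹) * xg⁻¹) = 1
      rw [hu']
      have hcx : Commute xg z := hcz x
      have e1 : ∀ b : G, xg * (b * z) * xg⁻¹ = xg * b * xg⁻¹ * z := fun b => by
        calc xg * (b * z) * xg⁻¹ = xg * b * (z * xg⁻¹) := by group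
          _ = xg * b * (xg⁻¹ * z) := by rw [hcx.inv_left.eq]
          _ = _ := by group
      rw [e1, e1]
      have hp : a * (xg * a * xg⁻¹) * (xg * (xg * a * xg⁻¹) * xg⁻¹) = z := h
      have hc1 : Commute z (xg * a * xg⁻¹) := (hcz ⟨_, (x * (Y : Cz z) * x⁻¹).2⟩).symm
      have hc2 : Commute z (xg * (xg * a * xg⁻¹) * xg⁻¹) :=
        (hcz ⟨_, (x * (x * (Y : Cz z) * x⁻¹) * x⁻¹).2⟩).symm
      calc a * z * (xg * a * xg⁻¹ * z) * (xg * (xg * a * xg⁻¹) * xg⁻¹ * z)
          = a * (z * (xg * a * xg⁻¹)) * (z * (xg * (xg * a * xg⁻¹) * xg⁻¹)) * z := by group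
        _ = a * ((xg * a * xg⁻¹) * z) * ((xg * (xg * a * xg⁻¹) * xg⁻¹) * z) * z := by rw [hc1.eq, hc2.eq]
        _ = a * (xg * a * xg⁻¹) * (z * (xg * (xg * a * xg⁻¹) * xg⁻¹)) * (z * z) := by group
        _ = a * (xg * a * xg⁻¹) * ((xg * (xg * a * xg⁻¹) * xg⁻¹) * z) := by rw [hc2.eq, hzz, mul_one]
        _ = z * z := by rw [← mul_assoc, hp]
        _ = 1 := hzz

end Three

/-- The pair of conjugates `y`, `x y x⁻¹` over `ones` and `h • ones`. -/
structure Triple (B : Bridge z Q) (F : NFrame B.D) (x : Cz z) (g : G) (y : Q) : Prop where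
  three : Three B x
  eq : ((y : Cz z) : G) = g * z * g⁻¹
  ne : g * z * g⁻¹ ≠ z
  pi_ones : B.π y = F.vec Model.ones
  prod : (y : Cz z) * (x * y * x⁻¹) * (x * (x * y * x⁻¹) * x⁻¹) = 1

namespace Triple

variable {B : Bridge z Q} {F : NFrame B.D} {x : Cz z} {g : G} {y : Q} (T : Triple B F x g y)
variable (hF : Cfsg.IsOfLargeFischerTypeAt z Q)
include T hF

theorem image_second {h0 : x * (y : Cz z) * x⁻¹ ∈ Q} :
    B.π ⟨_, h0⟩ = F.vec (shift (fun _ => 1) ones) := by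
  rw [← F.h_smul_vec, ← T.pi_ones, ← T.three.map]
  exact (B.π_conj x y ⟨_, h0⟩ rfl).symm

theorem second_ne : (x : G) * (g * z * g⁻¹) * (x : G)⁻¹ ≠ g * z * g⁻¹ := by
  intro e
  have h0 : x * (y : Cz z) * x⁻¹ ∈ Q := (inferInstance : Q.Normal).conj_mem y y.2 x
  have he : (⟨_, h0⟩ : Q) = y := Subtype.ext (Subtype.ext (by
    show (x : G) * ((y : Cz z) : G) * (x : G)⁻¹ = _
    rw [T.eq]; exact e))
  have h1 := T.image_second hF (h0 := h0)
  rw [he, T.pi_ones] at h1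
  exact absurd (congrFun (F.vec_inj h1) 0) (by simp [shift, Model.ones])

theorem second_ne_z : (x : G) * (g * z * g⁻¹) * (x : G)⁻¹ ≠ z := by
  intro e
  apply T.ne
  have hc : Commute (x : G) z := Subgroup.mem_centralizer_singleton_iff.mp x.2
  calc g * z * g⁻¹ = (x : G)⁻¹ * ((x : G) * (g * z * g⁻¹) * (x : G)⁻¹) * x := by group
    _ = (x : G)⁻¹ * z * x := by rw [e]
    _ = z := by rw [mul_assoc, ← hc.eq, inv_mul_cancel_left]

theorem commute_second : Commute (g * z * g⁻¹) ((x : G) * (g * z * g⁻¹) * (x : G)⁻¹) := by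
  have hgQ : g * z * g⁻¹ ∈ QG Q := ⟨_, y.2, T.eq⟩
  obtain ⟨s, -⟩ := exists_setting hF hgQ T.ne
  set a := g * z * g⁻¹ with ha
  set b := (x : G) * a * (x : G)⁻¹ with hb
  set c := (x : G) * b * (x : G)⁻¹ with hc
  have h3 : a * b * c = 1 := by
    have e := congrArg Subtype.val T.prod
    rw [hc, hb, ha, ← T.eq]
    exact e
  have ha2 : a * a = 1 := (es' s).sq
  have hb2 : b * b = 1 := by
    calc b * b = (x : G) * (a * a) * (x : G)⁻¹ := by rw [hb]; group
      _ = 1 := by rw [ha2]; group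
  have hc2 : c * c = 1 := by
    calc c * c = (x : G) * (b * b) * (x : G)⁻¹ := by rw [hc]; group
      _ = 1 := by rw [hb2]; group
  have hab : a * b = c := by
    rw [eq_inv_of_mul_eq_one_left h3, inv_eq_of_mul_eq_one_right hc2]
  show a * b = b * a
  calc a * b = (a * b)⁻¹ := (inv_eq_of_mul_eq_one_right (by rw [hab, hc2])).symm
    _ = b * a := by rw [mul_inv_rev, inv_eq_of_mul_eq_one_right ha2, inv_eq_of_mul_eq_one_right hb2]

/-- the second conjugate lies in the first conjugate of `Q` -/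
theorem second_mem : (x : G) * (g * z * g⁻¹) * (x : G)⁻¹ ∈ (QG Q).map (MulAut.conj g).toMonoidHom := by
  have hgQ : g * z * g⁻¹ ∈ QG Q := ⟨_, y.2, T.eq⟩
  obtain ⟨s, -⟩ := exists_setting hF hgQ T.ne
  obtain ⟨r', hr'Q, hr'⟩ := mem_conj.mp (z_mem s)
  set r : Q := ⟨r', hr'Q⟩ with hrdef
  have hr : ((r : Cz z) : G) = g⁻¹ * z * g := hr'
  have hrne : g⁻¹ * z * g⁻¹⁻¹ ≠ z := fun e => T.ne (by
    calc g * z * g⁻¹ = g * (g⁻¹ * z * g⁻¹⁻¹) * g⁻¹ := by rw [e]
      _ = z := by group)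
  have hr2 : ((r : Cz z) : G) = g⁻¹ * z * g⁻¹⁻¹ := by rw [hr, inv_inv]
  have hBr := B.big hF hr2 hrne
  obtain ⟨hr22, hr0, hrq⟩ := B.sing_of_conj hF hr2 hrne
  set y' := (x : G) * (g * z * g⁻¹) * (x : G)⁻¹ with hy'
  have hyy : Commute (g * z * g⁻¹) y' := T.commute_second hF
  have hcz : g⁻¹ * y' * g ∈ Cz z := Subgroup.mem_centralizer_singleton_iff.mpr (by
    calc g⁻¹ * y' * g * z = g⁻¹ * (y' * (g * z * g⁻¹)) * g := by group
      _ = g⁻¹ * ((g * z * g⁻¹) * y') * g := by rw [hyy.eq]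
      _ = z * (g⁻¹ * y' * g) := by group)
  have h0 : x * (y : Cz z) * x⁻¹ ∈ Q := (inferInstance : Q.Normal).conj_mem y y.2 x
  have hy'c : ((x * (y : Cz z) * x⁻¹ : Cz z) : G) = y' := by
    show (x : G) * ((y : Cz z) : G) * (x : G)⁻¹ = _
    rw [T.eq]
  have hBy := B.big hF T.eq T.ne
  rw [T.pi_ones] at hBy
  have key : (QuotientGroup.mk ⟨_, hcz⟩ : (Cz z) ⧸ Q) = 1 := by
    refine F.no_transvection hBr fun v hv => ?_
    obtain ⟨q, rfl⟩ := B.π_surj v
    -- `q` commutes with `r`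
    have hqr : Commute ((q : Cz z) : G) ((r : Cz z) : G) := by
      by_contra hn
      rcases s.es.conj _ (⟨_, q.2, rfl⟩ : ((q : Cz z) : G) ∈ QG Q) _ (⟨_, r.2, rfl⟩ : ((r : Cz z) : G) ∈ QG Q)
        with e | e
      · exact hn (mul_inv_eq_iff_eq_mul.mp e)
      have hsq : ((q : Cz z) : G) * (r : Cz z) * (((q : Cz z) : G) * (r : Cz z)) =
          (((q : Cz z) : G) * (q : Cz z)) * z := by
        have hrr : ((r : Cz z) : G) * (r : Cz z) = 1 := congrArg (fun t : Q => ((t : Cz z) : G)) hr22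
        have hzr : Commute z ((r : Cz z) : G) := (s.es.comm _ (⟨_, r.2, rfl⟩ : _ ∈ QG Q)).symm
        have hzq : Commute z ((q : Cz z) : G) := (s.es.comm _ (⟨_, q.2, rfl⟩ : _ ∈ QG Q)).symm
        calc _ = (((q : Cz z) : G) * (r : Cz z) * ((q : Cz z) : G)⁻¹) * (((q : Cz z) : G) * (q : Cz z)) * (r : Cz z) := by
              group
          _ = ((r : Cz z) : G) * z * (((q : Cz z) : G) * (q : Cz z)) * (r : Cz z) := by rw [e]
          _ = _ := by
            rcases s.es.sq_cases (⟨_, q.2, rfl⟩ : ((q : Cz z) : G) ∈ QG Q) with e' | e' <;> rw [e']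
            · rw [mul_one, one_mul, mul_assoc, hzr.eq, ← mul_assoc, hrr, one_mul]
            · rw [mul_assoc _ z z, s.es.sq, mul_one, hrr]
      rw [Core.b, ← B.π_mul, hrq, add_zero] at hv
      have h1 : B.D.q (B.π (q * r)) = B.D.q (B.π q) := by
        have key : ∀ a c : ZMod 2, a + c = 0 → a = c := by decide
        exact key _ _ hv
      have h2 : q * r * (q * r) = 1 ↔ q * q = 1 := by rw [← B.π_q, ← B.π_q, h1]
      rcases s.es.sq_cases (⟨_, q.2, rfl⟩ : ((q : Cz z) : G) ∈ QG Q) with e' | e'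
      · have := congrArg (fun t : Q => ((t : Cz z) : G)) (h2.mpr (Subtype.ext (Subtype.ext e')))
        apply s.es.ne
        rw [show (1 : G) = ((q : Cz z) : G) * (r : Cz z) * (((q : Cz z) : G) * (r : Cz z)) from this.symm, hsq, e',
          one_mul]
      · have h3 : q * r * (q * r) = 1 := Subtype.ext (Subtype.ext (hsq.trans (by rw [e', s.es.sq]; rfl)))
        exact s.es.ne (e'.symm.trans (congrArg (fun t : Q => ((t : Cz z) : G)) (h2.mp h3)))
    -- the corresponding element of `gQg⁻¹ ∩ C(z)`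
    have heP : g * ((q : Cz z) : G) * g⁻¹ ∈ (QG Q).map (MulAut.conj g).toMonoidHom :=
      LargeExtra.TwoConjugate.conj_mem ⟨_, q.2, rfl⟩
    have hez : g * ((q : Cz z) : G) * g⁻¹ ∈ Cz z := Subgroup.mem_centralizer_singleton_iff.mpr (by
      calc g * ((q : Cz z) : G) * g⁻¹ * z = g * (((q : Cz z) : G) * (g⁻¹ * z * g)) * g⁻¹ := by group
        _ = g * ((g⁻¹ * z * g) * ((q : Cz z) : G)) * g⁻¹ := by rw [← hr, hqr.eq]
        _ = z * (g * ((q : Cz z) : G) * g⁻¹) := by group)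
    set e : Cz z := ⟨_, hez⟩ with hedef
    have heE : (QuotientGroup.mk e : (Cz z) ⧸ Q) ∈ Ebar Q g := mem_Ebar heP
    have heo : (QuotientGroup.mk e : (Cz z) ⧸ Q) • F.vec Model.ones = F.vec Model.ones := hBy.le heE
    have h1 : e * (x * (y : Cz z) * x⁻¹) * e⁻¹ ∈ Q := (inferInstance : Q.Normal).conj_mem _ h0 e
    set d : Q := ⟨_, h1⟩ * (⟨_, h0⟩ : Q)⁻¹ with hd
    have hdπ : B.π d = 0 ∨ B.π d = B.π y := by
      rw [hd, B.π_mul, B.π_inv, ← B.π_conj e ⟨_, h0⟩ ⟨_, h1⟩ rfl, T.image_second hF, T.pi_ones,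
        ← F.h_smul_vec, smul_smul]
      rcases B.D.h_conj (QuotientGroup.mk e) with he | he
      · left
        rw [mul_inv_eq_iff_eq_mul.mp he, ← smul_smul, heo, B.D.two]
      · right
        rw [mul_inv_eq_iff_eq_mul.mp he, ← smul_smul, heo, B.D.h_inv, mul_smul, F.h_smul_vec, F.h_smul_vec,
          F.vec_add]
        congr 1
        funext i
        revert i
        decide +kernel
    have hcases : ((d : Cz z) : G) ∈ ({1, z, g * z * g⁻¹, g * z * g⁻¹ * z} : Set G) := by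
      rcases hdπ with h | h
      · rcases (B.π_zero d).mp h with e' | e'
        · left; rw [e']; rfl
        · right; left; exact e'
      · rcases B.fibre h.symm with e' | e'
        · right; right; left; rw [e']; exact T.eq
        · right; right; right; rw [Set.mem_singleton_iff, e', T.eq]
    -- pull back
    have h2 : (⟨_, hcz⟩ : Cz z) * (q : Cz z) * (⟨_, hcz⟩ : Cz z)⁻¹ ∈ Q :=
      (inferInstance : Q.Normal).conj_mem q q.2 _
    rw [B.π_conj ⟨_, hcz⟩ q ⟨_, h2⟩ rfl]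
    have hdd : ((d : Cz z) : G) = (g * ((q : Cz z) : G) * g⁻¹) * y' * (g * ((q : Cz z) : G) * g⁻¹)⁻¹ * y'⁻¹ := by
      rw [hd, ← hy'c]; rfl
    set t : Q := q * (⟨_, h2⟩ : Q)⁻¹ with ht
    have htv : B.π ⟨_, h2⟩ + B.π q = B.π t := by rw [ht, B.π_mul, B.π_inv, add_comm]
    rw [htv]
    have htG : ((t : Cz z) : G) = g⁻¹ * ((d : Cz z) : G) * g := by
      rw [hdd]
      show ((q : Cz z) : G) * (g⁻¹ * y' * g * ((q : Cz z) : G) * (g⁻¹ * y' * g)⁻¹)⁻¹ = _
      group
    have hone : g⁻¹ * (1 : G) * g = 1 := by group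
    have hyg : g⁻¹ * (g * z * g⁻¹) * g = z := by group
    simp only [Set.mem_insert_iff, Set.mem_singleton_iff] at hcases
    rcases hcases with e' | e' | e' | e' <;> rw [e'] at htG
    · left; exact (B.π_zero t).mpr (Or.inl (Subtype.ext (Subtype.ext (htG.trans hone))))
    · right
      rw [show t = r from Subtype.ext (Subtype.ext (htG.trans hr.symm))]
    · left; exact (B.π_zero t).mpr (Or.inr (htG.trans hyg))
    · right
      have e2 : g⁻¹ * (g * z * g⁻¹ * z) * g = z * (g⁻¹ * z * g) := by group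
      rw [e2, ← hr, (s.es.comm _ (⟨_, r.2, rfl⟩ : ((r : Cz z) : G) ∈ QG Q)).symm.eq] at htG
      have hzQ : z ∈ QG Q := s.es.mem
      obtain ⟨z', hz'Q, hz'⟩ := hzQ
      have ht' : t = r * ⟨z', hz'Q⟩ := Subtype.ext (Subtype.ext (htG.trans
        (congrArg (fun a => ((r : Cz z) : G) * a) hz'.symm)))
      rw [ht', B.π_mul, (B.π_zero ⟨z', hz'Q⟩).mpr (Or.inr hz'), add_zero]
  exact mem_conj.mpr ⟨_, (QuotientGroup.eq_one_iff _).mp key, rfl⟩

/-- the properties of `D = Q^g ∩ Q^{xg}` -/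
theorem exists_meet : ∃ Dc : Subgroup (Cz z),
    (∀ d ∈ Dc, (d : G) ∈ (QG Q).map (MulAut.conj g).toMonoidHom) ∧
    (∀ d ∈ Dc, d * d = 1) ∧
    (∀ c : Cz z, c * x = x * c → c * (y : Cz z) = (y : Cz z) * c → ∀ d ∈ Dc, c * d * c⁻¹ ∈ Dc) ∧
    (∀ a : Cz z, (a : G) = z → a ∈ Dc) ∧
    Nat.card (Ebar Q g ⊓ B.D.Mb : Subgroup ((Cz z) ⧸ Q)) = 16 ∧
    ∀ w ∈ Ebar Q g ⊓ B.D.Mb, ∃ k ∈ Dc, k * x = x * k ∧ QuotientGroup.mk k = w := by
  have hgQ : g * z * g⁻¹ ∈ QG Q := ⟨_, y.2, T.eq⟩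
  obtain ⟨s, -⟩ := exists_setting hF hgQ T.ne
  set xG := (x : G) with hxG
  set y' := xG * (g * z * g⁻¹) * xG⁻¹ with hy'
  set P := (QG Q).map (MulAut.conj g).toMonoidHom with hP
  set P' := (QG Q).map (MulAut.conj (xG * g)).toMonoidHom with hP'
  have hy'P : y' ∈ P := T.second_mem hF
  have h0 : x * (y : Cz z) * x⁻¹ ∈ Q := (inferInstance : Q.Normal).conj_mem y y.2 x
  have hy'c : ((x * (y : Cz z) * x⁻¹ : Cz z) : G) = y' := by
    show xG * ((y : Cz z) : G) * xG⁻¹ = _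
    rw [T.eq]
  have hy'e : (xG * g) * z * (xG * g)⁻¹ = y' := by rw [hy']; group
  obtain ⟨s', -⟩ := exists_setting hF (g := xG * g) ⟨_, h0, by rw [hy'e, ← hy'c]; rfl⟩
    (by rw [hy'e]; exact T.second_ne_z hF)
  -- the pair seen from `g`
  set g2 := g⁻¹ * xG * g with hg2
  have hg2z : g2 * z * g2⁻¹ = g⁻¹ * y' * g := by rw [hg2, hy']; group
  have hg2Q : g2 * z * g2⁻¹ ∈ QG Q := hg2z ▸ mem_conj.mp hy'P
  have hg2ne : g2 * z * g2⁻¹ ≠ z := fun e => T.second_ne hF (by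
    rw [hg2z] at e
    calc y' = g * (g⁻¹ * y' * g) * g⁻¹ := by group
      _ = g * z * g⁻¹ := by rw [e])
  obtain ⟨s2, -⟩ := exists_setting hF hg2Q hg2ne
  have hyP' : g * z * g⁻¹ ∈ P' := by
    have h := mem_conj.mp (z_mem s2)
    refine mem_conj.mpr ?_
    rw [hg2] at h
    convert h using 1
    group
  -- the intersection
  set D := P ⊓ P' with hD
  have hDmap : D = (Ecap Q g2).map (MulAut.conj g).toMonoidHom := by
    have e : P' = ((QG Q).map (MulAut.conj g2).toMonoidHom).map (MulAut.conj g).toMonoidHom := by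
      rw [hP', Subgroup.map_map (QG Q),
        show (MulAut.conj g).toMonoidHom.comp (MulAut.conj g2).toMonoidHom = (MulAut.conj (xG * g)).toMonoidHom by
          ext a; simp [hg2, mul_assoc]]
    rw [Subgroup.map_inf _ _ _ (MulAut.conj g).injective, hD, e]
  obtain ⟨q2, hq2Q, hq2⟩ := hg2Q
  obtain ⟨h32, -⟩ := F.big_structure (B.big hF (g := g2) (y := ⟨q2, hq2Q⟩) hq2 hg2ne)
  obtain ⟨hmul, -⟩ := card_Ecap_mul hF (⟨q2, hq2Q, hq2⟩ : g2 * z * g2⁻¹ ∈ QG Q) hg2ne
  rw [h32] at hmul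
  have hDcard : Nat.card D = 2 ^ 7 := by
    rw [hDmap, Subgroup.card_map_of_injective (MulAut.conj g).injective]; omega
  have hDel := Ecap_elementary hF (⟨q2, hq2Q, hq2⟩ : g2 * z * g2⁻¹ ∈ QG Q) hg2ne
  have hDcomm : ∀ a ∈ D, ∀ b ∈ D, a * b = b * a := by
    rw [hDmap]
    rintro _ ⟨a, ha, rfl⟩ _ ⟨b, hb, rfl⟩
    rw [← map_mul, ← map_mul]
    exact congrArg _ (congrArg Subtype.val (hDel.1.is_comm.comm (⟨a, ha⟩ : Ecap Q g2) ⟨b, hb⟩))
  have hDsq : ∀ a ∈ D, a * a = 1 := by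
    rw [hDmap]
    rintro _ ⟨a, ha, rfl⟩
    rw [← map_mul, show a * a = 1 from (pow_two a).symm.trans (hDel.2 a ha), map_one]
  have hzD : z ∈ D := ⟨z_mem s, z_mem s'⟩
  have hyD : g * z * g⁻¹ ∈ D := ⟨(es' s).mem, hyP'⟩
  have hy'D : y' ∈ D := ⟨hy'P, hy'e ▸ (es' s').mem⟩
  have hDz : D ≤ Cz z := fun a ha => Subgroup.mem_centralizer_singleton_iff.mpr (hDcomm a ha z hzD)
  -- `x` normalises it
  have hxD : ∀ a ∈ D, xG * a * xG⁻¹ ∈ D := by
    set c3 := xG * y' * xG⁻¹ with hc3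
    have hcz : Commute xG z := Subgroup.mem_centralizer_singleton_iff.mp x.2
    have hprod : g * z * g⁻¹ * y' * c3 = 1 := by
      have e := congrArg Subtype.val T.prod
      rw [hc3, hy', ← T.eq]
      exact e
    have hc3e : c3 = y' * (g * z * g⁻¹) := by
      rw [eq_inv_of_mul_eq_one_right hprod, mul_inv_rev, inv_eq_of_mul_eq_one_right (es' s).sq,
        inv_eq_of_mul_eq_one_right (hy'e ▸ (es' s').sq : y' * y' = 1)]
    obtain ⟨p, hp, hpy⟩ : ∃ p ∈ P, p * y' * p⁻¹ = y' * (g * z * g⁻¹) := by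
      by_contra hn
      push Not at hn
      rcases (es' s).center y' hy'P (fun p hp => mul_inv_eq_iff_eq_mul.mp
        (((es' s).conj p hp y' hy'P).resolve_right (hn p hp))) with e | e
      · exact (hy'e ▸ (es' s').ne : y' ≠ 1) e
      · exact T.second_ne hF e
    have hPP : P'.map (MulAut.conj p).toMonoidHom = (QG Q).map (MulAut.conj (xG * (xG * g))).toMonoidHom := by
      rw [hP', Subgroup.map_map,
        ← conjQ_eq s (a := p * (xG * g)) (b := xG * (xG * g)) (by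
          calc p * (xG * g) * z * (p * (xG * g))⁻¹ = p * ((xG * g) * z * (xG * g)⁻¹) * p⁻¹ := by group
            _ = c3 := by rw [hy'e, hpy, hc3e]
            _ = _ := by rw [hc3, ← hy'e]; group)]
      congr 1
      ext a
      simp [mul_assoc]
    have hsub : D ≤ D.map (MulAut.conj xG).toMonoidHom := by
      intro a ha
      rw [hD, Subgroup.map_inf _ _ _ (MulAut.conj xG).injective]
      refine ⟨?_, ?_⟩
      · rw [hP, Subgroup.map_map]
        have e : ((MulAut.conj xG).toMonoidHom.comp (MulAut.conj g).toMonoidHom) =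
            (MulAut.conj (xG * g)).toMonoidHom := by ext b; simp [mul_assoc]
        rw [e]; exact ha.2
      · rw [hP', Subgroup.map_map]
        have e : ((MulAut.conj xG).toMonoidHom.comp (MulAut.conj (xG * g)).toMonoidHom) =
            (MulAut.conj (xG * (xG * g))).toMonoidHom := by ext b; simp [mul_assoc]
        rw [e, ← hPP]
        refine mem_conj.mpr ?_
        rcases (es' s).conj p⁻¹ (inv_mem hp) a ha.1 with e' | e' <;> rw [inv_inv] at e' <;> rw [e']
        exacts [ha.2, mul_mem ha.2 hyP']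
    have heq := Subgroup.eq_of_le_of_card_ge hsub
      (by rw [Subgroup.card_map_of_injective (MulAut.conj xG).injective])
    intro a ha
    rw [heq]
    exact LargeExtra.TwoConjugate.conj_mem ha
  set Dc := D.subgroupOf (Cz z) with hDc
  have hBy := B.big hF T.eq T.ne
  rw [T.pi_ones] at hBy
  obtain ⟨⟨o, hoE, hoM⟩, h16⟩ := F.big_outer hBy
  let f : Dc →* (Cz z) ⧸ Q := (QuotientGroup.mk' Q).comp Dc.subtype
  have hfle : f.range ≤ Ebar Q g ⊓ B.D.Mb := by
    rintro _ ⟨d, rfl⟩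
    have hE : f d ∈ Ebar Q g := mem_Ebar (d.2 : _ ∈ D).1
    refine ⟨hE, ?_⟩
    by_contra hn
    have hinv := F.inverts hBy hn
    have hones : f d • F.vec Model.ones = F.vec Model.ones := hBy.le hE
    have hsec : f d • F.vec (shift (fun _ => 1) Model.ones) = F.vec (shift (fun _ => 1) Model.ones) := by
      rw [← T.image_second hF (h0 := h0)]
      refine B.π_conj (d : Cz z) ⟨_, h0⟩ ⟨_, h0⟩ (Subtype.ext ?_)
      show ((x * (y : Cz z) * x⁻¹ : Cz z) : G) =
        ((d : Cz z) : G) * ((x * (y : Cz z) * x⁻¹ : Cz z) : G) * ((d : Cz z) : G)⁻¹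
      rw [hy'c]
      exact (mul_inv_eq_iff_eq_mul.mpr (hDcomm _ d.2 _ hy'D)).symm
    rw [← F.h_smul_vec] at hsec
    exact absurd (F.semilinear_fixed hinv hones hsec) ((F.sing_iff Model.ones).mpr
      (Or.inr (Or.inr (by unfold Model.ones; decide)))).1
  -- the kernel
  have hker : Nat.card f.ker ≤ 8 := by
    let J : AddSubgroup B.V :=
      { carrier := {v | ∃ j : Q, ((j : Cz z) : G) ∈ D ∧ B.π j = v}
        zero_mem' := ⟨1, one_mem _, B.π_one⟩
        add_mem' := by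
          rintro a b ⟨i, hi, rfl⟩ ⟨j, hj, rfl⟩
          exact ⟨i * j, mul_mem hi hj, B.π_mul i j⟩
        neg_mem' := by
          rintro a ⟨i, hi, rfl⟩
          exact ⟨i, hi, (neg_eq_of_add_eq_zero_left (B.D.two _)).symm⟩ }
    have hJh : ∀ v ∈ J, B.D.h • v ∈ J := by
      rintro _ ⟨j, hj, rfl⟩
      refine ⟨⟨x * j * x⁻¹, (inferInstance : Q.Normal).conj_mem j j.2 x⟩, hxD _ hj, ?_⟩
      rw [← T.three.map]
      exact (B.π_conj x j _ rfl).symm
    have hoi := F.inverts hBy hoM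
    have hev : ∀ v ∈ J, o • v + v = 0 ∨ o • v + v = F.vec Model.ones := by
      rintro _ ⟨j, hj, rfl⟩
      obtain ⟨e, he, rfl⟩ := hoE
      have h1 : e * (j : Cz z) * e⁻¹ ∈ Q := (inferInstance : Q.Normal).conj_mem j j.2 e
      change (QuotientGroup.mk e : (Cz z) ⧸ Q) • B.π j + B.π j = 0 ∨ _
      rw [show (QuotientGroup.mk' Q) e = (QuotientGroup.mk e : (Cz z) ⧸ Q) from rfl,
        B.π_conj e j ⟨_, h1⟩ rfl]
      rcases (es' s).conj _ he.1 _ hj.1 with e' | e'
      · left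
        rw [show (⟨_, h1⟩ : Q) = j from Subtype.ext (Subtype.ext e'), B.D.two]
      · right
        rw [show (⟨_, h1⟩ : Q) = j * y from Subtype.ext (Subtype.ext (e'.trans (by rw [← T.eq]; rfl))),
          B.π_mul, add_right_comm, B.D.two, zero_add, T.pi_ones]
    let Jf : AddSubgroup B.V :=
      { carrier := {v | v ∈ J ∧ o • v = v}
        add_mem' := fun {a c} ha hb => ⟨J.add_mem ha.1 hb.1, by rw [smul_add, ha.2, hb.2]⟩
        zero_mem' := ⟨J.zero_mem, smul_zero o⟩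
        neg_mem' := fun {a} ha => ⟨J.neg_mem ha.1, by rw [smul_neg, ha.2]⟩ }
    have hsq := F.semilinear_card hoi J hJh Jf (fun v hv => hv.1) fun v hv => hv.2
    have hJ2 : Nat.card J ≤ 2 * Nat.card Jf := by
      classical
      by_cases hall : ∀ v ∈ J, o • v = v
      · have := AddSubgroup.card_le_of_le (show J ≤ Jf from fun v hv => ⟨hv, hall v hv⟩)
        omega
      push Not at hall
      obtain ⟨v0, hv0, hne⟩ := hall
      have e0 : o • v0 + v0 = F.vec Model.ones :=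
        (hev v0 hv0).resolve_left fun h => hne (add_right_cancel (h.trans (B.D.two v0).symm))
      have h := Nat.card_le_card_of_injective
        (fun v : J => ((⟨if o • v.1 = v.1 then v.1 else v.1 + v0, by
          split_ifs with hv
          · exact ⟨v.2, hv⟩
          · refine ⟨J.add_mem v.2 hv0, ?_⟩
            have ev : o • v.1 + v.1 = F.vec Model.ones :=
              (hev _ v.2).resolve_left fun h => hv (add_right_cancel (h.trans (B.D.two v.1).symm))
            apply add_right_cancel (b := v.1 + v0)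
            rw [smul_add, B.D.two, add_add_add_comm, ev, e0, B.D.two]⟩ : Jf), decide (o • v.1 = v.1)))
        fun a c h => by
          simp only [Prod.mk.injEq, Subtype.mk.injEq, decide_eq_decide] at h
          by_cases ha : o • a.1 = a.1
          · rw [if_pos ha, if_pos (h.2.mp ha)] at h; exact Subtype.ext h.1
          · rw [if_neg ha, if_neg fun hb => ha (h.2.mpr hb)] at h
            exact Subtype.ext (add_right_cancel h.1)
      rw [Nat.card_prod, Nat.card_eq_fintype_card (α := Bool), Fintype.card_bool] at h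
      omega
    have hJ4 : Nat.card J ≤ 4 := by
      by_contra hlt
      push Not at hlt
      have h5 := Nat.mul_le_mul hJ2 hJ2
      have h6 : Nat.card J * 5 ≤ Nat.card J * Nat.card J := Nat.mul_le_mul_left _ hlt
      have h7 : (2 * Nat.card Jf) * (2 * Nat.card Jf) = 4 * (Nat.card Jf * Nat.card Jf) := by ring
      rw [h7] at h5
      omega
    classical
    let toQ : f.ker → Q := fun d => ⟨(d : Dc), (QuotientGroup.eq_one_iff (N := Q) _).mp d.2⟩
    let toJ : f.ker → J := fun d => ⟨B.π (toQ d), toQ d, (d : Dc).2, rfl⟩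
    let rep : J → Q := fun v => v.2.choose
    have hrep : ∀ v : J, B.π (rep v) = v.1 := fun v => v.2.choose_spec.2
    have h := Nat.card_le_card_of_injective
      (fun d : f.ker => (toJ d, decide (toQ d = rep (toJ d)))) fun a b hab => by
      simp only [Prod.mk.injEq, decide_eq_decide] at hab
      obtain ⟨h1, h2⟩ := hab
      have e : toQ a = toQ b := by
        by_cases hA : toQ a = rep (toJ a)
        · rw [hA, h2.mp hA, h1]
        · have hB' : toQ b ≠ rep (toJ b) := fun h => hA (h2.mpr h)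
          have e1 := (B.fibre (hrep (toJ a))).resolve_left hA
          have e2 := (B.fibre (hrep (toJ b))).resolve_left hB'
          rw [h1] at e1
          exact Subtype.ext (Subtype.ext (e1.trans e2.symm))
      exact Subtype.ext (Subtype.ext (congrArg Subtype.val e :))
    rw [Nat.card_prod, Nat.card_eq_fintype_card (α := Bool), Fintype.card_bool] at h
    omega
  have hcount := Subgroup.card_eq_card_quotient_mul_card_subgroup f.ker
  rw [Nat.card_congr (QuotientGroup.quotientKerEquivRange f).toEquiv,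
    Nat.card_congr (Subgroup.subgroupOfEquivOfLe hDz).toEquiv, hDcard] at hcount
  have hr16 := (Subgroup.card_le_of_le hfle).trans h16
  have hrange : Nat.card f.range = 16 ∧ Nat.card f.ker = 8 := by
    have h1 : Nat.card f.range * Nat.card f.ker ≤ Nat.card f.range * 8 := Nat.mul_le_mul_left _ hker
    rw [← hcount] at h1
    have h2 : Nat.card f.range = 16 := by omega
    rw [h2] at hcount
    exact ⟨h2, by omega⟩
  have hEq : f.range = Ebar Q g ⊓ B.D.Mb :=
    Subgroup.eq_of_le_of_card_ge hfle (h16.trans hrange.1.ge)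
  refine ⟨Dc, fun d hd => (hd : (d : G) ∈ D).1, fun d hd => Subtype.ext (hDsq _ hd), ?_, ?_, ?_, ?_⟩
  · intro c hcx hcy d hd
    show ((c * d * c⁻¹ : Cz z) : G) ∈ D
    have hcy' : Commute (c : G) (g * z * g⁻¹) := by
      have e := congrArg Subtype.val hcy
      show (c : G) * _ = _ * (c : G)
      rw [← T.eq]; exact e
    have hcx' : Commute (c : G) xG := congrArg Subtype.val hcx
    exact ⟨norm' s _ hcy' _ (hd : _ ∈ D).1, norm' s' _
      (by rw [hy'e, hy']; exact (hcx'.mul_right hcy').mul_right hcx'.inv_right) _ (hd : _ ∈ D).2⟩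
  · intro a ha
    show (a : G) ∈ D
    rw [ha]; exact hzD
  · rw [← hEq]; exact hrange.1
  · intro w hw
    haveI : Fact (Nat.Prime 3) := ⟨Nat.prime_three⟩
    obtain ⟨d0, hd0⟩ := (hEq ▸ hw : w ∈ f.range)
    let S := {d : Dc // f d = w}
    have hS : Nat.card S = 8 := by
      rw [← hrange.2]
      exact Nat.card_congr
        { toFun := fun d => ⟨d0⁻¹ * d.1, MonoidHom.mem_ker.mpr (by rw [map_mul, map_inv, hd0, d.2, inv_mul_cancel])⟩
          invFun := fun k => ⟨d0 * k.1, by rw [map_mul, MonoidHom.mem_ker.mp k.2, hd0, mul_one]⟩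
          left_inv := fun d => by simp
          right_inv := fun k => by simp }
    let U := Subgroup.zpowers x
    have hUn : ∀ u ∈ U, ∀ d ∈ Dc, u * d * u⁻¹ ∈ Dc := by
      have hx1 : U ≤ Subgroup.normalizer (Dc : Set (Cz z)) :=
        Subgroup.zpowers_le.mpr (Subgroup.mem_normalizer_fintype fun d hd => hxD _ hd)
      exact fun u hu d hd => (Subgroup.mem_normalizer_iff.mp (hx1 hu) d).mp hd
    have hUw : ∀ u ∈ U, ∀ d : S, (QuotientGroup.mk (u * (d.1 : Cz z) * u⁻¹) : (Cz z) ⧸ Q) = w := by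
      intro u hu d
      obtain ⟨k, rfl⟩ := hu
      have hd : (QuotientGroup.mk (d.1 : Cz z) : (Cz z) ⧸ Q) = w := d.2
      have hwM : w ∈ B.D.Mb := hw.2
      show (QuotientGroup.mk (x ^ k * (d.1 : Cz z) * (x ^ k)⁻¹) : (Cz z) ⧸ Q) = w
      rw [QuotientGroup.mk_mul, QuotientGroup.mk_mul, QuotientGroup.mk_inv, QuotientGroup.mk_zpow, T.three.map,
        hd, ← B.D.commute_zpowers hwM ⟨k, rfl⟩, mul_inv_cancel_right]
    letI : MulAction U S :=
      { smul := fun u d => ⟨⟨u * (d.1 : Cz z) * (u : Cz z)⁻¹, hUn u u.2 _ d.1.2⟩, hUw u u.2 d⟩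
        one_smul := fun d => Subtype.ext (Subtype.ext (by show (1 : Cz z) * _ * 1⁻¹ = _; group))
        mul_smul := fun u u' d => Subtype.ext (Subtype.ext (by
          show (↑(u * u') : Cz z) * _ * (↑(u * u') : Cz z)⁻¹ = u * (u' * _ * (u' : Cz z)⁻¹) * (u : Cz z)⁻¹
          rw [Subgroup.coe_mul]; group)) }
    have hU : IsPGroup 3 U := IsPGroup.of_card (n := 1) (by rw [Nat.card_zpowers, T.three.order, pow_one])
    obtain ⟨d, hd⟩ := hU.nonempty_fixed_point_of_prime_not_dvd_card S (by rw [hS]; norm_num)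
    have e := congrArg (fun t : S => ((t.1 : Cz z))) (hd ⟨x, Subgroup.mem_zpowers x⟩)
    exact ⟨d.1, d.1.2, (mul_inv_eq_iff_eq_mul.mp e).symm, d.2⟩

end Triple

/-- the centraliser of the element of order three contains `z` in its commutator subgroup -/
theorem z_mem_commutator {B : Bridge z Q} {x : Cz z} (hx : Three B x) (hF : Cfsg.IsOfLargeFischerTypeAt z Q) :
    ∃ a ∈ ⁅Subgroup.centralizer ({x} : Set (Cz z)), Subgroup.centralizer ({x} : Set (Cz z))⁆, (a : G) = z := by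
  by_contra hcon
  push Not at hcon
  obtain ⟨F⟩ := B.D.exists_nframe
  obtain ⟨g, y, hy, hne, hyo, hprod⟩ := hx.exists_triple hF F
  have T : Triple B F x g y := ⟨hx, hy, hne, hyo, hprod⟩
  obtain ⟨Dc, hDP, hDsq, hDn, hDz, h16, hlift⟩ := T.exists_meet hF
  have hBy := B.big hF hy hne
  rw [hyo] at hBy
  set K := Subgroup.centralizer ({x} : Set (Cz z)) with hK
  set K' := ⁅K, K⁆ with hK'
  have hKmap : K.map (QuotientGroup.mk' Q) = B.D.Mb := by
    refine le_antisymm ?_ fun m hm => ?_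
    · rintro _ ⟨c, hc, rfl⟩
      exact hx.mk_mem F hBy (Subgroup.mem_centralizer_singleton_iff.mp hc)
    · obtain ⟨c, hc, hcm⟩ := hx.exists_lift hF hm
      exact ⟨c, Subgroup.mem_centralizer_singleton_iff.mpr hc, hcm⟩
  have hK'map : K'.map (QuotientGroup.mk' Q) = B.D.Mb := by
    rw [hK', Subgroup.map_commutator, hKmap]
    exact le_antisymm (haveI := B.D.Mb_normal; Subgroup.commutator_le_right _ _) (F.Mb_le_commutator B.simple)
  have hK'K : K' ≤ K := Subgroup.commutator_le.mpr fun a ha b hb =>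
    mul_mem (mul_mem (mul_mem ha hb) (inv_mem ha)) (inv_mem hb)
  have hcx : ∀ c ∈ K, c * x = x * c := fun c hc => Subgroup.mem_centralizer_singleton_iff.mp hc
  have hinj : ∀ a ∈ K', ∀ b ∈ K', (QuotientGroup.mk a : (Cz z) ⧸ Q) = QuotientGroup.mk b → a = b := by
    intro a ha b hb h
    have hm : a⁻¹ * b ∈ K' := mul_mem (inv_mem ha) hb
    rcases hx.fixed_Q F (q := ⟨_, QuotientGroup.eq.mp h⟩) (hcx _ (hK'K hm)) with e | e
    · exact inv_mul_eq_one.mp (congrArg Subtype.val e)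
    · exact absurd e (hcon _ hm)
  have hgQ : g * z * g⁻¹ ∈ QG Q := ⟨_, y.2, hy⟩
  obtain ⟨s, -⟩ := exists_setting hF hgQ hne
  have hzc : ∀ c : Cz z, (c : G) * z = z * c := fun c => Subgroup.mem_centralizer_singleton_iff.mp c.2
  -- the lifts of `W₁`
  set T1 := K' ⊓ Dc with hT1
  have hT1map : ∀ w ∈ Ebar Q g ⊓ B.D.Mb, ∃ t ∈ T1, QuotientGroup.mk t = w := by
    intro w hw
    obtain ⟨k, hkD, hkx, hkw⟩ := hlift w hw
    obtain ⟨k', hk', hkk⟩ : w ∈ K'.map (QuotientGroup.mk' Q) := hK'map ▸ hw.2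
    have hQ' : k'⁻¹ * k ∈ Q := QuotientGroup.eq.mp (hkk.trans hkw.symm)
    have hKk : k'⁻¹ * k ∈ K := mul_mem (inv_mem (hK'K hk')) (Subgroup.mem_centralizer_singleton_iff.mpr hkx)
    rcases hx.fixed_Q F (q := ⟨_, hQ'⟩) (hcx _ hKk) with e | e
    · exact ⟨k, ⟨(inv_mul_eq_one.mp (congrArg Subtype.val e)) ▸ hk', hkD⟩, hkw⟩
    · refine ⟨k', ⟨hk', ?_⟩, hkk⟩
      have hz : (⟨z, Subgroup.mem_centralizer_singleton_iff.mpr rfl⟩ : Cz z) ∈ Dc := hDz _ rfl
      have e' : k = k' * ⟨z, Subgroup.mem_centralizer_singleton_iff.mpr rfl⟩ := by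
        have e2 : k'⁻¹ * k = ⟨z, Subgroup.mem_centralizer_singleton_iff.mpr rfl⟩ := Subtype.ext e
        rw [← e2]; group
      have h2 := mul_mem hkD (inv_mem hz)
      rwa [e', mul_inv_cancel_right] at h2
  have hT1E : ∀ t ∈ T1, (QuotientGroup.mk t : (Cz z) ⧸ Q) ∈ Ebar Q g ⊓ B.D.Mb := fun t ht =>
    ⟨mem_Ebar (hDP t ht.2), hx.mk_mem F hBy (hcx t (hK'K ht.1))⟩
  have hT1card : Nat.card T1 = 16 := by
    rw [← h16]
    refine Nat.card_congr (Equiv.ofBijective (fun t : T1 =>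
      (⟨QuotientGroup.mk t.1, hT1E t t.2⟩ : (Ebar Q g ⊓ B.D.Mb : Subgroup _))) ⟨fun a b h => ?_, ?_⟩)
    · exact Subtype.ext (hinj a a.2.1 b b.2.1 (congrArg Subtype.val h))
    · rintro ⟨w, hw⟩
      obtain ⟨t, ht, htw⟩ := hT1map w hw
      exact ⟨⟨t, ht⟩, Subtype.ext htw⟩
  -- lifts of the pure permutations
  obtain ⟨ρ, hρ⟩ := F.exists_rho
  have hρM : ∀ p, ρ p ∈ B.D.Mb := fun p => B.D.P_le (hρ p).1
  choose ℓf hℓK hℓm using fun p => (hK'map.symm ▸ hρM p : ρ p ∈ K'.map (QuotientGroup.mk' Q))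
  have hℓm' : ∀ p, (QuotientGroup.mk (ℓf p) : (Cz z) ⧸ Q) = ρ p := hℓm
  let ℓ : alternatingGroup (Fin 6) →* Cz z := MonoidHom.mk' ℓf fun p q =>
    hinj _ (hℓK _) _ (mul_mem (hℓK p) (hℓK q)) (by rw [hℓm', map_mul, QuotientGroup.mk_mul, hℓm', hℓm'])
  have hℓp : ∀ p, (QuotientGroup.mk (ℓ p) : (Cz z) ⧸ Q) = ρ p := hℓm'
  have hℓcases : ∀ p, ℓ p * (y : Cz z) * (ℓ p)⁻¹ = (y : Cz z) ∨
      ((ℓ p * (y : Cz z) * (ℓ p)⁻¹ : Cz z) : G) = ((y : Cz z) : G) * z := by
    intro p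
    have h1 := B.π_conj (ℓ p) y ⟨_, (inferInstance : Q.Normal).conj_mem y y.2 (ℓ p)⟩ rfl
    rw [hℓp, hyo, MulAction.mem_stabilizer_iff.mp (F.rho_fix_ones hρ p), ← hyo] at h1
    exact (B.fibre h1).imp (congrArg Subtype.val) id
  have hℓy : ∀ p, ℓ p * (y : Cz z) * (ℓ p)⁻¹ = (y : Cz z) := by
    let zc : Cz z := ⟨z, Subgroup.mem_centralizer_singleton_iff.mpr rfl⟩
    have hcz : ∀ c : Cz z, c * zc = zc * c := fun c => Subtype.ext (hzc c)
    have hzz : zc * zc = 1 := Subtype.ext s.es.sq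
    let S : Subgroup (alternatingGroup (Fin 6)) :=
      { carrier := {p | ℓ p * (y : Cz z) * (ℓ p)⁻¹ = (y : Cz z)}
        one_mem' := by simp
        mul_mem' := fun {p q} hp hq => by
          show ℓ (p * q) * _ * (ℓ (p * q))⁻¹ = _
          rw [map_mul, show ℓ p * ℓ q * (y : Cz z) * (ℓ p * ℓ q)⁻¹ =
            ℓ p * (ℓ q * (y : Cz z) * (ℓ q)⁻¹) * (ℓ p)⁻¹ by group, hq, hp]
        inv_mem' := fun {p} hp => by
          show ℓ p⁻¹ * _ * (ℓ p⁻¹)⁻¹ = _
          rw [map_inv, inv_inv]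
          calc (ℓ p)⁻¹ * (y : Cz z) * ℓ p = (ℓ p)⁻¹ * (ℓ p * (y : Cz z) * (ℓ p)⁻¹) * ℓ p := by rw [hp]
            _ = _ := by group }
    have hz' : ∀ p, ℓ p * (y : Cz z) * (ℓ p)⁻¹ ≠ (y : Cz z) → ℓ p * (y : Cz z) * (ℓ p)⁻¹ = (y : Cz z) * zc :=
      fun p hp => Subtype.ext ((hℓcases p).resolve_left hp)
    have hsqS : ∀ p, p * p ∈ S := by
      intro p
      by_cases hp : p ∈ S
      · exact mul_mem hp hp
      show ℓ (p * p) * _ * (ℓ (p * p))⁻¹ = _
      rw [map_mul, show ℓ p * ℓ p * (y : Cz z) * (ℓ p * ℓ p)⁻¹ =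
        ℓ p * (ℓ p * (y : Cz z) * (ℓ p)⁻¹) * (ℓ p)⁻¹ by group, hz' p hp,
        show ℓ p * ((y : Cz z) * zc) * (ℓ p)⁻¹ = (ℓ p * (y : Cz z) * (ℓ p)⁻¹) * (ℓ p * zc * (ℓ p)⁻¹) by group,
        hz' p hp, hcz (ℓ p), mul_inv_cancel_right, mul_assoc, hzz, mul_one]
    haveI : S.Normal := ⟨fun q hq p => by
      by_cases hp : p ∈ S
      · exact mul_mem (mul_mem hp hq) (inv_mem hp)
      have hp' : p⁻¹ ∉ S := fun h => hp (by simpa using inv_mem h)
      show ℓ (p * q * p⁻¹) * _ * (ℓ (p * q * p⁻¹))⁻¹ = _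
      rw [map_mul, map_mul, show ℓ p * ℓ q * ℓ p⁻¹ * (y : Cz z) * (ℓ p * ℓ q * ℓ p⁻¹)⁻¹ =
        ℓ p * (ℓ q * (ℓ p⁻¹ * (y : Cz z) * (ℓ p⁻¹)⁻¹) * (ℓ q)⁻¹) * (ℓ p)⁻¹ by group, hz' _ hp',
        show ℓ q * ((y : Cz z) * zc) * (ℓ q)⁻¹ = (ℓ q * (y : Cz z) * (ℓ q)⁻¹) * (ℓ q * zc * (ℓ q)⁻¹) by group,
        show ℓ q * (y : Cz z) * (ℓ q)⁻¹ = (y : Cz z) from hq, hcz (ℓ q), mul_inv_cancel_right,
        show ℓ p * ((y : Cz z) * zc) * (ℓ p)⁻¹ = (ℓ p * (y : Cz z) * (ℓ p)⁻¹) * (ℓ p * zc * (ℓ p)⁻¹) by group,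
        hz' p hp, hcz (ℓ p), mul_inv_cancel_right, mul_assoc, hzz, mul_one]⟩
    haveI : IsSimpleGroup (alternatingGroup (Fin 6)) := alternatingGroup.isSimpleGroup (by simp)
    have hS : S = ⊤ := by
      refine (IsSimpleGroup.eq_bot_or_eq_top_of_normal S inferInstance).resolve_left fun h => ?_
      have h1 := hsqS alt1
      rw [h, Subgroup.mem_bot] at h1
      exact (by decide +kernel : (alt1 * alt1 : alternatingGroup (Fin 6)) ≠ 1) h1
    exact fun p => (hS ▸ Subgroup.mem_top p : p ∈ S)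
  have hℓT : ∀ p, ∀ t ∈ T1, ℓ p * t * (ℓ p)⁻¹ ∈ T1 := fun p t ht =>
    ⟨K'.mul_mem (K'.mul_mem (hℓK p) ht.1) (K'.inv_mem (hℓK p)),
      hDn _ (hcx _ (hK'K (hℓK p))) (mul_inv_eq_iff_eq_mul.mp (hℓy p)) t ht.2⟩
  -- pull back by `g`
  obtain ⟨r', hr'Q, hr'⟩ := mem_conj.mp (z_mem s)
  set r : Q := ⟨r', hr'Q⟩ with hrdef
  have hr : ((r : Cz z) : G) = g⁻¹ * z * g := hr'
  have hrne : g⁻¹ * z * g⁻¹⁻¹ ≠ z := fun e => hne (by
    calc g * z * g⁻¹ = g * (g⁻¹ * z * g⁻¹⁻¹) * g⁻¹ := by rw [e]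
      _ = z := by group)
  have hBr := B.big hF (g := g⁻¹) (y := r) (by rw [hr, inv_inv]) hrne
  obtain ⟨cr, hcr⟩ := F.exists_coord (B.π r)
  rw [← hcr] at hBr
  obtain ⟨w0, hw0⟩ := F.transR cr ones (F.isR_of_big hBr) isR_ones
  have hw0' : w0 • F.vec cr = F.vec ones := hw0
  have hgC : ∀ p, g⁻¹ * (ℓ p : G) * g ∈ Cz z := fun p => Subgroup.mem_centralizer_singleton_iff.mpr (by
    have e := congrArg Subtype.val (mul_inv_eq_iff_eq_mul.mp (hℓy p))
    have e' : (ℓ p : G) * (g * z * g⁻¹) = g * z * g⁻¹ * (ℓ p : G) := hy ▸ e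
    calc g⁻¹ * (ℓ p : G) * g * z = g⁻¹ * ((ℓ p : G) * (g * z * g⁻¹)) * g := by group
      _ = g⁻¹ * ((g * z * g⁻¹) * (ℓ p : G)) * g := by rw [e']
      _ = z * (g⁻¹ * (ℓ p : G) * g) := by group)
  let ι0 : alternatingGroup (Fin 6) →* Cz z := MonoidHom.mk' (fun p => ⟨_, hgC p⟩) fun p q => Subtype.ext (by
    show g⁻¹ * (ℓ (p * q) : G) * g = (g⁻¹ * (ℓ p : G) * g) * (g⁻¹ * (ℓ q : G) * g)
    rw [map_mul, Subgroup.coe_mul]; group)
  have hTQ : ∀ t : T1, g⁻¹ * ((t : Cz z) : G) * g ∈ QG Q := fun t => mem_conj.mp (hDP t t.2.2)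
  choose τ0 hτQ hτe using hTQ
  let τ : T1 → Q := fun t => ⟨τ0 t, hτQ t⟩
  have hτ : ∀ t, ((τ t : Cz z) : G) = g⁻¹ * ((t : Cz z) : G) * g := hτe
  have hτmul : ∀ t t', τ (t * t') = τ t * τ t' := fun t t' => Subtype.ext (Subtype.ext (by
    show ((τ (t * t') : Cz z) : G) = ((τ t : Cz z) : G) * ((τ t' : Cz z) : G)
    rw [hτ, hτ, hτ, Subgroup.coe_mul, Subgroup.coe_mul]; group))
  let φ : Additive T1 →+ B.V := AddMonoidHom.mk' (fun t => B.π (τ t.toMul)) fun t t' => by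
    show B.π (τ (t.toMul * t'.toMul)) = _
    rw [hτmul, B.π_mul]
  -- `y` is not centralised by `x`
  have hyK : ∀ t ∈ K', (t : G) ≠ g * z * g⁻¹ := by
    intro t ht e
    apply T.second_ne hF
    have e' : (x : G) * (t : G) = (t : G) * (x : G) := (congrArg Subtype.val (hcx t (hK'K ht))).symm
    rw [← e, e', mul_inv_cancel_right]
  have hφker : ∀ t : T1, B.π (τ t) = 0 → t = 1 := by
    intro t h
    rcases (B.π_zero _).mp h with e | e
    · have e' := congrArg (fun a : Q => ((a : Cz z) : G)) e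
      have e2 : g⁻¹ * ((t : Cz z) : G) * g = 1 := (hτ t).symm.trans e'
      refine Subtype.ext (Subtype.ext ?_)
      calc ((t : Cz z) : G) = g * (g⁻¹ * ((t : Cz z) : G) * g) * g⁻¹ := by group
        _ = 1 := by rw [e2]; group
    · exfalso
      apply hyK _ t.2.1
      rw [hτ] at e
      calc ((t : Cz z) : G) = g * (g⁻¹ * ((t : Cz z) : G) * g) * g⁻¹ := by group
        _ = _ := by rw [e]
  let M0 : AddSubgroup B.V := φ.range
  let M : AddSubgroup B.V := M0.map (DistribSMul.toAddMonoidHom B.V w0)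
  let ι : alternatingGroup (Fin 6) →* (Cz z) ⧸ Q :=
    (MulAut.conj w0).toMonoidHom.comp ((QuotientGroup.mk' Q).comp ι0)
  have hι : ∀ p, ι p = w0 * QuotientGroup.mk (ι0 p) * w0⁻¹ := fun p => rfl
  have hact : ∀ p (t : T1), (QuotientGroup.mk (ι0 p) : (Cz z) ⧸ Q) • B.π (τ t) =
      B.π (τ ⟨_, hℓT p t t.2⟩) := by
    intro p t
    refine B.π_conj (ι0 p) (τ t) _ (Subtype.ext ?_)
    show ((τ ⟨_, hℓT p t t.2⟩ : Cz z) : G) = (g⁻¹ * (ℓ p : G) * g) * ((τ t : Cz z) : G) * (g⁻¹ * (ℓ p : G) * g)⁻¹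
    rw [hτ, hτ]
    show g⁻¹ * ((ℓ p : G) * ((t : Cz z) : G) * (ℓ p : G)⁻¹) * g = _
    group
  refine F.no_complement ι ?_ ?_ M ?_ ?_ ?_ ?_
  · refine (injective_iff_map_eq_one ι).mpr fun p hp => ?_
    rw [hι, conj_eq_one_iff, QuotientGroup.eq_one_iff] at hp
    have hP : ((ℓ p : Cz z) : G) ∈ (QG Q).map (MulAut.conj g).toMonoidHom :=
      mem_conj.mpr ⟨_, hp, rfl⟩
    refine Subtype.ext (F.pure_mem_trivial hBy (m := ρ p) ?_ (B.D.central _ (hρM p)) (hρ p).2)
    rw [← hℓp]; exact mem_Ebar hP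
  · intro p
    rw [MulAction.mem_stabilizer_iff, hι, ← hw0', mul_smul, mul_smul, inv_smul_smul, hcr]
    congr 1
    refine B.π_conj (ι0 p) r r (Subtype.ext ?_)
    show ((r : Cz z) : G) = (g⁻¹ * (ℓ p : G) * g) * ((r : Cz z) : G) * (g⁻¹ * (ℓ p : G) * g)⁻¹
    rw [hr]
    calc g⁻¹ * z * g = g⁻¹ * (z * (ℓ p : G) * (ℓ p : G)⁻¹) * g := by group
      _ = g⁻¹ * ((ℓ p : G) * z * (ℓ p : G)⁻¹) * g := by rw [hzc]
      _ = _ := by group
  · rw [show Nat.card M = Nat.card M0 from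
      (Nat.card_congr (M0.equivMapOfInjective _ (MulAction.injective w0)).toEquiv).symm]
    have hφi : Function.Injective φ := (injective_iff_map_eq_zero φ).mpr fun t ht =>
      congrArg Additive.ofMul (hφker t.toMul ht)
    rw [← hT1card, ← Nat.card_congr (AddMonoidHom.ofInjective hφi).toEquiv]
    rfl
  · rintro _ ⟨_, ⟨t, rfl⟩, rfl⟩
    show B.D.q (w0 • B.π (τ t.toMul)) = 0
    rw [B.D.q_smul, B.π_q, ← hτmul]
    have e : t.toMul * t.toMul = 1 := Subtype.ext (hDsq _ t.toMul.2.2)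
    rw [e]
    exact Subtype.ext (Subtype.ext (by rw [hτ]; simp))
  · rintro p _ ⟨_, ⟨t, rfl⟩, rfl⟩
    refine ⟨_, ⟨Additive.ofMul ⟨_, hℓT p t.toMul t.toMul.2⟩, rfl⟩, ?_⟩
    show w0 • B.π (τ _) = ι p • w0 • B.π (τ t.toMul)
    rw [hι, mul_smul, mul_smul, inv_smul_smul, hact]
    rfl
  · rintro _ ⟨_, ⟨t, rfl⟩, rfl⟩ h1 h2
    have hfix : ∀ p, ι p • (w0 • B.π (τ t.toMul)) = w0 • B.π (τ t.toMul) →
        ρ p * QuotientGroup.mk (t.toMul : Cz z) = QuotientGroup.mk (t.toMul : Cz z) * ρ p := by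
      intro p hp
      rw [hι, mul_smul, mul_smul, inv_smul_smul, hact, smul_left_cancel_iff] at hp
      have hd : B.π (τ (t.toMul⁻¹ * ⟨_, hℓT p t.toMul t.toMul.2⟩)) = 0 := by
        rw [hτmul, B.π_mul, hp]
        have e : τ t.toMul⁻¹ = (τ t.toMul)⁻¹ := by
          refine eq_inv_of_mul_eq_one_left ?_
          rw [← hτmul, inv_mul_cancel]
          exact Subtype.ext (Subtype.ext (by rw [hτ]; simp))
        rw [e, B.π_inv, B.D.two]
      have e : ℓ p * (t.toMul : Cz z) * (ℓ p)⁻¹ = (t.toMul : Cz z) :=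
        (congrArg Subtype.val (inv_mul_eq_one.mp (hφker _ hd))).symm
      rw [← hℓp, ← QuotientGroup.mk_mul, ← QuotientGroup.mk_mul, mul_inv_eq_iff_eq_mul.mp e]
    have ht := t.toMul.2
    have htM := hT1E _ ht
    have h0 : (QuotientGroup.mk (t.toMul : Cz z) : (Cz z) ⧸ Q) = 1 :=
      F.centralizer_nine (B.D.central _ htM.2)
        (by rw [← QuotientGroup.mk_mul, hDsq _ ht.2, QuotientGroup.mk_one])
        (hBy.le htM.1) (B.D.central _ (hρM alt1)) (B.D.central _ (hρM alt2)) (hρ alt1).2 (hρ alt2).2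
        (hfix alt1 h1).symm (hfix alt2 h2).symm
    have ht1 : (t.toMul : Cz z) = 1 := hinj _ ht.1 _ (one_mem _) (by rw [h0, QuotientGroup.mk_one])
    show w0 • B.π (τ t.toMul) = 0
    rw [show B.π (τ t.toMul) = 0 from (B.π_zero _).mpr (Or.inl (Subtype.ext (Subtype.ext (by
      rw [hτ, ht1]; simp)))), smul_zero]

theorem centralizer_three (hF : Cfsg.IsOfLargeFischerTypeAt z Q) (X : Subgroup (Cz z)) (hX : Nat.card X = 3)
    (hXQ : (X ⊔ Q).Normal) :
    Group.IsPerfect (Subgroup.centralizer (X : Set (Cz z))) ∧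
      IsCyclic (Subgroup.center (Subgroup.centralizer (X : Set (Cz z)))) ∧
      Nat.card (Subgroup.center (Subgroup.centralizer (X : Set (Cz z)))) = 6 ∧
      ∃ (K : Type) (_ : Field K) (_ : Fintype K), Fintype.card K = 9 ∧
        Nonempty (↥(Subgroup.centralizer (X : Set (Cz z))) ⧸
          Subgroup.center ↥(Subgroup.centralizer (X : Set (Cz z))) ≃* Cfsg.PSU 4 K 3) := by
  obtain ⟨B⟩ := exists_bridge z Q hF
  obtain ⟨x, rfl, hx⟩ := exists_three B hF X hX hXQ
  obtain ⟨F⟩ := B.D.exists_nframe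
  obtain ⟨g, y, hy, hne⟩ := exists_second hF
  have hBy := B.big hF hy hne
  obtain ⟨s, -⟩ := exists_setting hF ⟨_, y.2, hy⟩ hne
  rw [show Subgroup.centralizer (Subgroup.zpowers x : Set (Cz z)) = Subgroup.centralizer ({x} : Set (Cz z)) by
    rw [Subgroup.zpowers_eq_closure, Subgroup.centralizer_closure]]
  set C := Subgroup.centralizer ({x} : Set (Cz z)) with hC
  have hcx : ∀ c ∈ C, c * x = x * c := fun c hc => Subgroup.mem_centralizer_singleton_iff.mp hc
  have hxC : x ∈ C := Subgroup.mem_centralizer_singleton_iff.mpr rfl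
  let zc : Cz z := ⟨z, Subgroup.mem_centralizer_singleton_iff.mpr rfl⟩
  have hcz : ∀ c : Cz z, c * zc = zc * c := fun c =>
    Subtype.ext (Subgroup.mem_centralizer_singleton_iff.mp c.2)
  have hzC : zc ∈ C := Subgroup.mem_centralizer_singleton_iff.mpr (hcz x).symm
  have hzQ : zc ∈ Q := by
    obtain ⟨q, hq, hqz⟩ := s.es.mem
    exact (Subtype.ext hqz : q = zc) ▸ hq
  -- perfect
  have hCmap : C.map (QuotientGroup.mk' Q) = B.D.Mb := by
    refine le_antisymm ?_ fun m hm => ?_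
    · rintro _ ⟨c, hc, rfl⟩
      exact hx.mk_mem F hBy (hcx c hc)
    · obtain ⟨c, hc, hcm⟩ := hx.exists_lift hF hm
      exact ⟨c, Subgroup.mem_centralizer_singleton_iff.mpr hc, hcm⟩
  obtain ⟨a, ha, haz⟩ := z_mem_commutator hx hF
  obtain rfl : a = zc := Subtype.ext haz
  have hle : C ≤ ⁅C, C⁆ := by
    intro c hc
    have hm : (QuotientGroup.mk c : (Cz z) ⧸ Q) ∈ ⁅C, C⁆.map (QuotientGroup.mk' Q) := by
      rw [Subgroup.map_commutator, hCmap]
      exact F.Mb_le_commutator B.simple (hCmap ▸ ⟨c, hc, rfl⟩)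
    obtain ⟨c', hc', hcc⟩ := hm
    have hQ' : c'⁻¹ * c ∈ Q := QuotientGroup.eq.mp hcc
    have hc'C : c' ∈ C := (Subgroup.commutator_le.mpr fun a ha b hb =>
      mul_mem (mul_mem (mul_mem ha hb) (inv_mem ha)) (inv_mem hb) : ⁅C, C⁆ ≤ C) hc'
    rcases hx.fixed_Q F (q := ⟨_, hQ'⟩) (hcx _ (mul_mem (inv_mem hc'C) hc)) with e | e
    · exact (inv_mul_eq_one.mp (congrArg Subtype.val e)) ▸ hc'
    · have e2 : c'⁻¹ * c = zc := Subtype.ext e
      rw [show c = c' * zc by rw [← e2]; group]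
      exact mul_mem hc' ha
  have hperf : Group.IsPerfect C := by
    constructor
    rw [eq_top_iff]
    intro c _
    obtain ⟨c', hc', hcc⟩ : (c : Cz z) ∈ (commutator C).map C.subtype := by
      rw [Subgroup.map_subtype_commutator]
      exact hle c.2
    exact (Subtype.ext hcc : c' = c) ▸ hc'
  -- centre
  have hcen : ∀ c : C, c ∈ Subgroup.center C ↔
      (QuotientGroup.mk (c : Cz z) : (Cz z) ⧸ Q) ∈ Subgroup.zpowers B.D.h := by
    intro c
    constructor
    · intro hc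
      refine NFrame.central_le B.simple (hCmap ▸ ⟨_, c.2, rfl⟩) fun m hm => ?_
      obtain ⟨d, hd, rfl⟩ := (hCmap.symm ▸ hm : m ∈ C.map (QuotientGroup.mk' Q))
      have e := congrArg Subtype.val (Subgroup.mem_center_iff.mp hc ⟨d, hd⟩)
      show (QuotientGroup.mk d : (Cz z) ⧸ Q) * QuotientGroup.mk (c : Cz z) = _
      rw [← QuotientGroup.mk_mul, show d * (c : Cz z) = (c : Cz z) * d from e, QuotientGroup.mk_mul]
      rfl
    · rintro ⟨k, hk⟩
      have hk' : (QuotientGroup.mk (x ^ k) : (Cz z) ⧸ Q) = QuotientGroup.mk (c : Cz z) := by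
        rw [QuotientGroup.mk_zpow, hx.map]; exact hk
      have hQ' := QuotientGroup.eq.mp hk'
      rw [Subgroup.mem_center_iff]
      intro d
      apply Subtype.ext
      have hdx : Commute (d : Cz z) (x ^ k) := (Commute.zpow_right (hcx d d.2 : Commute (d : Cz z) x) k)
      have hxk : Commute (x ^ k) x := (Commute.refl x).zpow_left k
      rcases hx.fixed_Q F (q := ⟨_, hQ'⟩) ((Commute.mul_left hxk.inv_left (hcx _ c.2)).eq) with e | e
      · rw [Subgroup.coe_mul, Subgroup.coe_mul, ← inv_mul_eq_one.mp (congrArg Subtype.val e)]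
        exact hdx.eq
      · have e2 : (x ^ k)⁻¹ * (c : Cz z) = zc := Subtype.ext e
        rw [Subgroup.coe_mul, Subgroup.coe_mul, show (c : Cz z) = x ^ k * zc by rw [← e2]; group]
        exact (hdx.mul_right (hcz d)).eq
  -- the six elements
  let gen : C := ⟨x * zc, mul_mem hxC hzC⟩
  have hgen : gen ∈ Subgroup.center C := (hcen _).mpr (by
    show (QuotientGroup.mk (x * zc) : (Cz z) ⧸ Q) ∈ _
    rw [QuotientGroup.mk_mul, (QuotientGroup.eq_one_iff zc).mpr hzQ, mul_one, hx.map]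
    exact Subgroup.mem_zpowers _)
  have hzo : orderOf zc = 2 := by
    rw [← Subgroup.orderOf_coe]
    exact hF.1.1
  have hgo : orderOf gen = 6 := by
    rw [← Subgroup.orderOf_coe]
    show orderOf (x * zc) = 6
    rw [Commute.orderOf_mul_eq_mul_orderOf_of_coprime (hcz x : Commute x zc) (by rw [hx.order, hzo]; decide),
      hx.order, hzo]
  have hcencard : Nat.card (Subgroup.center C) ≤ 6 := by
    classical
    have hz3 : Nat.card (Subgroup.zpowers B.D.h) = 3 := by rw [Nat.card_zpowers, B.D.h_order]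
    let f : Subgroup.center C →* (Cz z) ⧸ Q :=
      (QuotientGroup.mk' Q).comp (C.subtype.comp (Subgroup.center C).subtype)
    have hr : f.range ≤ Subgroup.zpowers B.D.h := by rintro _ ⟨c, rfl⟩; exact (hcen _).mp c.2
    have hk : Nat.card f.ker ≤ 2 := by
      have h := Nat.card_le_card_of_injective
        (fun c : f.ker => decide (((c.1.1 : C) : Cz z) = 1)) fun a b h => by
          simp only [decide_eq_decide] at h
          have hq : ∀ c : f.ker, ((c.1.1 : C) : Cz z) = 1 ∨ ((c.1.1 : C) : Cz z) = zc := fun c => by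
            have hQ' : ((c.1.1 : C) : Cz z) ∈ Q := (QuotientGroup.eq_one_iff (N := Q) _).mp c.2
            rcases hx.fixed_Q F (q := ⟨_, hQ'⟩) (hcx _ c.1.1.2) with e | e
            exacts [Or.inl (congrArg Subtype.val e), Or.inr (Subtype.ext e)]
          apply Subtype.ext; apply Subtype.ext; apply Subtype.ext
          rcases hq a with ea | ea <;> rcases hq b with eb | eb
          · rw [ea, eb]
          · rw [ea, h.mp ea]
          · rw [eb, h.mpr eb]
          · rw [ea, eb]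
      rwa [Nat.card_eq_fintype_card (α := Bool), Fintype.card_bool] at h
    have h2 := Subgroup.card_eq_card_quotient_mul_card_subgroup f.ker
    rw [Nat.card_congr (QuotientGroup.quotientKerEquivRange f).toEquiv] at h2
    rw [h2]
    exact Nat.mul_le_mul ((Subgroup.card_le_of_le hr).trans hz3.le) hk
  have heq : Subgroup.zpowers gen = Subgroup.center C :=
    Subgroup.eq_of_le_of_card_ge (Subgroup.zpowers_le.mpr hgen)
      (by rw [Nat.card_zpowers, hgo]; exact hcencard)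
  -- the quotient
  haveI := B.Nn
  have hCM : ∀ c : C, (c : Cz z) ∈ B.M := fun c => by
    obtain ⟨m, hm, hmc⟩ : (QuotientGroup.mk (c : Cz z) : (Cz z) ⧸ Q) ∈ B.M.map (QuotientGroup.mk' Q) := by
      rw [B.map_M, ← hCmap]; exact ⟨_, c.2, rfl⟩
    have h := mul_mem hm ((B.Q_le.trans B.N_le) (QuotientGroup.eq.mp hmc))
    rwa [mul_inv_cancel_left] at h
  let ψ : C →* B.M ⧸ B.N.subgroupOf B.M :=
    (QuotientGroup.mk' _).comp (C.subtype.codRestrict B.M hCM)
  have hψs : Function.Surjective ψ := by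
    intro t
    induction t using QuotientGroup.induction_on with
    | H m =>
      obtain ⟨c, hc, hcm⟩ : (QuotientGroup.mk (m : Cz z) : (Cz z) ⧸ Q) ∈ C.map (QuotientGroup.mk' Q) := by
        rw [hCmap, ← B.map_M]; exact ⟨_, m.2, rfl⟩
      refine ⟨⟨c, hc⟩, QuotientGroup.eq.mpr ?_⟩
      exact B.Q_le (QuotientGroup.eq.mp hcm)
  have hψk : ψ.ker = Subgroup.center C := by
    ext c
    rw [hcen, MonoidHom.mem_ker]
    constructor
    · intro h
      have hN : (c : Cz z) ∈ B.N := (QuotientGroup.eq_one_iff (N := B.N.subgroupOf B.M) _).mp h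
      rw [← B.map_N]
      exact ⟨_, hN, rfl⟩
    · intro h
      rw [← B.map_N] at h
      obtain ⟨n, hn, hnc⟩ := h
      refine (QuotientGroup.eq_one_iff (N := B.N.subgroupOf B.M) _).mpr ?_
      show (c : Cz z) ∈ B.N
      have hd := mul_mem hn (B.Q_le (QuotientGroup.eq.mp hnc))
      rwa [mul_inv_cancel_left] at hd
  letI := B.fieldK
  letI := B.fintypeK
  refine ⟨hperf, heq ▸ (inferInstance : IsCyclic (Subgroup.zpowers gen)),
    by rw [← heq, Nat.card_zpowers, hgo], B.K, B.fieldK, B.fintypeK, B.cardK, ⟨?_⟩⟩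
  exact ((QuotientGroup.quotientMulEquivOfEq hψk.symm).trans
    (QuotientGroup.quotientKerEquivOfSurjective ψ hψs)).trans (MulEquiv.ofBijective B.quot B.quot_bij)

end Cfsg.Agent.Lib.LargeFischer13
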