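import Cfsg.Agent.Lib.LargeFischer13.StabR

/-!
Facts about the abstract group needed for the centraliser of a subgroup of order three above `Q`:
no element acts as a transvection, the Sylow 3-subgroup of the pure permutations fixing `ones` has no
involution in its centraliser, the index-two subgroup is perfect.
-/

set_option autoImplicit false
set_option linter.style.haveILetI false
set_option linter.unusedSectionVars false

namespace Cfsg.Agent.Lib.LargeFischer13

open Model

/-- scalar multiple of a coordinate vector -/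
def Model.scl : Option (ZMod 3) → Model.Coord → Model.Coord
  | none, _ => fun _ => none
  | some k, c => fun i => (c i).map (· + k)

/-- a weight two vector that a transvection at `ones` would move out of its orbit -/
def Model.cMix : Model.Coord := fun i => if i = 0 then some 0 else if i = 1 then some 1 else none

theorem Model.isU_cMix : Model.IsU Model.cMix := by left; unfold Model.cMix; decide

instance : DecidablePred Model.IsU := fun c => by unfold Model.IsU; infer_instance

theorem transvection_const : ∀ o : Option (ZMod 3),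
    IsU (fun i => oadd (oadd (cMix i) o) (o.map (· + (1 : ZMod 3)))) → o = none := by
  decide +kernel

/-- step one on the first triple -/
theorem triple_off_one : ∀ c : Coord, (∀ i, c (cyc2 i) = c i) → wt c % 2 = 1 →
    (∀ k : ZMod 3, IsU fun i => oadd ((c i).map (· + k)) (c (cyc1.symm i))) →
      c 3 = none ∧ c 4 = none ∧ c 5 = none := by
  intro c hf
  have h4 : c 4 = c 3 := hf 3
  have h5 : c 5 = c 4 := hf 4
  have e : c = ![c 0, c 1, c 2, c 3, c 3, c 3] := by
    funext i; fin_cases i <;> simp [h4, h5]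
  rw [e]
  have key : ∀ p q r u : Option (ZMod 3), wt ![p, q, r, u, u, u] % 2 = 1 →
      (∀ k : ZMod 3, IsU fun i => oadd ((![p, q, r, u, u, u] i).map (· + k))
        (![p, q, r, u, u, u] (cyc1.symm i))) → u = none := by
    decide +kernel
  intro h1 h2
  have := key _ _ _ _ h1 h2
  exact ⟨this, this, this⟩

/-- step one on the second triple -/
theorem triple_off_two : ∀ c : Coord, (∀ i, c (cyc1 i) = c i) → wt c % 2 = 1 →
    (∀ k : ZMod 3, IsU fun i => oadd ((c i).map (· + k)) (c (cyc2.symm i))) →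
      c 0 = none ∧ c 1 = none ∧ c 2 = none := by
  intro c hf
  have h4 : c 1 = c 0 := hf 0
  have h5 : c 2 = c 1 := hf 1
  have e : c = ![c 0, c 0, c 0, c 3, c 4, c 5] := by
    funext i; fin_cases i <;> simp [h4, h5]
  rw [e]
  have key : ∀ p q r u : Option (ZMod 3), wt ![u, u, u, p, q, r] % 2 = 1 →
      (∀ k : ZMod 3, IsU fun i => oadd ((![u, u, u, p, q, r] i).map (· + k))
        (![u, u, u, p, q, r] (cyc2.symm i))) → u = none := by
    decide +kernel
  intro h1 h2
  have := key _ _ _ _ h1 h2
  exact ⟨this, this, this⟩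

/-- step two on the first triple -/
theorem triple_one : ∀ c : Coord, c 3 = none → c 4 = none → c 5 = none → wt c % 2 = 1 →
    oadd (oadd (c 0) (c 1)) (c 2) = some 0 →
    (∀ i, oadd (oadd (scl (c 0) c i) (scl (c 1) (fun l => c (cyc1.symm l)) i))
      (scl (c 2) (fun l => c (cyc1.symm (cyc1.symm l))) i) = unit 0 (some 0) i) →
      c = unit 0 (some 0) := by
  intro c z0 z1 z2
  have e : c = ![c 0, c 1, c 2, none, none, none] := by
    funext x; fin_cases x <;> simp [z0, z1, z2]
  have key : ∀ p q r : Option (ZMod 3), wt ![p, q, r, none, none, none] % 2 = 1 → oadd (oadd p q) r = some 0 →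
      (∀ x, oadd (oadd (scl p ![p, q, r, none, none, none] x) (scl q (fun l => ![p, q, r, none, none, none] (cyc1.symm l)) x))
        (scl r (fun l => ![p, q, r, none, none, none] (cyc1.symm (cyc1.symm l))) x) = unit 0 (some 0) x) →
      ∀ x, ![p, q, r, none, none, none] x = unit 0 (some 0) x := by
    decide +kernel
  intro h1 h2 h3
  have := key (c 0) (c 1) (c 2)
  rw [← e] at this
  exact funext (this h1 h2 h3)

/-- step two on the second triple -/
theorem triple_two : ∀ c : Coord, c 0 = none → c 1 = none → c 2 = none → wt c % 2 = 1 →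
    oadd (oadd (c 3) (c 4)) (c 5) = some 0 →
    (∀ i, oadd (oadd (scl (c 3) c i) (scl (c 4) (fun l => c (cyc2.symm l)) i))
      (scl (c 5) (fun l => c (cyc2.symm (cyc2.symm l))) i) = unit 3 (some 0) i) →
      c = unit 3 (some 0) := by
  intro c z0 z1 z2
  have e : c = ![none, none, none, c 3, c 4, c 5] := by
    funext x; fin_cases x <;> simp [z0, z1, z2]
  have key : ∀ p q r : Option (ZMod 3), wt ![none, none, none, p, q, r] % 2 = 1 → oadd (oadd p q) r = some 0 →
      (∀ x, oadd (oadd (scl p ![none, none, none, p, q, r] x) (scl q (fun l => ![none, none, none, p, q, r] (cyc2.symm l)) x))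
        (scl r (fun l => ![none, none, none, p, q, r] (cyc2.symm (cyc2.symm l))) x) = unit 3 (some 0) x) →
      ∀ x, ![none, none, none, p, q, r] x = unit 3 (some 0) x := by
    decide +kernel
  intro h1 h2 h3
  have := key (c 3) (c 4) (c 5)
  rw [← e] at this
  exact funext (this h1 h2 h3)

namespace NFrame

variable {W : Type*} [Group W] [Finite W] {V : Type*} [AddCommGroup V] [Finite V]
  [DistribMulAction W V] {D : Core W V} (F : NFrame D)

include F

theorem h_smul_vec (c : Coord) : D.h • F.vec c = F.vec (shift (fun _ => 1) c) := by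
  have := F.hpow_vec 1 c
  rwa [show (1 : ZMod 3).val = 1 from rfl, pow_one] at this

theorem fixed_zero {v : V} (hv : D.h • v = v) : v = 0 := by
  obtain ⟨c, rfl⟩ := F.exists_coord v
  rw [F.h_smul_vec] at hv
  have e := F.vec_inj hv
  rw [show c = fun _ => none from funext fun j => by
    have := congrFun e j
    cases hj : c j with
    | none => rfl
    | some a => simp [shift, hj] at this]
  exact F.vec_zero

/-- fixed vectors of an element inverting `h` form a set with small intersection with its `h`-image -/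
theorem semilinear_fixed {w : W} (hw : w * D.h * w⁻¹ = D.h⁻¹) {v : V} (h1 : w • v = v)
    (h2 : w • D.h • v = D.h • v) : v = 0 := by
  refine F.fixed_zero ?_
  have h3 : w • D.h • v = D.h⁻¹ • v := by
    rw [← hw, mul_smul, mul_smul, show w⁻¹ • v = v by rw [inv_smul_eq_iff, h1]]
  rw [h2, eq_inv_smul_iff] at h3
  -- `h²` fixes `v`, hence so does `h`
  calc D.h • v = D.h • D.h • D.h • v := by rw [h3]
    _ = v := D.smul_cube D.h_A v

theorem semilinear_card {w : W} (hw : w * D.h * w⁻¹ = D.h⁻¹) (S : AddSubgroup V)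
    (hS : ∀ x ∈ S, D.h • x ∈ S) (J : AddSubgroup V) (hJS : J ≤ S) (hJ : ∀ x ∈ J, w • x = x) :
    Nat.card J * Nat.card J ≤ Nat.card S := by
  rw [← Nat.card_prod]
  refine Nat.card_le_card_of_injective
    (fun p : J × J => (⟨p.1.1 + D.h • p.2.1, S.add_mem (hJS p.1.2) (hS _ (hJS p.2.2))⟩ : S))
    fun p p' h => ?_
  have h' : p.1.1 + D.h • p.2.1 = p'.1.1 + D.h • p'.2.1 := congrArg Subtype.val h
  have e : (p.1.1 + p'.1.1 : V) = D.h • (p.2.1 + p'.2.1) := by
    have h1 : ∀ a c : V, a + c = a - c := fun a c => by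
      rw [sub_eq_add_neg, neg_eq_of_add_eq_zero_left (D.two c)]
    calc (p.1.1 + p'.1.1 : V) = p.1.1 + D.h • p.2.1 + p'.1.1 + D.h • p.2.1 := by
          rw [add_right_comm p.1.1 (D.h • p.2.1), add_assoc (p.1.1 + p'.1.1), D.two, add_zero]
      _ = p'.1.1 + D.h • p'.2.1 + p'.1.1 + D.h • p.2.1 := by rw [h']
      _ = D.h • (p.2.1 + p'.2.1) := by
          rw [add_right_comm p'.1.1 (D.h • p'.2.1), D.two, zero_add, smul_add, add_comm]
  have h2 : p.2.1 + p'.2.1 = 0 := by
    refine F.semilinear_fixed hw (hJ _ (J.add_mem p.2.2 p'.2.2)) ?_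
    rw [← e]
    exact hJ _ (J.add_mem p.1.2 p'.1.2)
  rw [h2, smul_zero] at e
  have hz : ∀ a c : V, a + c = 0 → a = c := fun a c hac => add_right_cancel (hac.trans (D.two c).symm)
  exact Prod.ext (Subtype.ext (hz _ _ e)) (Subtype.ext (hz _ _ h2))

theorem no_transvection_ones {x : V} {Wn : Subgroup W} (hB : Big D x Wn) {w : W}
    (hw : ∀ v, D.b v (F.vec ones) = 0 → w • v + v = 0 ∨ w • v + v = F.vec ones) : w = 1 := by
  classical
  by_cases hc : w * D.h = D.h * w
  swap
  · exfalso
    have hw' := D.inv_of_not_comm hc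
    let S : AddSubgroup V :=
      { carrier := {v | D.b v (F.vec ones) = 0}
        add_mem' := fun {a c} ha hb => by
          show D.b (a + c) _ = 0
          rw [D.b_add_left, show D.b a _ = 0 from ha, show D.b c _ = 0 from hb, add_zero]
        zero_mem' := D.b_zero_left _
        neg_mem' := fun {a} ha => by
          rwa [neg_eq_of_add_eq_zero_left (D.two a)] }
    let J : AddSubgroup V :=
      { carrier := {v | v ∈ S ∧ w • v = v}
        add_mem' := fun {a c} ha hb => ⟨S.add_mem ha.1 hb.1, by rw [smul_add, ha.2, hb.2]⟩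
        zero_mem' := ⟨S.zero_mem, smul_zero w⟩
        neg_mem' := fun {a} ha => ⟨S.neg_mem ha.1, by rw [smul_neg, ha.2]⟩ }
    have h1 := F.semilinear_card hw' ⊤ (fun _ _ => AddSubgroup.mem_top _) J le_top fun v hv => hv.2
    rw [AddSubgroup.card_top, D.cardV] at h1
    -- `J` has index at most two in `S`, `S` index at most two in `V`
    have hS2 : 2048 ≤ Nat.card S := by
      have h := Nat.card_le_card_of_injective
        (fun v : V => ((⟨if D.b v (F.vec ones) = 0 then v else v + F.vec (Model.unit 0 (some 1)), by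
          split_ifs with hv
          · exact hv
          · show D.b (v + _) _ = 0
            have key : ∀ a c : ZMod 2, a ≠ 0 → c = 1 → a + c = 0 := by decide
            rw [D.b_add_left]
            refine key _ _ hv ?_
            rw [D.b_comm, F.b_unit]
            simp [ones]⟩ : S), decide (D.b v (F.vec ones) = 0))) fun a c h => by
        simp only [Prod.mk.injEq, Subtype.mk.injEq, decide_eq_decide] at h
        by_cases ha : D.b a (F.vec ones) = 0
        · rw [if_pos ha, if_pos (h.2.mp ha)] at h; exact h.1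
        · rw [if_neg ha, if_neg fun hb => ha (h.2.mpr hb)] at h
          exact add_right_cancel h.1
      rw [D.cardV, Nat.card_prod, Nat.card_eq_fintype_card (α := Bool), Fintype.card_bool] at h
      omega
    have hJ2 : Nat.card S ≤ 2 * Nat.card J := by
      by_cases hall : ∀ v ∈ S, w • v = v
      · have := AddSubgroup.card_le_of_le (show S ≤ J from fun v hv => ⟨hv, hall v hv⟩)
        omega
      push Not at hall
      obtain ⟨v0, hv0, hne⟩ := hall
      have e0 : w • v0 + v0 = F.vec ones :=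
        (hw v0 hv0).resolve_left fun h => hne (add_right_cancel (h.trans (D.two v0).symm))
      have h := Nat.card_le_card_of_injective
        (fun v : S => ((⟨if w • v.1 = v.1 then v.1 else v.1 + v0, by
          split_ifs with hv
          · exact ⟨v.2, hv⟩
          · refine ⟨S.add_mem v.2 hv0, ?_⟩
            have ev : w • v.1 + v.1 = F.vec ones :=
              (hw _ v.2).resolve_left fun h => hv (add_right_cancel (h.trans (D.two v.1).symm))
            apply add_right_cancel (b := v.1 + v0)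
            rw [smul_add, D.two, add_add_add_comm, ev, e0, D.two]⟩ : J), decide (w • v.1 = v.1)))
        fun a c h => by
          simp only [Prod.mk.injEq, Subtype.mk.injEq, decide_eq_decide] at h
          by_cases ha : w • a.1 = a.1
          · rw [if_pos ha, if_pos (h.2.mp ha)] at h; exact Subtype.ext h.1
          · rw [if_neg ha, if_neg fun hb => ha (h.2.mpr hb)] at h
            exact Subtype.ext (add_right_cancel h.1)
      rw [Nat.card_prod, Nat.card_eq_fintype_card (α := Bool), Fintype.card_bool] at h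
      omega
    have hJ : 1024 ≤ Nat.card J := by omega
    have := Nat.mul_le_mul hJ hJ
    omega
  -- linear: the vectors orthogonal to `ones` and `h • ones` are fixed
  have hM := F.mem_Mb_of_comm hB hc
  have hfix : ∀ v, D.b v (F.vec ones) = 0 → D.b (D.h • v) (F.vec ones) = 0 → w • v = v := by
    intro v h1 h2
    refine add_right_cancel ((?_ : w • v + v = 0).trans (D.two v).symm)
    rcases hw v h1 with e | e
    · exact e
    exfalso
    have e2 : w • D.h • v + D.h • v = D.h • (w • v + v) := by rw [smul_add, D.smul_h_comm hM]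
    rw [e, F.h_smul_vec ones] at e2
    rcases hw _ h2 with e3 | e3 <;> rw [e3] at e2
    · rw [← F.vec_zero] at e2
      exact absurd (congrFun (F.vec_inj e2) 0) (by simp [shift, ones])
    · exact absurd (congrFun (F.vec_inj e2) 0) (by simp [shift, ones])
  -- two equal unit vectors give a fixed vector
  have hpair : ∀ i, w • (F.v i + F.v 0) = F.v i + F.v 0 := by
    intro i
    rcases eq_or_ne i 0 with rfl | hi
    · rw [D.two, smul_zero]
    have hu : ∀ j k, D.b (F.vec (Model.unit j (some k))) (F.vec ones) = if (0 : ZMod 3) = k then 0 else 1 := by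
      intro j k; rw [D.b_comm, F.b_unit]; rfl
    have hv : ∀ j, F.v j = F.vec (Model.unit j (some 0)) := fun j => by rw [F.vec_unit]; simp [Core.lineEl]
    have hhv : ∀ j, D.h • F.v j = F.vec (Model.unit j (some 1)) := fun j => by
      rw [F.vec_unit]; simp [Core.lineEl, show (1 : ZMod 3).val = 1 from rfl]
    refine hfix _ ?_ ?_
    · rw [D.b_add_left, hv, hv, hu, hu]; rfl
    · rw [smul_add, D.b_add_left, hhv, hhv, hu, hu]; rfl
  obtain ⟨d, hd⟩ := F.exists_coord (w • F.v 0 + F.v 0)
  have hall : ∀ i, w • F.v i = F.v i + F.vec d := by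
    intro i
    rw [hd]
    have e := hpair i
    rw [smul_add] at e
    apply add_right_cancel (b := w • F.v 0)
    rw [e]
    calc F.v i + F.v 0 = F.v i + F.v 0 + (w • F.v 0 + w • F.v 0) := by rw [D.two, add_zero]
      _ = _ := by abel
  -- `d` is orthogonal to the fixed vectors, hence constant
  have hperp : ∀ i, D.b (F.v i + F.v 0) (F.vec d) = 0 ∧ D.b (D.h • (F.v i + F.v 0)) (F.vec d) = 0 := by
    intro i
    have hz : ∀ u, w • u = u → D.b u (F.vec d) = 0 := by
      intro u hu
      rw [hd, D.b_add_right]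
      nth_rewrite 1 [← hu]
      rw [D.b_smul]
      exact CharTwo.add_self_eq_zero _
    refine ⟨hz _ (hpair i), hz _ ?_⟩
    rw [D.smul_h_comm hM, hpair]
  have hconst : ∀ i, d i = d 0 := by
    intro i
    have hv : ∀ j, F.v j = F.vec (Model.unit j (some 0)) := fun j => by rw [F.vec_unit]; simp [Core.lineEl]
    have hhv : ∀ j, D.h • F.v j = F.vec (Model.unit j (some 1)) := fun j => by
      rw [F.vec_unit]; simp [Core.lineEl, show (1 : ZMod 3).val = 1 from rfl]
    obtain ⟨h1, h2⟩ := hperp i
    rw [D.b_add_left, D.b_comm, hv, F.b_unit, D.b_comm, hv, F.b_unit] at h1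
    rw [smul_add, D.b_add_left, D.b_comm, hhv, F.b_unit, D.b_comm, hhv, F.b_unit] at h2
    revert h1 h2
    generalize d i = p, d 0 = q
    revert p q
    decide
  -- test on a vector of weight two
  have hone : d 0 = none := by
    refine transvection_const (d 0) (F.isU_smul isU_cMix (w := w) ?_)
    rw [show F.vec cMix = F.v 0 + D.h • F.v 1 by
      rw [show F.v 0 = F.vec (Model.unit 0 (some 0)) by rw [F.vec_unit]; simp [Core.lineEl],
        show D.h • F.v 1 = F.vec (Model.unit 1 (some 1)) by
          rw [F.vec_unit]; simp [Core.lineEl, show (1 : ZMod 3).val = 1 from rfl],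
        F.vec_add]
      congr 1
      funext i
      revert i
      decide +kernel,
      smul_add, D.smul_h_comm hM, hall, hall, smul_add, F.h_smul_vec d]
    rw [show F.v 0 + F.vec d + (D.h • F.v 1 + F.vec (shift (fun _ => 1) d)) =
      (F.v 0 + D.h • F.v 1) + F.vec d + F.vec (shift (fun _ => 1) d) by abel,
      show F.v 0 + D.h • F.v 1 = F.vec cMix by
      rw [show F.v 0 = F.vec (Model.unit 0 (some 0)) by rw [F.vec_unit]; simp [Core.lineEl],
        show D.h • F.v 1 = F.vec (Model.unit 1 (some 1)) by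
          rw [F.vec_unit]; simp [Core.lineEl, show (1 : ZMod 3).val = 1 from rfl],
        F.vec_add]
      congr 1
      funext i
      revert i
      decide +kernel,
      F.vec_add, F.vec_add]
    congr 1
    funext i
    simp only [shift, hconst i]
  have hd0 : F.vec d = 0 := by
    rw [show d = fun _ => none from funext fun i => (hconst i).trans hone, F.vec_zero]
  refine F.eq_of_basis hc (by rw [one_mul, mul_one]) (π := 1) (σ := fun _ => 0) (fun i => ?_) F.isMono_one
  rw [hall, hd0, add_zero]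
  simp [Core.lineEl]

/-- no element moves every vector orthogonal to `u` by a multiple of `u` -/
theorem no_transvection {u : V} {Wn : Subgroup W} (hB : Big D u Wn) {w : W}
    (hw : ∀ v, D.b v u = 0 → w • v + v = 0 ∨ w • v + v = u) : w = 1 := by
  obtain ⟨c, rfl⟩ := F.exists_coord u
  obtain ⟨t, ht⟩ := F.transR c ones (F.isR_of_big hB) isR_ones
  have ht' : t • F.vec c = F.vec ones := ht
  have h := F.no_transvection_ones hB (w := t * w * t⁻¹) fun v hv => by
    have hv' : D.b (t⁻¹ • v) (F.vec c) = 0 := by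
      rw [← D.b_smul t, smul_inv_smul, ht']; exact hv
    rcases hw _ hv' with e | e
    · left
      rw [mul_smul, mul_smul]
      have := congrArg (t • ·) e
      simpa [smul_add] using this
    · right
      rw [mul_smul, mul_smul, ← ht']
      have := congrArg (t • ·) e
      simpa [smul_add] using this
  exact conj_eq_one_iff.mp h

/-- outside the index-two subgroup there is an element of the stabiliser -/
theorem exists_stab_outer {x : V} {Wn : Subgroup W} (hB : Big D x Wn) :
    ∃ c ∈ MulAction.stabilizer W x, c ∉ D.Mb := by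
  obtain ⟨n, hn, hnA⟩ := F.exists_outer
  have hni := F.inverts hB hn
  obtain ⟨π, σ, hm⟩ := F.exists_mono_of_norm hnA
  have hπ := F.semilinear_odd hB hni hm
  obtain ⟨p, hp, hpm⟩ := F.exists_pure (Equiv.swap 0 1 * π⁻¹) (by
    rw [map_mul, map_inv, hπ, Equiv.Perm.sign_swap (by decide)]; rfl)
  have hpc : p * D.h = D.h * p := D.central p (D.P_le hp)
  have e1 : F.IsMono (p * n) (Equiv.swap 0 1) σ := by
    have e := F.mono_mul hpc hpm hm
    simpa using e
  obtain ⟨a, ha, hak⟩ := F.diag' (fun i => tauC i - σ (Equiv.swap 0 1 i)) (by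
    rw [Finset.sum_sub_distrib, Equiv.sum_comp (Equiv.swap (0 : Fin 6) 1) σ, F.sum_inv hni hm]
    decide +kernel)
  have hac : a * D.h = D.h * a := D.central a (D.A_le_Mb ha)
  have e2 : F.IsMono (a * (p * n)) (Equiv.swap 0 1) tauC := by
    have e := F.mono_mul hac (π := 1) hak e1
    rw [one_mul] at e
    convert e using 1
    funext i
    rw [Equiv.swap_apply_self, add_sub_cancel, show tauC (Equiv.swap 0 1 i) = tauC i from
      (by decide +kernel : ∀ i, tauC (Equiv.swap 0 1 i) = tauC i) i]
  have hci : (a * (p * n)) * D.h * (a * (p * n))⁻¹ = D.h⁻¹ := by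
    have hap : Commute (a * p) D.h := Commute.mul_left hac hpc
    calc a * (p * n) * D.h * (a * (p * n))⁻¹ = (a * p) * (n * D.h * n⁻¹) * (a * p)⁻¹ := by group
      _ = _ := by rw [hni, hap.inv_right.eq, mul_inv_cancel_right]
  have hcS : (a * (p * n)) • F.vec cR = F.vec cR := by
    rw [F.smul_vec_inv hci e2]
    congr 1
    funext i
    revert i
    decide +kernel
  have hcM : a * (p * n) ∉ D.Mb := by
    rw [D.Mb.mul_mem_cancel_left (D.A_le_Mb ha), D.Mb.mul_mem_cancel_left (D.P_le hp)]
    exact hn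
  obtain ⟨d, rfl⟩ := F.exists_coord x
  obtain ⟨t, ht⟩ := F.transR cR d isR_cR (F.isR_of_big hB)
  have ht' : t • F.vec cR = F.vec d := ht
  refine ⟨t * (a * (p * n)) * t⁻¹, ?_, fun h => hcM ?_⟩
  · rw [MulAction.mem_stabilizer_iff, ← ht', mul_smul, mul_smul, inv_smul_smul, hcS]
  · have := D.conj_mem_Mb t⁻¹ h
    simpa [mul_assoc] using this

/-- the elementary subgroup has an element outside `Mb`, and at most sixteen inside -/
theorem big_outer {Wn : Subgroup W} (hB : Big D (F.vec ones) Wn) :
    (∃ e ∈ Wn, e ∉ D.Mb) ∧ Nat.card (Wn ⊓ D.Mb : Subgroup W) ≤ 16 := by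
  obtain ⟨hc32, -⟩ := F.big_structure hB
  obtain ⟨c, hc, hcM⟩ := F.exists_stab_outer hB
  have hex : ∃ e ∈ Wn, e ∉ D.Mb := by
    obtain ⟨ρ, hρ⟩ := F.exists_rho
    obtain ⟨hc32, ρ', hρ'S, hρ'W, -⟩ := F.big_structure hB
    have hρc : ∀ p, ρ p * D.h = D.h * ρ p := fun p => D.central _ (D.P_le (hρ p).1)
    set S := MulAction.stabilizer W (F.vec ones) with hS
    have hρS : ∀ p, ρ p ∈ S := fun p => by
      rw [hS, MulAction.mem_stabilizer_iff, F.smul_vec_comm (hρc p) (hρ p).2, move_ones]
    let f : alternatingGroup (Fin 6) → S ⧸ Wn.subgroupOf S := fun p => QuotientGroup.mk ⟨ρ p, hρS p⟩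
    have hinj : Function.Injective f := fun p p' he => by
      have h0 : (⟨ρ p, hρS p⟩ : S)⁻¹ * ⟨ρ p', hρS p'⟩ ∈ Wn.subgroupOf S := QuotientGroup.eq.mp he
      have h1 : (ρ p)⁻¹ * ρ p' ∈ Wn := h0
      rw [← map_inv, ← map_mul] at h1
      exact inv_mul_eq_one.mp (Subtype.ext (F.pure_mem_trivial hB h1 (hρc _) (hρ _).2))
    have h360 : Nat.card (alternatingGroup (Fin 6)) = 360 := by
      rw [nat_card_alternatingGroup, Nat.card_eq_fintype_card, Fintype.card_fin]; rfl
    have hmul := Subgroup.card_eq_card_quotient_mul_card_subgroup (Wn.subgroupOf S)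
    rw [hS, F.card_stab_R isR_ones, Nat.card_congr (Subgroup.subgroupOfEquivOfLe hB.le).toEquiv, hc32,
      ← hS] at hmul
    obtain ⟨p, hp⟩ := ((Nat.bijective_iff_injective_and_card f).mpr ⟨hinj, by omega⟩).2
      (QuotientGroup.mk (⟨c, hc⟩ : S))
    have h0 : (⟨ρ p, hρS p⟩ : S)⁻¹ * ⟨c, hc⟩ ∈ Wn.subgroupOf S := QuotientGroup.eq.mp hp
    exact ⟨(ρ p)⁻¹ * c, h0, by rwa [D.Mb.mul_mem_cancel_left (inv_mem (D.P_le (hρ p).1))]⟩
  refine ⟨hex, ?_⟩
  obtain ⟨e, he, heM⟩ := hex
  have h := Nat.card_le_card_of_injective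
    (fun p : (Wn ⊓ D.Mb : Subgroup W) × Bool =>
      (⟨if p.2 then (p.1 : W) * e else p.1, by split_ifs <;> [exact mul_mem p.1.2.1 he; exact p.1.2.1]⟩ : Wn))
    fun a b hab => by
      have h := congrArg Subtype.val hab
      obtain ⟨a1, a2⟩ := a
      obtain ⟨b1, b2⟩ := b
      have key : ∀ u v : (Wn ⊓ D.Mb : Subgroup W), (u : W) * e ≠ v := fun u v huv =>
        heM (by rw [show e = (u : W)⁻¹ * v by rw [← huv]; group]; exact mul_mem (inv_mem u.2.2) v.2.2)
      cases a2 <;> cases b2
      · exact Prod.ext (Subtype.ext h) rfl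
      · exact absurd h.symm (key _ _)
      · exact absurd h (key _ _)
      · exact Prod.ext (Subtype.ext (mul_right_cancel h)) rfl
  rw [Nat.card_prod, Nat.card_eq_fintype_card (α := Bool), Fintype.card_bool, hc32] at h
  omega

/-- a linear involution fixing `ones` and centralising the pure Sylow 3-subgroup is trivial -/
theorem centralizer_nine {w : W} (hc : w * D.h = D.h * w) (h2 : w * w = 1)
    (h1 : w • F.vec ones = F.vec ones) {a b : W} (ha : a * D.h = D.h * a) (hb : b * D.h = D.h * b)
    (ham : F.IsMono a cyc1 (fun _ => 0)) (hbm : F.IsMono b cyc2 (fun _ => 0))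
    (hwa : w * a = a * w) (hwb : w * b = b * w) : w = 1 := by
  obtain ⟨c, hcv⟩ := F.exists_coord (w • F.v 0)
  obtain ⟨d, hdv⟩ := F.exists_coord (w • F.v 3)
  have hv : ∀ j, F.v j = F.vec (Model.unit j (some 0)) := fun j => by rw [F.vec_unit]; simp [Core.lineEl]
  have hmv : ∀ (π : Equiv.Perm (Fin 6)) (e : Coord), move π (fun _ => 0) e = fun i => e (π.symm i) := by
    intro π e; funext i; simp [move]
  have hav : ∀ j, a • F.v j = F.v (cyc1 j) := fun j => by rw [ham j]; simp [Core.lineEl]
  have hbv : ∀ j, b • F.v j = F.v (cyc2 j) := fun j => by rw [hbm j]; simp [Core.lineEl]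
  have hwa' : ∀ v : V, w • a • v = a • w • v := fun v => by rw [smul_smul, hwa, mul_smul]
  have hwb' : ∀ v : V, w • b • v = b • w • v := fun v => by rw [smul_smul, hwb, mul_smul]
  -- images of the other lines
  have hc1 : w • F.v 1 = F.vec fun i => c (cyc1.symm i) := by
    rw [show F.v 1 = a • F.v 0 by rw [hav]; rfl, hwa', ← hcv, F.smul_vec_comm ha ham, hmv]
  have hc2 : w • F.v 2 = F.vec fun i => c (cyc1.symm (cyc1.symm i)) := by
    rw [show F.v 2 = a • F.v 1 by rw [hav]; rfl, hwa', hc1, F.smul_vec_comm ha ham, hmv]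
  have hd1 : w • F.v 4 = F.vec fun i => d (cyc2.symm i) := by
    rw [show F.v 4 = b • F.v 3 by rw [hbv]; rfl, hwb', ← hdv, F.smul_vec_comm hb hbm, hmv]
  have hd2 : w • F.v 5 = F.vec fun i => d (cyc2.symm (cyc2.symm i)) := by
    rw [show F.v 5 = b • F.v 4 by rw [hbv]; rfl, hwb', hd1, F.smul_vec_comm hb hbm, hmv]
  -- each image is fixed by the other three-cycle
  have hcfix : ∀ i, c (cyc2 i) = c i := by
    intro i
    have e : b • F.vec c = F.vec c := by rw [hcv, ← hwb', show b • F.v 0 = F.v 0 by rw [hbv]; rfl]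
    rw [F.smul_vec_comm hb hbm, hmv] at e
    have := congrFun (F.vec_inj e) (cyc2 i)
    simpa using this.symm
  have hdfix : ∀ i, d (cyc1 i) = d i := by
    intro i
    have e : a • F.vec d = F.vec d := by rw [hdv, ← hwa', show a • F.v 3 = F.v 3 by rw [hav]; rfl]
    rw [F.smul_vec_comm ha ham, hmv] at e
    have := congrFun (F.vec_inj e) (cyc1 i)
    simpa using this.symm
  have hodd : ∀ (e : Coord) j, F.vec e = w • F.v j → wt e % 2 = 1 := by
    intro e j he
    have h := congrArg D.q he
    rw [D.q_smul, hv, F.q_eq, F.q_eq,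
      show wt (Model.unit j (some 0)) = 1 from
        (by decide +kernel : ∀ j : Fin 6, wt (Model.unit j (some 0)) = 1) j] at h
    have := congrArg ZMod.val h
    rwa [ZMod.val_natCast, ZMod.val_natCast] at this
  have hlin : ∀ (o : Option (ZMod 3)) (e : Coord) j, F.vec e = w • F.v j →
      w • F.vec (Model.unit j o) = F.vec (scl o e) := by
    intro o e j he
    cases o with
    | none => rw [F.vec_unit]; simp [Core.lineEl, scl, F.vec_zero]
    | some k =>
      rw [F.vec_unit]
      simp only [Core.lineEl]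
      rw [smul_smul, (Commute.pow_right (hc : Commute w D.h) _).eq, ← smul_smul, ← he, F.hpow_vec]
      rfl
  -- step one
  have hU : ∀ (j l : Fin 6) (e e' : Coord), j ≠ l → F.vec e = w • F.v j → F.vec e' = w • F.v l →
      ∀ k, IsU fun i => oadd ((e i).map (· + k)) (e' i) := by
    intro j l e e' hjl he he' k
    have e2 : w • F.vec (fun i => oadd (Model.unit j (some k) i) (Model.unit l (some 0) i)) =
        F.vec (fun i => oadd ((e i).map (· + k)) (e' i)) := by
      rw [← F.vec_add, smul_add, hlin _ _ _ he, ← hv, ← he', F.vec_add]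
      rfl
    refine F.isU_smul ?_ e2
    left
    exact (by decide +kernel : ∀ (j l : Fin 6) (k : ZMod 3), j ≠ l →
      wt (fun i => oadd (Model.unit j (some k) i) (Model.unit l (some 0) i)) = 2) j l k hjl
  obtain ⟨hc3, hc4, hc5⟩ := triple_off_one c hcfix (hodd c 0 hcv) (hU 0 1 c _ (by decide) hcv hc1.symm)
  obtain ⟨hd3, hd4, hd5⟩ := triple_off_two d hdfix (hodd d 3 hdv) (hU 3 4 d _ (by decide) hdv hd1.symm)
  -- the image of `ones`
  have hones : F.vec ones = F.v 0 + F.v 1 + F.v 2 + F.v 3 + F.v 4 + F.v 5 := by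
    rw [Frame.vec, Fin.sum_univ_six]
    simp [ones, Core.lineEl]
  have hsum : ∀ i, oadd (oadd (oadd (oadd (oadd (c i) (c (cyc1.symm i))) (c (cyc1.symm (cyc1.symm i))))
      (d i)) (d (cyc2.symm i))) (d (cyc2.symm (cyc2.symm i))) = some 0 := by
    have e := h1
    rw [hones, smul_add, smul_add, smul_add, smul_add, smul_add, ← hcv, hc1, hc2, ← hdv, hd1, hd2,
      F.vec_add, F.vec_add, F.vec_add, F.vec_add, F.vec_add, ← hones] at e
    intro i
    exact congrFun (F.vec_inj e) i
  -- the square
  have hsq : ∀ (e : Coord) (j0 j1 j2 : Fin 6) (e1 e2 : Coord), F.vec e = w • F.v j0 →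
      F.vec e1 = w • F.v j1 → F.vec e2 = w • F.v j2 →
      (∀ i, i ≠ j0 → i ≠ j1 → i ≠ j2 → e i = none) → j0 ≠ j1 → j0 ≠ j2 → j1 ≠ j2 →
      ∀ i, oadd (oadd (scl (e j0) e i) (scl (e j1) e1 i)) (scl (e j2) e2 i) = Model.unit j0 (some 0) i := by
    intro e j0 j1 j2 e1 e2 he he1 he2 hsupp h01 h02 h12
    have hdec : F.vec e = F.vec (Model.unit j0 (e j0)) + F.vec (Model.unit j1 (e j1)) +
        F.vec (Model.unit j2 (e j2)) := by
      rw [F.vec_add, F.vec_add]
      congr 1
      funext i
      by_cases i0 : i = j0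
      · subst i0; simp [Model.unit, h01, h02]; cases e i <;> rfl
      by_cases i1 : i = j1
      · subst i1; simp [Model.unit, i0, h12]; cases e i <;> rfl
      by_cases i2 : i = j2
      · subst i2; simp [Model.unit, i0, i1]; cases e i <;> rfl
      · simp [Model.unit, i0, i1, i2, hsupp i i0 i1 i2, oadd]
    have e3 : w • F.vec e = F.v j0 := by rw [he, smul_smul, h2, one_smul]
    rw [hdec, smul_add, smul_add, hlin _ _ _ he, hlin _ _ _ he1, hlin _ _ _ he2, F.vec_add, F.vec_add,
      hv] at e3
    intro i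
    exact congrFun (F.vec_inj e3) i
  have hcsupp : ∀ i, i ≠ 0 → i ≠ 1 → i ≠ 2 → c i = none := by
    intro i h0 h1 h2
    have : ∀ i : Fin 6, i ≠ 0 → i ≠ 1 → i ≠ 2 → i = 3 ∨ i = 4 ∨ i = 5 := by decide
    rcases this i h0 h1 h2 with rfl | rfl | rfl <;> assumption
  have hdsupp : ∀ i, i ≠ 3 → i ≠ 4 → i ≠ 5 → d i = none := by
    intro i h0 h1 h2
    have : ∀ i : Fin 6, i ≠ 3 → i ≠ 4 → i ≠ 5 → i = 0 ∨ i = 1 ∨ i = 2 := by decide
    rcases this i h0 h1 h2 with rfl | rfl | rfl <;> assumption
  have hc0 : c = Model.unit 0 (some 0) := by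
    refine triple_one c hc3 hc4 hc5 (hodd c 0 hcv) ?_
      (hsq c 0 1 2 _ _ hcv hc1.symm hc2.symm hcsupp (by decide) (by decide) (by decide))
    have := hsum 2
    rw [show cyc1.symm 2 = 1 by decide +kernel, show cyc1.symm 1 = 0 by decide +kernel,
      show cyc2.symm 2 = 2 by decide +kernel, show cyc2.symm 2 = 2 by decide +kernel, hd5] at this
    revert this
    generalize c 0 = p, c 1 = q, c 2 = r
    revert p q r
    decide
  have hd0 : d = Model.unit 3 (some 0) := by
    refine triple_two d hd3 hd4 hd5 (hodd d 3 hdv) ?_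
      (hsq d 3 4 5 _ _ hdv hd1.symm hd2.symm hdsupp (by decide) (by decide) (by decide))
    have := hsum 5
    rw [show cyc2.symm 5 = 4 by decide +kernel, show cyc2.symm 4 = 3 by decide +kernel,
      show cyc1.symm 5 = 5 by decide +kernel, show cyc1.symm 5 = 5 by decide +kernel, hc5] at this
    revert this
    generalize d 3 = p, d 4 = q, d 5 = r
    revert p q r
    decide
  refine F.eq_of_basis hc (by rw [one_mul, mul_one]) (π := 1) (σ := fun _ => 0) (fun i => ?_) F.isMono_one
  have h6 : ∀ i : Fin 6, i = 0 ∨ i = 1 ∨ i = 2 ∨ i = 3 ∨ i = 4 ∨ i = 5 := by decide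
  have e0 : D.lineEl (F.v i) (some 0) = F.vec (Model.unit i (some 0)) := by rw [F.vec_unit]
  rw [Equiv.Perm.one_apply, e0]
  rcases h6 i with rfl | rfl | rfl | rfl | rfl | rfl
  · rw [← hcv, hc0]
  · rw [hc1, hc0]; congr 1; funext l; revert l; decide +kernel
  · rw [hc2, hc0]; congr 1; funext l; revert l; decide +kernel
  · rw [← hdv, hd0]
  · rw [hd1, hd0]; congr 1; funext l; revert l; decide +kernel
  · rw [hd2, hd0]; congr 1; funext l; revert l; decide +kernel

theorem Mb_le_commutator
    (hsimple : ∀ U : Subgroup W, Subgroup.zpowers D.h ≤ U → U ≤ D.Mb →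
      (∀ m ∈ D.Mb, ∀ x ∈ U, m * x * m⁻¹ ∈ U) → U = Subgroup.zpowers D.h ∨ U = D.Mb) :
    D.Mb ≤ ⁅D.Mb, D.Mb⁆ := by
  haveI := D.Mb_normal
  have hcm : ∀ p ∈ D.Mb, ∀ a ∈ D.Mb, p * a * p⁻¹ * a⁻¹ ∈ ⁅D.Mb, D.Mb⁆ :=
    fun p hp a ha => Subgroup.commutator_mem_commutator hp ha
  have hh : D.h ∈ ⁅D.Mb, D.Mb⁆ := by
    have hstep : ∀ (π : Equiv.Perm (Fin 6)) (k : Ph), Equiv.Perm.sign π = 1 → ∑ i, k i = 0 →
        ∃ c ∈ ⁅D.Mb, D.Mb⁆, c * D.h = D.h * c ∧ F.IsMono c 1 (fun i => k (π.symm i) - k i) := by
      intro π k hπ hk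
      obtain ⟨p, hp, hpm⟩ := F.exists_pure π hπ
      obtain ⟨p', hp', hpm'⟩ := F.exists_pure π⁻¹ (by rw [map_inv, hπ]; rfl)
      obtain ⟨a, ha, hak⟩ := F.diag' k hk
      obtain ⟨a', ha', hak'⟩ := F.diag' (fun i => -k i) (by rw [Finset.sum_neg_distrib, hk, neg_zero])
      have hpc := D.central p (D.P_le hp)
      have hac := D.central a (D.A_le_Mb ha)
      have hp'e : p' = p⁻¹ := by
        refine eq_inv_of_mul_eq_one_right (F.eq_of_basis ?_ (by simp) ?_ F.isMono_one)
        · exact D.central _ (D.P_le (mul_mem hp hp'))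
        · have := F.mono_mul_zero hpc hpm hpm'
          simpa using this
      have ha'e : a' = a⁻¹ := by
        refine eq_inv_of_mul_eq_one_right (F.eq_of_basis ?_ (by simp) ?_ F.isMono_one)
        · exact D.central _ (D.A_le_Mb (mul_mem ha ha'))
        · have := F.mono_mul hac (π := 1) hak (π' := 1) hak'
          simpa using this
      subst hp'e ha'e
      refine ⟨p * a * p⁻¹ * a⁻¹, hcm p (D.P_le hp) a (D.A_le_Mb ha),
        D.central _ (mul_mem (mul_mem (mul_mem (D.P_le hp) (D.A_le_Mb ha)) (inv_mem (D.P_le hp)))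
          (inv_mem (D.A_le_Mb ha))), ?_⟩
      have h1 := F.mono_mul hpc hpm (π' := 1) hak
      have h2 := F.mono_mul (D.central _ (mul_mem (D.P_le hp) (D.A_le_Mb ha))) h1 hpm'
      have h3 := F.mono_mul (D.central _ (mul_mem (mul_mem (D.P_le hp) (D.A_le_Mb ha))
        (inv_mem (D.P_le hp)))) h2 (π' := 1) hak'
      convert h3 using 1
      · simp
      · funext i
        rw [Equiv.Perm.inv_def]
        simp [sub_eq_add_neg, add_comm]
    obtain ⟨c1, hc1, hc1c, hm1⟩ := hstep cyc1 (diff 0 1) (by decide +kernel) (by decide +kernel)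
    obtain ⟨c2, hc2, hc2c, hm2⟩ := hstep cyc2 (diff 3 4) (by decide +kernel) (by decide +kernel)
    have he : c1 * c2 = D.h * D.h := by
      refine F.eq_of_basis (Commute.mul_left hc1c hc2c).eq (by group) (F.mono_mul hc1c hm1 hm2) fun i => ?_
      rw [one_mul, ← sq]
      have hval : ∀ i : Fin 6, diff 3 4 (cyc2.symm i) - diff 3 4 i +
          (diff 0 1 (cyc1.symm ((1 : Equiv.Perm (Fin 6)) i)) - diff 0 1 ((1 : Equiv.Perm (Fin 6)) i)) = 2 := by
        decide +kernel
      rw [hval]
      rfl
    rw [show D.h = (D.h * D.h) * (D.h * D.h) from by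
      rw [← mul_assoc, mul_assoc D.h D.h D.h, ← mul_assoc D.h D.h, D.h_cube, one_mul]]
    exact mul_mem (he ▸ mul_mem hc1 hc2) (he ▸ mul_mem hc1 hc2)
  rcases hsimple ⁅D.Mb, D.Mb⁆ (Subgroup.zpowers_le.mpr hh) (Subgroup.commutator_le_right _ _)
      (fun m _ x hx => (Subgroup.commutator_normal D.Mb D.Mb).conj_mem x hx m) with h | h
  · exfalso
    obtain ⟨p, hp, a, ha, hpa⟩ := D.moves
    exact hpa (h ▸ hcm p (D.P_le hp) a (D.A_le_Mb ha))
  · exact h.ge

omit F in
theorem central_le
    (hsimple : ∀ U : Subgroup W, Subgroup.zpowers D.h ≤ U → U ≤ D.Mb →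
      (∀ m ∈ D.Mb, ∀ x ∈ U, m * x * m⁻¹ ∈ U) → U = Subgroup.zpowers D.h ∨ U = D.Mb)
    {x : W} (hx : x ∈ D.Mb) (hc : ∀ m ∈ D.Mb, m * x = x * m) : x ∈ Subgroup.zpowers D.h := by
  rcases hsimple (D.Mb ⊓ Subgroup.centralizer (D.Mb : Set W))
      (Subgroup.zpowers_le.mpr ⟨D.h_mem, fun m hm => D.central m hm⟩) inf_le_left
      (fun m hm u hu => by
        rw [show m * u * m⁻¹ = u by rw [hu.2 m hm, mul_inv_cancel_right]]
        exact hu) with h | h
  · exact h ▸ (⟨hx, hc⟩ : x ∈ D.Mb ⊓ Subgroup.centralizer (D.Mb : Set W))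
  · exfalso
    obtain ⟨p, hp, a, ha, hpa⟩ := D.moves
    have hp' : p ∈ D.Mb ⊓ Subgroup.centralizer (D.Mb : Set W) := h.symm ▸ D.P_le hp
    apply hpa
    rw [show p * a * p⁻¹ * a⁻¹ = 1 by rw [← hp'.2 a (D.A_le_Mb ha)]; group]
    exact one_mem _

end NFrame

end Cfsg.Agent.Lib.LargeFischer13
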