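import Mathlib

/-!
Coordinates for six lines over four elements: a line is `0` or a phase in `ZMod 3`.
-/

set_option autoImplicit false
set_option linter.style.haveILetI false
set_option linter.unusedSectionVars false

namespace Cfsg.Agent.Lib.LargeFischer13.Model

/-- coordinates of a vector -/
abbrev Coord := Fin 6 → Option (ZMod 3)

/-- phase vectors -/
abbrev Ph := Fin 6 → ZMod 3

/-- the support -/
def supp (c : Coord) : Finset (Fin 6) := Finset.univ.filter fun i => (c i).isSome

/-- the number of non-zero coordinates -/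
def wt (c : Coord) : ℕ := (supp c).card

/-- the sum of the phases -/
def phase (c : Coord) : ZMod 3 := ∑ i, (c i).getD 0

/-- add phases -/
def shift (k : Ph) (c : Coord) : Coord := fun i => (c i).map (· + k i)

/-- monomial map -/
def move (π : Equiv.Perm (Fin 6)) (σ : Ph) (c : Coord) : Coord :=
  fun j => (c (π.symm j)).map (· + σ (π.symm j))

/-- semilinear monomial map -/
def moveC (π : Equiv.Perm (Fin 6)) (σ : Ph) (c : Coord) : Coord :=
  fun j => (c (π.symm j)).map (fun x => σ (π.symm j) - x)

theorem mem_supp {c : Coord} {i : Fin 6} : i ∈ supp c ↔ (c i).isSome = true := by simp [supp]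

theorem wt_move (π : Equiv.Perm (Fin 6)) (σ : Ph) (c : Coord) : wt (move π σ c) = wt c := by
  refine Finset.card_bij' (fun j _ => π.symm j) (fun i _ => π i) ?_ ?_ ?_ ?_ <;>
    intro a ha <;> simp_all [supp, move]

theorem wt_moveC (π : Equiv.Perm (Fin 6)) (σ : Ph) (c : Coord) : wt (moveC π σ c) = wt c := by
  refine Finset.card_bij' (fun j _ => π.symm j) (fun i _ => π i) ?_ ?_ ?_ ?_ <;>
    intro a ha <;> simp_all [supp, moveC]

theorem wt_shift (k : Ph) (c : Coord) : wt (shift k c) = wt c := by simp [wt, supp, shift]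

theorem supp_eq_univ {c : Coord} (h : wt c = 6) (i : Fin 6) : (c i).isSome = true :=
  mem_supp.mp ((Finset.eq_univ_of_card (supp c) (by rw [show (supp c).card = 6 from h, Fintype.card_fin])) ▸ Finset.mem_univ i)

theorem getD_add {o : Option (ZMod 3)} (h : o.isSome = true) (a : ZMod 3) :
    (o.map (· + a)).getD 0 = o.getD 0 + a := by
  cases o <;> simp_all

theorem phase_move (π : Equiv.Perm (Fin 6)) (σ : Ph) {c : Coord} (h : wt c = 6) :
    phase (move π σ c) = phase c + ∑ i, σ i := by
  rw [phase, ← Equiv.sum_comp π, phase, ← Finset.sum_add_distrib]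
  refine Finset.sum_congr rfl fun i _ => ?_
  rw [move, Equiv.symm_apply_apply, getD_add (supp_eq_univ h i)]

theorem phase_moveC (π : Equiv.Perm (Fin 6)) (σ : Ph) {c : Coord} (h : wt c = 6) :
    phase (moveC π σ c) = (∑ i, σ i) - phase c := by
  rw [phase, ← Equiv.sum_comp π, phase, ← Finset.sum_sub_distrib]
  refine Finset.sum_congr rfl fun i _ => ?_
  rw [moveC, Equiv.symm_apply_apply]
  have := supp_eq_univ h i
  cases hc : c i <;> simp_all

theorem move_one (k : Ph) (c : Coord) : move 1 k c = shift k c := rfl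

theorem exists_even_of_card {S T : Finset (Fin 6)} (h : S.card = T.card) (h2 : 2 ≤ S.card) :
    ∃ π : Equiv.Perm (Fin 6), Equiv.Perm.sign π = 1 ∧ ∀ i, i ∈ S ↔ π i ∈ T := by
  obtain ⟨π, hπ⟩ : ∃ π : Equiv.Perm (Fin 6), ∀ i, i ∈ S ↔ π i ∈ T := by
    let e : {i // i ∈ S} ≃ {i // i ∈ T} := Finset.equivOfCardEq h
    refine ⟨e.extendSubtype, fun i => ⟨fun hi => ?_, fun hi => ?_⟩⟩
    · exact e.extendSubtype_mem i hi
    · by_contra hn
      exact e.extendSubtype_not_mem i hn hi
  rcases Int.units_eq_one_or (Equiv.Perm.sign π) with hs | hs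
  · exact ⟨π, hs, hπ⟩
  · obtain ⟨x, hx, y, hy, hxy⟩ := Finset.one_lt_card.mp (by omega : 1 < S.card)
    refine ⟨π * Equiv.swap x y, by rw [map_mul, hs, Equiv.Perm.sign_swap hxy]; rfl, fun i => ?_⟩
    rw [Equiv.Perm.mul_apply]
    by_cases h1 : i = x
    · subst h1; simp [hx, (hπ y).mp hy]
    by_cases h2' : i = y
    · subst h2'; simp [hy, (hπ x).mp hx]
    · rw [Equiv.swap_apply_of_ne_of_ne h1 h2']; exact hπ i

/-- two vectors of the same weight 2 or 4 differ by an even permutation and zero-sum phases -/
theorem exists_move_wt {c c' : Coord} (h : wt c = wt c') (h2 : 2 ≤ wt c) (h6 : wt c ≠ 6) :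
    ∃ π : Equiv.Perm (Fin 6), Equiv.Perm.sign π = 1 ∧ ∀ σ : Ph,
      ∃ k : Ph, ∑ i, k i = 0 ∧ shift k (move π σ c) = c' := by
  obtain ⟨π, hs, hπ⟩ := exists_even_of_card h h2
  refine ⟨π, hs, fun σ => ?_⟩
  set d := move π σ c with hd
  have hsupp : ∀ j, (d j).isSome = (c' j).isSome := by
    intro j
    have h1 := hπ (π.symm j)
    rw [Equiv.apply_symm_apply, mem_supp, mem_supp] at h1
    simp only [hd, move, Option.isSome_map]
    exact Bool.eq_iff_iff.mpr h1
  obtain ⟨j0, hj0⟩ : ∃ j, c' j = none := by
    by_contra hn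
    push Not at hn
    apply h6
    rw [h, wt, supp, Finset.filter_true_of_mem fun i _ => Option.isSome_iff_ne_none.mpr (hn i)]
    rfl
  let k0 : Ph := fun j => (c' j).getD 0 - (d j).getD 0
  refine ⟨Function.update k0 j0 (k0 j0 - ∑ j, k0 j), ?_, ?_⟩
  · rw [Finset.sum_update_of_mem (Finset.mem_univ j0), ← Finset.erase_eq, sub_add_eq_add_sub,
      Finset.add_sum_erase _ _ (Finset.mem_univ j0), sub_self]
  · funext j
    have hj := hsupp j
    show (d j).map _ = c' j
    by_cases hjj : j = j0
    · rw [hjj, hj0] at hj ⊢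
      cases hdj : d j0 with
      | none => rfl
      | some a => rw [hdj] at hj; simp at hj
    · cases hdj : d j with
      | none =>
        cases hcj : c' j with
        | none => rfl
        | some b => rw [hdj, hcj] at hj; simp at hj
      | some a =>
        cases hcj : c' j with
        | none => rw [hdj, hcj] at hj; simp at hj
        | some b => simp [Function.update_of_ne hjj, k0, hdj, hcj]

theorem exists_shift_six {c c' : Coord} (h : wt c = 6) (h' : wt c' = 6) (hp : phase c = phase c') :
    ∃ k : Ph, ∑ i, k i = 0 ∧ shift k c = c' := by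
  refine ⟨fun j => (c' j).getD 0 - (c j).getD 0, ?_, ?_⟩
  · rw [Finset.sum_sub_distrib]
    change phase c' - phase c = 0
    rw [hp, sub_self]
  · funext j
    have h1 := supp_eq_univ h j
    have h2 := supp_eq_univ h' j
    cases hc : c j <;> cases hc' : c' j <;> simp_all [shift]

theorem card_wt_two : (Finset.univ.filter fun c : Coord => wt c = 2).card = 135 := by decide +kernel

theorem card_wt_four : (Finset.univ.filter fun c : Coord => wt c = 4).card = 1215 := by decide +kernel

theorem card_wt_six : ∀ e : ZMod 3,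
    (Finset.univ.filter fun c : Coord => wt c = 6 ∧ phase c = e).card = 243 := by decide +kernel

/-- the difference of two unit vectors -/
def diff (i j : Fin 6) : Ph := Pi.single i 1 - Pi.single j 1

theorem card_sum_zero : (Finset.univ.filter fun k : Ph => ∑ i, k i = 0).card = 243 := by decide +kernel

theorem comp_diff (π : Equiv.Perm (Fin 6)) (i j : Fin 6) :
    (fun l => diff i j (π l)) = diff (π.symm i) (π.symm j) := by
  funext l
  simp [diff, Pi.single_apply, Equiv.eq_symm_apply]

theorem exists_cycle : ∀ i j l : Fin 6, i ≠ j → j ≠ l → i ≠ l →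
    ∃ π : Equiv.Perm (Fin 6), Equiv.Perm.sign π = 1 ∧ π.symm i = j ∧ π.symm j = l ∧ π.symm l = i := by
  intro i j l hij hjl hil
  refine ⟨(Equiv.swap i l * Equiv.swap i j).symm, ?_, ?_, ?_, ?_⟩
  · rw [Equiv.Perm.sign_symm, map_mul, Equiv.Perm.sign_swap hil, Equiv.Perm.sign_swap hij]; rfl
  all_goals
    simp [Equiv.Perm.mul_apply, Equiv.swap_apply_of_ne_of_ne, hij, hij.symm, hjl, hjl.symm, hil, hil.symm]

/-- an invariant subgroup of index three consists of the zero-sum vectors -/
theorem sum_zero_of_invariant (K : AddSubgroup Ph) (hK : Nat.card K = 243)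
    (hinv : ∀ π : Equiv.Perm (Fin 6), Equiv.Perm.sign π = 1 → ∀ k ∈ K, (fun l => k (π l)) ∈ K) :
    ∀ k : Ph, k ∈ K ↔ ∑ i, k i = 0 := by
  classical
  have h3 : ∀ x : Ph, (3 : ℕ) • x = 0 := fun x => by
    funext i
    rw [Pi.smul_apply, Pi.zero_apply]
    generalize x i = a
    revert a
    decide
  have hco : ∀ x : Ph, x ∉ K → ∀ y : Ph, y ∈ K ∨ y - x ∈ K ∨ y - (x + x) ∈ K := by
    intro x hx y
    let K' : AddSubgroup Ph := K ⊔ AddSubgroup.zmultiples x
    have hlt : Nat.card K < Nat.card K' := by
      by_contra hge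
      have e : K = K' := AddSubgroup.eq_of_le_of_card_ge le_sup_left (not_lt.mp hge)
      exact hx (e ▸ AddSubgroup.mem_sup_right (AddSubgroup.mem_zmultiples x))
    have hd : Nat.card K' ∣ 729 := by
      have := AddSubgroup.card_addSubgroup_dvd_card K'
      simpa using this
    obtain ⟨m, hm, hmK⟩ := (Nat.dvd_prime_pow Nat.prime_three).mp (show Nat.card K' ∣ 3 ^ 6 by simpa using hd)
    have h729 : Nat.card Ph ≤ Nat.card K' := by
      rw [hK, hmK] at hlt
      rw [hmK, Nat.card_eq_fintype_card, Fintype.card_fun, ZMod.card, Fintype.card_fin]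
      interval_cases m <;> simp_all
    have htop : K' = ⊤ := AddSubgroup.eq_top_of_le_card K' h729
    obtain ⟨a, ha, b, hb, hab⟩ := AddSubgroup.mem_sup.mp (htop ▸ AddSubgroup.mem_top y : y ∈ K')
    obtain ⟨n, rfl⟩ := hb
    have hn : (n : ℤ) • x = (n % 3) • x := by
      conv_lhs => rw [← Int.emod_add_mul_ediv n 3]
      rw [add_smul, mul_comm, mul_smul]
      have : (3 : ℤ) • x = 0 := by simpa using h3 x
      rw [this, smul_zero, add_zero]
    have hc : n % 3 = 0 ∨ n % 3 = 1 ∨ n % 3 = 2 := by omega
    subst hab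
    change a + n • x ∈ K ∨ a + n • x - x ∈ K ∨ a + n • x - (x + x) ∈ K
    rw [hn]
    rcases hc with e | e | e <;> rw [e]
    · left; simpa using ha
    · right; left
      rw [one_zsmul, add_sub_cancel_right]; exact ha
    · right; right
      rw [two_zsmul, add_sub_cancel_right]; exact ha
  have hneg : ∀ i j, diff i j = -diff j i := fun i j => by simp [diff]
  have htri : ∀ i j l, diff i l = diff i j + diff j l := fun i j l => by simp [diff]
  have hrot : ∀ i j l, i ≠ j → j ≠ l → i ≠ l →
      (diff i j ∈ K → diff j l ∈ K) ∧ (∀ m : Ph, diff j l - m ∈ K → m = diff i j ∨ m = diff i j + diff i j →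
        diff j l - diff i j ∈ K ∨ diff i j ∈ K) := by
    intro i j l hij hjl hil
    obtain ⟨π, hs, h1, h2, h4⟩ := exists_cycle i j l hij hjl hil
    have hπ : ∀ a b, diff a b ∈ K → diff (π.symm a) (π.symm b) ∈ K := fun a b hab => by
      rw [← comp_diff]; exact hinv π hs _ hab
    have hπ' : ∀ a b a' b', diff a b - (diff a' b' + diff a' b') ∈ K →
        diff (π.symm a) (π.symm b) - (diff (π.symm a') (π.symm b') + diff (π.symm a') (π.symm b')) ∈ K := by
      intro a b a' b' hab
      have := hinv π hs _ hab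
      rw [← comp_diff, ← comp_diff]
      exact this
    refine ⟨fun h => by simpa [h1, h2] using hπ i j h, fun m hm hmc => ?_⟩
    rcases hmc with rfl | rfl
    · exact Or.inl hm
    · right
      -- `d₂ ≡ 2 d₁`, `d₃ ≡ 2 d₂`, and the three sum to zero
      have e2 := hπ' j l i j hm
      rw [h2, h4, h1] at e2
      have hsum : diff i j + diff j l + diff l i = 0 := by simp [diff]
      have := K.add_mem e2 (K.add_mem hm (K.add_mem hm hm))
      have key : diff l i - (diff j l + diff j l) + (diff j l - (diff i j + diff i j) +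
          ((diff j l - (diff i j + diff i j)) + (diff j l - (diff i j + diff i j)))) =
          (diff i j + diff j l + diff l i) - (7 : ℕ) • diff i j := by abel
      rw [key, hsum, zero_sub, neg_mem_iff, show (7 : ℕ) = 3 + 3 + 1 from rfl, add_nsmul, add_nsmul,
        h3, one_nsmul, zero_add, zero_add] at this
      exact this
  have hd : ∀ i j, diff i j ∈ K := by
    intro i j
    rcases eq_or_ne i j with rfl | hij
    · simp [diff]
    by_contra hn
    have hfour : ∀ i j : Fin 6, ∃ k l : Fin 6, i ≠ k ∧ j ≠ k ∧ i ≠ l ∧ j ≠ l ∧ k ≠ l := by decide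
    obtain ⟨k, l, hik, hjk, hil, hjl, hkl⟩ := hfour i j
    have step : ∀ a b c, a ≠ b → b ≠ c → a ≠ c → diff a b ∉ K → diff b c - diff a b ∈ K := by
      intro a b c hab hbc hac hna
      rcases hco _ hna (diff b c) with h | h | h
      · exfalso
        -- rotate twice
        have h1 := (hrot b c a hbc hac.symm hab.symm).1 h
        exact hna ((hrot c a b hac.symm hab hbc.symm).1 h1)
      · exact h
      · exact ((hrot a b c hab hbc hac).2 _ h (Or.inr rfl)).resolve_right hna
    have e1 := step i j k hij hjk hik hn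
    have e2 := step i j l hij hjl hil hn
    have hjk' : diff j k ∉ K := fun h => hn (by simpa using K.sub_mem h e1)
    have e3 := step j k l hjk hkl hjl hjk'
    have := K.sub_mem (K.sub_mem e2 e3) (K.add_mem e1 e1)
    apply hn
    have key : diff j l - diff i j - (diff k l - diff j k) - (diff j k - diff i j + (diff j k - diff i j)) =
        (diff j l - (diff j k + diff k l)) + diff i j := by abel
    rwa [key, ← htri, sub_self, zero_add] at this
  have hzero : ∀ k : Ph, ∑ i, k i = 0 → k ∈ K := by
    intro k hk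
    have e : k = ∑ i, (k i).val • diff i 0 := by
      funext l
      rw [Finset.sum_apply]
      have : ∀ i, ((k i).val • diff i 0) l = k i * diff i 0 l := fun i => by
        rw [Pi.smul_apply, nsmul_eq_mul, ZMod.natCast_zmod_val]
      simp only [this]
      simp only [diff, Pi.sub_apply, mul_sub, Finset.sum_sub_distrib]
      rw [← Finset.sum_mul, hk, zero_mul, sub_zero]
      rw [Finset.sum_eq_single l (fun i _ hil => by rw [Pi.single_eq_of_ne hil.symm, mul_zero])
        (fun h => absurd (Finset.mem_univ l) h), Pi.single_eq_same, mul_one]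
    rw [e]
    exact K.sum_mem fun i _ => K.nsmul_mem (hd i 0) _
  intro k
  refine ⟨fun hk => ?_, hzero k⟩
  have hsub : (Finset.univ.filter fun k : Ph => ∑ i, k i = 0) ⊆ Finset.univ.filter (· ∈ K) :=
    fun x hx => Finset.mem_filter.mpr ⟨Finset.mem_univ x, hzero x (Finset.mem_filter.mp hx).2⟩
  have heq := Finset.eq_of_subset_of_card_le hsub (by
    rw [card_sum_zero, ← Fintype.card_subtype, ← Nat.card_eq_fintype_card]
    exact le_of_eq hK)
  have := heq.symm ▸ (Finset.mem_filter.mpr ⟨Finset.mem_univ k, hk⟩)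
  exact (Finset.mem_filter.mp this).2

end Cfsg.Agent.Lib.LargeFischer13.Model
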