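import Cfsg.Agent.Lib.LargeFischer13.Core
import Cfsg.Agent.Lib.LargeFischer13.Model

/-!
The six lines of `Q/⟨z⟩` fixed by the elementary abelian subgroup of order 243, permuted as A₆.
-/

set_option autoImplicit false
set_option linter.style.haveILetI false
set_option linter.unusedSectionVars false

namespace Cfsg.Agent.Lib.LargeFischer13

open Model

namespace Core

variable {W : Type*} [Group W] [Finite W] {V : Type*} [AddCommGroup V] [Finite V]
  [DistribMulAction W V] (D : Core W V)

/-- the element with phase `o` on the line through `x` -/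
def lineEl (x : V) : Option (ZMod 3) → V
  | none => 0
  | some k => (D.h ^ k.val) • x

theorem h_pow_eq {a b : ℕ} (h : (a : ZMod 3) = b) : D.h ^ a = D.h ^ b := by
  rw [← pow_mod_orderOf, ← pow_mod_orderOf D.h b, D.h_order]
  rw [ZMod.natCast_eq_natCast_iff'] at h
  rw [h]

theorem h_pow_val_add (a b : ZMod 3) : D.h ^ (a + b).val = D.h ^ a.val * D.h ^ b.val := by
  rw [← pow_add]; exact D.h_pow_eq (by simp)

end Core

/-- Six lines with coordinates. -/
structure Frame {W : Type*} [Group W] {V : Type*} [AddCommGroup V] [DistribMulAction W V]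
    (D : Core W V) where
  v : Fin 6 → V
  bij : Function.Bijective fun c : Coord => ∑ i, D.lineEl (v i) (c i)
  q_vec : ∀ c : Coord, D.q (∑ i, D.lineEl (v i) (c i)) = (wt c : ZMod 2)
  diag : ∀ a ∈ D.A, ∃ k : Ph, ∑ i, k i = 0 ∧ ∀ i, a • v i = D.lineEl (v i) (some (k i))
  diag' : ∀ k : Ph, ∑ i, k i = 0 → ∃ a ∈ D.A, ∀ i, a • v i = D.lineEl (v i) (some (k i))
  mono : ∀ p ∈ D.P, ∃ π : Equiv.Perm (Fin 6), ∃ σ : Ph, Equiv.Perm.sign π = 1 ∧
    ∀ i, p • v i = D.lineEl (v (π i)) (some (σ i))
  mono' : ∀ π : Equiv.Perm (Fin 6), Equiv.Perm.sign π = 1 → ∃ p ∈ D.P, ∃ σ : Ph,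
    ∀ i, p • v i = D.lineEl (v (π i)) (some (σ i))

namespace Core

variable {W : Type*} [Group W] [Finite W] {V : Type*} [AddCommGroup V] [Finite V]
  [DistribMulAction W V] (D : Core W V)

theorem lineEl_add_self (x : V) (o : Option (ZMod 3)) : D.lineEl x o + D.lineEl x o = 0 := D.two _

theorem lineEl_map (x : V) (o : Option (ZMod 3)) (k : ZMod 3) :
    D.lineEl x (o.map (· + k)) = (D.h ^ k.val) • D.lineEl x o := by
  cases o with
  | none => simp [lineEl]
  | some j => simp only [lineEl, Option.map_some, smul_smul]; rw [add_comm, D.h_pow_val_add]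

theorem smul_lineEl {m : W} (hm : m ∈ D.Mb) {x y : V} {k : ZMod 3}
    (h : m • x = D.lineEl y (some k)) (o : Option (ZMod 3)) :
    m • D.lineEl x o = D.lineEl y (o.map (· + k)) := by
  cases o with
  | none => simp [lineEl]
  | some j =>
    have hc : m * D.h ^ j.val = D.h ^ j.val * m := (Commute.pow_right (D.central m hm : Commute m D.h) _).eq
    simp only [lineEl, Option.map_some]
    rw [smul_smul, hc, ← smul_smul, h]
    simp only [lineEl]
    rw [smul_smul, D.h_pow_val_add]

/-- the set of hyperplanes of `A` with non-zero piece -/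
def hyps : Set (Subgroup W) := {B | Pieces.IsHyp D.A B ∧ ∃ w ∈ Pieces.piece (V := V) D.A B, w ≠ 0}

theorem mem_hyps {B : Subgroup W} :
    B ∈ D.hyps ↔ Pieces.IsHyp D.A B ∧ ∃ w ∈ Pieces.piece (V := V) D.A B, w ≠ 0 := Iff.rfl

theorem A_iff {p : W} (hp : p ∈ D.P) (x : W) : x ∈ D.A ↔ p * x * p⁻¹ ∈ D.A :=
  ⟨D.A_conj p hp x, fun h => by simpa [mul_assoc] using D.A_conj _ (inv_mem hp) _ h⟩

theorem map_hyps {p : W} (hp : p ∈ D.P) {B : Subgroup W} (hB : B ∈ D.hyps) :
    B.map (MulAut.conj p).toMonoidHom ∈ D.hyps := by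
  obtain ⟨⟨hle, t, ht, htB, hc⟩, w, hw, hw0⟩ := hB
  refine ⟨⟨?_, p * t * p⁻¹, D.A_conj p hp t ht, fun h => htB ?_, fun u hu => ?_⟩, p • w,
    Pieces.smul_mem_piece (D.A_iff hp) hw, fun h => hw0 (by simpa using congrArg (p⁻¹ • ·) h)⟩
  · rintro _ ⟨e, he, rfl⟩; exact D.A_conj p hp e (hle he)
  · obtain ⟨e, he, hee⟩ := h
    have : e = t := mul_left_cancel (mul_right_cancel (hee : p * e * p⁻¹ = p * t * p⁻¹))
    exact this ▸ he
  · have hu' : p⁻¹ * u * p ∈ D.A := by simpa using D.A_conj _ (inv_mem hp) u hu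
    rcases hc _ hu' with h1 | h1 | h1
    · exact Or.inl ⟨_, h1, by simp [mul_assoc]⟩
    · exact Or.inr (Or.inl ⟨_, h1, by simp [mul_assoc]⟩)
    · exact Or.inr (Or.inr ⟨_, h1, by simp [mul_assoc]⟩)

/-- `P` acts on the hyperplanes by conjugation -/
def hypPerm : D.P →* Equiv.Perm D.hyps where
  toFun p :=
    { toFun := fun B => ⟨B.1.map (MulAut.conj (p : W)).toMonoidHom, D.map_hyps p.2 B.2⟩
      invFun := fun B => ⟨B.1.map (MulAut.conj (p : W)⁻¹).toMonoidHom, D.map_hyps (inv_mem p.2) B.2⟩
      left_inv := fun B => Subtype.ext (by ext x; simp [Subgroup.mem_map, mul_assoc])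
      right_inv := fun B => Subtype.ext (by ext x; simp [Subgroup.mem_map, mul_assoc]) }
  map_one' := Equiv.ext fun B => Subtype.ext (by
    ext x; simp [Subgroup.mem_map])
  map_mul' p p' := Equiv.ext fun B => Subtype.ext (by
    ext x; simp [Subgroup.mem_map, mul_assoc])

theorem hypPerm_apply (p : D.P) (B : D.hyps) :
    ((D.hypPerm p B : D.hyps) : Subgroup W) = B.1.map (MulAut.conj (p : W)).toMonoidHom := rfl

theorem hypPerm_ker : D.hypPerm.ker = D.A.subgroupOf D.P ∧ Nat.card D.hyps = 6 := by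
  classical
  haveI : Finite (Subgroup W) := Finite.of_injective _ SetLike.coe_injective
  haveI := Fintype.ofFinite D.hyps
  have hle6 : Fintype.card D.hyps ≤ 6 := D.card_hyps_le D.elem (fun B : D.hyps => B.1)
    (fun B => B.2.1) Subtype.val_injective (fun B => B.2.2)
  have hA : ∀ p : D.P, (p : W) ∈ D.A → p ∈ D.hypPerm.ker := fun p hp => by
    refine MonoidHom.mem_ker.mpr (Equiv.ext fun B => Subtype.ext ?_)
    rw [hypPerm_apply]
    ext x
    have hfix : ∀ e ∈ B.1, (p : W) * e * (p : W)⁻¹ = e := fun e he => by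
      rw [D.comm p hp e (B.2.1.le he), mul_inv_cancel_right]
    constructor
    · rintro ⟨e, he, rfl⟩
      show (p : W) * e * (p : W)⁻¹ ∈ B.1
      rw [hfix e he]; exact he
    · exact fun hx => ⟨x, hx, hfix x hx⟩
  by_cases hex : ∃ p ∈ D.hypPerm.ker, (p : W) ∉ D.A
  · exfalso
    have htop := D.eq_top_of_normal _ hA hex
    obtain ⟨p, hp, a, ha, hpa⟩ := D.moves
    apply hpa
    have hpB : ∀ B : D.hyps, p * a * p⁻¹ * a⁻¹ ∈ B.1 := by
      intro B
      obtain ⟨t, ht, htB, -⟩ := B.2.1.cover
      have hcov := B.2.1.cover_of D.elem ht htB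
      have hBp : ∀ x : D.P, ∀ e ∈ B.1, (x : W) * e * (x : W)⁻¹ ∈ B.1 := fun x e he => by
        have h1 : D.hypPerm x = 1 := MonoidHom.mem_ker.mp (htop ▸ Subgroup.mem_top x)
        have h2 : B.1.map (MulAut.conj (x : W)).toMonoidHom = B.1 := by
          rw [← hypPerm_apply, h1]; rfl
        exact h2 ▸ (⟨e, he, rfl⟩ : (x : W) * e * (x : W)⁻¹ ∈ B.1.map (MulAut.conj (x : W)).toMonoidHom)
      -- the stabilisers of the coset `B t`
      let K : Subgroup D.P :=
        { carrier := {x | ∀ u ∈ D.A, (x : W) * u * (x : W)⁻¹ * u⁻¹ ∈ B.1}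
          one_mem' := fun u _ => by simp
          mul_mem' := fun {x y} hx hy u hu => by
            have e : (↑(x * y) : W) * u * (↑(x * y) : W)⁻¹ * u⁻¹ =
                ((x : W) * ((y : W) * u * (y : W)⁻¹) * (x : W)⁻¹ * ((y : W) * u * (y : W)⁻¹)⁻¹) *
                  ((y : W) * u * (y : W)⁻¹ * u⁻¹) := by
              rw [Subgroup.coe_mul]; group
            rw [e]
            exact mul_mem (hx _ (D.A_conj y y.2 u hu)) (hy u hu)
          inv_mem' := fun {x} hx u hu => by
            have hb : (x : W)⁻¹ * u * x ∈ D.A := by simpa using D.A_conj _ (inv_mem x.2) u hu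
            have := inv_mem (hx _ hb)
            simpa [mul_assoc] using this }
      haveI : K.Normal := ⟨fun x hx y u hu => by
        have hb : (y : W)⁻¹ * u * y ∈ D.A := by simpa using D.A_conj _ (inv_mem y.2) u hu
        have e : (↑(y * x * y⁻¹) : W) * u * (↑(y * x * y⁻¹) : W)⁻¹ * u⁻¹ =
            y * ((x : W) * ((y : W)⁻¹ * u * y) * (x : W)⁻¹ * ((y : W)⁻¹ * u * y)⁻¹) * (y : W)⁻¹ := by
          simp only [Subgroup.coe_mul, Subgroup.coe_inv]; group
        rw [e]
        exact hBp y _ (hx _ hb)⟩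
      have hKA : ∀ x : D.P, (x : W) ∈ D.A → x ∈ K := fun x hx u hu => by
        rw [D.comm x hx u hu, mul_inv_cancel_right, mul_inv_cancel]; exact one_mem _
      -- every element fixes or inverts `t` modulo `B`
      have hdiv : ∀ u ∈ D.A, ∃ i : ℕ, i < 3 ∧ u * (t ^ i)⁻¹ ∈ B.1 := by
        intro u hu
        have ht2 : t⁻¹ = t * t := inv_eq_of_mul_eq_one_right (by rw [← mul_assoc]; exact D.cube t ht)
        rcases hcov u hu with h1 | h1 | h1
        · exact ⟨0, by norm_num, by simpa using h1⟩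
        · refine ⟨2, by norm_num, ?_⟩
          rw [sq, mul_inv_rev, ht2]
          have : t * t * (t * t) = t := by rw [← mul_assoc, D.cube t ht, one_mul]
          rwa [this]
        · exact ⟨1, by norm_num, by rwa [pow_one, ht2, ← mul_assoc]⟩
      choose f hf3 hf using fun x : D.P => hdiv _ (D.A_conj x x.2 t ht)
      have hB1 : ∀ b ∈ B.1, ∀ x : D.P, (x : W) * b * (x : W)⁻¹ * b⁻¹ ∈ B.1 :=
        fun b hb x => mul_mem (hBp x b hb) (inv_mem hb)
      -- commutators fix `t` modulo `B`
      have hconj : ∀ (x : D.P) (m : ℕ), (x : W) * t ^ m * (x : W)⁻¹ * (t ^ (f x * m))⁻¹ ∈ B.1 := by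
        intro x m
        have hc : Commute ((x : W) * t * (x : W)⁻¹) (t ^ f x)⁻¹ :=
          D.comm _ (D.A_conj x x.2 t ht) _ (inv_mem (pow_mem ht _))
        have := pow_mem (hf x) m
        rw [hc.mul_pow, inv_pow, ← pow_mul, conj_pow] at this
        exact this
      have hcomm : ∀ x y : D.P, x * y * x⁻¹ * y⁻¹ ∈ K := by
        intro x y
        set c := x * y * x⁻¹ * y⁻¹ with hc
        -- `c` maps `t` to `t` modulo `B`, as the exponents commute
        have hmul : ∀ (x y : D.P) (m : ℕ), (↑(x * y) : W) * t ^ m * (↑(x * y) : W)⁻¹ *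
            (t ^ (f x * (f y * m)))⁻¹ ∈ B.1 := by
          intro x y m
          have h1 := hBp x _ (hconj y m)
          have h2 := hconj x (f y * m)
          have e : (↑(x * y) : W) * t ^ m * (↑(x * y) : W)⁻¹ * (t ^ (f x * (f y * m)))⁻¹ =
              ((x : W) * ((y : W) * t ^ m * (y : W)⁻¹ * (t ^ (f y * m))⁻¹) * (x : W)⁻¹) *
                ((x : W) * t ^ (f y * m) * (x : W)⁻¹ * (t ^ (f x * (f y * m)))⁻¹) := by
            rw [Subgroup.coe_mul]; group
          rw [e]; exact mul_mem h1 h2
        have h1 := hmul x y 1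
        have h2 := hmul y x 1
        rw [show f y * (f x * 1) = f x * (f y * 1) by ring] at h2
        have h3 : (↑(x * y) : W) * t * (↑(x * y) : W)⁻¹ * ((↑(y * x) : W) * t * (↑(y * x) : W)⁻¹)⁻¹ ∈ B.1 := by
          have := mul_mem h1 (inv_mem h2)
          rw [pow_one] at this
          have e : ((↑(x * y) : W) * t * (↑(x * y) : W)⁻¹ * (t ^ (f x * (f y * 1)))⁻¹) *
              ((↑(y * x) : W) * t * (↑(y * x) : W)⁻¹ * (t ^ (f x * (f y * 1)))⁻¹)⁻¹ =
              (↑(x * y) : W) * t * (↑(x * y) : W)⁻¹ * ((↑(y * x) : W) * t * (↑(y * x) : W)⁻¹)⁻¹ := by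
            group
          rwa [e] at this
        have hct : (c : W) * t * (c : W)⁻¹ * t⁻¹ ∈ B.1 := by
          -- transport `h3` by the inverse of `y x` on the right
          set s := (↑(y * x) : W)⁻¹ * t * (↑(y * x) : W) with hs
          have hsA : s ∈ D.A := by
            have := D.A_conj _ (inv_mem (y * x).2) t ht
            simpa [hs] using this
          obtain ⟨i, -, hi⟩ := hdiv s hsA
          have k1 := hBp (x * y) _ hi
          have k2 := hBp (y * x) _ hi
          have k3 : (↑(x * y) : W) * t ^ i * (↑(x * y) : W)⁻¹ *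
              ((↑(y * x) : W) * t ^ i * (↑(y * x) : W)⁻¹)⁻¹ ∈ B.1 := by
            have hc' : Commute ((↑(x * y) : W) * t * (↑(x * y) : W)⁻¹)
                ((↑(y * x) : W) * t * (↑(y * x) : W)⁻¹)⁻¹ :=
              D.comm _ (D.A_conj _ (x * y).2 t ht) _ (inv_mem (D.A_conj _ (y * x).2 t ht))
            have := pow_mem h3 i
            rw [hc'.mul_pow, inv_pow, conj_pow, conj_pow] at this
            exact this
          have := mul_mem (mul_mem k1 k3) (inv_mem k2)
          have e : (c : W) * t * (c : W)⁻¹ * t⁻¹ =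
              ((↑(x * y) : W) * (s * (t ^ i)⁻¹) * (↑(x * y) : W)⁻¹) *
              ((↑(x * y) : W) * t ^ i * (↑(x * y) : W)⁻¹ * ((↑(y * x) : W) * t ^ i * (↑(y * x) : W)⁻¹)⁻¹) *
              ((↑(y * x) : W) * (s * (t ^ i)⁻¹) * (↑(y * x) : W)⁻¹)⁻¹ := by
            rw [hc, hs]; simp only [Subgroup.coe_mul, Subgroup.coe_inv]; group
          rw [e]; exact this
        intro u hu
        obtain ⟨i, -, hi⟩ := hdiv u hu
        have h4 : (c : W) * t ^ i * (c : W)⁻¹ * (t ^ i)⁻¹ ∈ B.1 := by
          have hc' : Commute ((c : W) * t * (c : W)⁻¹) t⁻¹ := D.comm _ (D.A_conj c c.2 t ht) _ (inv_mem ht)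
          have := pow_mem hct i
          rw [hc'.mul_pow, conj_pow, inv_pow] at this
          exact this
        set b := u * (t ^ i)⁻¹ with hb
        have e : (c : W) * u * (c : W)⁻¹ * u⁻¹ =
            ((c : W) * b * (c : W)⁻¹) * ((c : W) * t ^ i * (c : W)⁻¹ * (t ^ i)⁻¹) * b⁻¹ := by
          rw [hb]; group
        rw [e]
        exact mul_mem (mul_mem (hBp c b hi) h4) (inv_mem hi)
      have hK := D.eq_top_of_comm K hKA hcomm
      exact (hK ▸ Subgroup.mem_top (⟨p, hp⟩ : D.P) : (⟨p, hp⟩ : D.P) ∈ K) a ha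
    have h1 : p * a * p⁻¹ * a⁻¹ = 1 := D.faithful _ fun v => by
      by_contra hv
      obtain ⟨B, hB, haB, hw⟩ := Pieces.exists_hyp (V := V) D.two D.elem
        (mul_mem (D.A_conj p hp a ha) (inv_mem ha)) hv
      exact haB (hpB ⟨B, hB, hw⟩)
    rw [h1]
    exact one_mem _
  push Not at hex
  have hker : D.hypPerm.ker = D.A.subgroupOf D.P := by
    ext x; exact ⟨fun hx => hex x hx, fun hx => hA x hx⟩
  refine ⟨hker, ?_⟩
  rw [Nat.card_eq_fintype_card]
  by_contra hne
  have h5 : Fintype.card D.hyps ≤ 5 := by omega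
  have hr : Nat.card D.hypPerm.range = 360 := by
    have h := Subgroup.card_eq_card_quotient_mul_card_subgroup D.hypPerm.ker
    rw [Nat.card_congr (QuotientGroup.quotientKerEquivRange D.hypPerm).toEquiv, D.card_P, hker,
      Nat.card_congr (Subgroup.subgroupOfEquivOfLe D.A_le).toEquiv, D.cardA] at h
    omega
  have h2 := Subgroup.card_le_card_group D.hypPerm.range
  rw [hr, Nat.card_eq_fintype_card, Fintype.card_perm] at h2
  have := Nat.factorial_le h5
  simp [Nat.factorial] at this h2
  omega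

theorem exists_frame : Nonempty (Frame D) := by
  classical
  haveI : Finite (Subgroup W) := Finite.of_injective _ SetLike.coe_injective
  obtain ⟨hker, hcard⟩ := D.hypPerm_ker
  haveI := Fintype.ofFinite D.hyps
  let e : D.hyps ≃ Fin 6 := Fintype.equivFinOfCardEq (by rw [← Nat.card_eq_fintype_card, hcard])
  let φ : D.P →* Equiv.Perm (Fin 6) := (e.permCongrHom : _ →* _).comp D.hypPerm
  have hφker : φ.ker = D.A.subgroupOf D.P := by
    ext x
    rw [MonoidHom.mem_ker, ← hker, MonoidHom.mem_ker]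
    show e.permCongrHom (D.hypPerm x) = 1 ↔ _
    rw [MulEquiv.map_eq_one_iff]
  have hrange : φ.range = alternatingGroup (Fin 6) := by
    apply Equiv.Perm.eq_alternatingGroup_of_index_eq_two
    have h := Subgroup.card_eq_card_quotient_mul_card_subgroup φ.ker
    rw [Nat.card_congr (QuotientGroup.quotientKerEquivRange φ).toEquiv, D.card_P, hφker,
      Nat.card_congr (Subgroup.subgroupOfEquivOfLe D.A_le).toEquiv, D.cardA] at h
    have h2 := φ.range.card_mul_index
    rw [Nat.card_eq_fintype_card (α := Equiv.Perm (Fin 6)), Fintype.card_perm, Fintype.card_fin] at h2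
    have : Nat.card φ.range = 360 := by omega
    rw [this] at h2
    simp [Nat.factorial] at h2
    omega
  set B : Fin 6 → Subgroup W := fun i => (e.symm i).1 with hBdef
  have hB : ∀ i, Pieces.IsHyp D.A (B i) := fun i => (e.symm i).2.1
  have hinj : Function.Injective B := fun i j h => e.symm.injective (Subtype.ext h)
  have hmapB : ∀ (p : D.P) i, (B i).map (MulAut.conj (p : W)).toMonoidHom = B (φ p i) := by
    intro p i
    show _ = ((e.symm (e.permCongrHom (D.hypPerm p) i)) : D.hyps).1
    simp [hBdef, Equiv.permCongrHom, hypPerm_apply]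
  have heven : ∀ π : Equiv.Perm (Fin 6), Equiv.Perm.sign π = 1 → ∃ p : D.P, φ p = π := fun π hπ =>
    MonoidHom.mem_range.mp (hrange ▸ Equiv.Perm.mem_alternatingGroup.mpr hπ)
  -- `h` avoids every hyperplane
  have hto : ∀ a b : Fin 6, ∃ π : Equiv.Perm (Fin 6), Equiv.Perm.sign π = 1 ∧ π a = b := by
    intro a b
    rcases eq_or_ne a b with rfl | hab
    · exact ⟨1, map_one _, rfl⟩
    · have : ∀ a b : Fin 6, ∃ c d : Fin 6, c ≠ d ∧ c ≠ a ∧ d ≠ a := by decide
      obtain ⟨c, d, hcd, hca, hda⟩ := this a b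
      refine ⟨Equiv.swap a b * Equiv.swap c d, ?_, ?_⟩
      · rw [map_mul, Equiv.Perm.sign_swap hab, Equiv.Perm.sign_swap hcd]; rfl
      · rw [Equiv.Perm.mul_apply, Equiv.swap_apply_of_ne_of_ne hca.symm hda.symm,
          Equiv.swap_apply_left]
  have hhB : ∀ i, D.h ∉ B i := by
    obtain ⟨v, hv⟩ := D.exists_moved
    obtain ⟨B0, hB0, hhB0, hw⟩ := Pieces.exists_hyp (V := V) D.two D.elem D.h_A hv
    intro i hi
    obtain ⟨π, hπs, hπ⟩ := hto i (e ⟨B0, hB0, hw⟩)
    obtain ⟨p, hp⟩ := heven π hπs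
    apply hhB0
    have h0 : B (φ p i) = B0 := by rw [hp, hπ]; simp [hBdef]
    rw [← h0, ← hmapB]
    exact ⟨D.h, hi, by
      show (p : W) * D.h * (p : W)⁻¹ = D.h
      rw [D.central _ (D.P_le p.2), mul_inv_cancel_right]⟩
  choose w hw hw0 using fun i => (e.symm i).2.2
  have hwh : ∀ i, ∀ o, D.lineEl (w i) o ∈ Pieces.piece (V := V) D.A (B i) := by
    intro i o
    cases o with
    | none => exact zero_mem _
    | some k =>
      have hc : ∀ a ∈ D.A, ∀ x : V, a • (D.h ^ k.val) • x = (D.h ^ k.val) • a • x := fun a ha x => by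
        rw [smul_smul, smul_smul, D.comm a ha _ (pow_mem D.h_A _)]
      refine ⟨fun b hb => ?_, fun t ht htB => ?_⟩
      · show b • (D.h ^ k.val) • w i = (D.h ^ k.val) • w i
        rw [hc b ((hB i).le hb), (hw i).1 b hb]
      · show (D.h ^ k.val) • w i + t • (D.h ^ k.val) • w i + t • t • (D.h ^ k.val) • w i = 0
        rw [hc t ht, hc t ht, ← smul_add, ← smul_add, (hw i).2 t ht htB, smul_zero]
  have hhw : ∀ i, w i + D.h • w i + D.h • D.h • w i = 0 := fun i => (hw i).2 D.h D.h_A (hhB i)
  have hlinj : ∀ i, Function.Injective (D.lineEl (w i)) := by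
    intro i o o' hoo
    have hne : ∀ k : ZMod 3, (D.h ^ k.val) • w i ≠ 0 := fun k hk =>
      hw0 i (by simpa using congrArg ((D.h ^ k.val)⁻¹ • ·) hk)
    have hfix : ∀ k : ZMod 3, (D.h ^ k.val) • w i = w i → k = 0 := by
      intro k hk
      by_contra hk0
      have hk' : D.h • w i = w i := by
        have : ∀ k : ZMod 3, k ≠ 0 → k.val = 1 ∨ k.val = 2 := by decide
        rcases this k hk0 with e' | e' <;> rw [e'] at hk
        · simpa using hk
        · have := congrArg (D.h • ·) hk
          rw [sq, ← smul_smul, D.smul_cube D.h_A] at this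
          exact this.symm
      have := hhw i
      rw [hk', hk', D.two, zero_add] at this
      exact hw0 i this
    cases o with
    | none =>
      cases o' with
      | none => rfl
      | some k => exact absurd hoo.symm (hne k)
    | some j =>
      cases o' with
      | none => exact absurd hoo (hne j)
      | some k =>
        have e1 : (D.h ^ (j - k).val) • w i = w i := by
          have e2 := congrArg ((D.h ^ (-k).val) • ·) hoo
          simp only [lineEl, smul_smul, ← D.h_pow_val_add, neg_add_cancel, ZMod.val_zero, pow_zero,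
            one_smul] at e2
          rw [sub_eq_neg_add]
          exact e2
        rw [sub_eq_zero.mp (hfix _ e1)]
  have hsum := Pieces.sum_injective (V := V) D.two D.elem B hB hinj
  have hge : ∀ i, 4 ≤ Nat.card (Pieces.piece (V := V) D.A (B i)) :=
    fun i => D.card_piece D.elem (hB i) (hw i) (hw0 i)
  have hprod : ∏ i, Nat.card (Pieces.piece (V := V) D.A (B i)) ≤ 4096 := by
    have := Nat.card_le_card_of_injective _ hsum
    rwa [Nat.card_pi, D.cardV] at this
  have hcard4 : ∀ i, Nat.card (Pieces.piece (V := V) D.A (B i)) = 4 := by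
    intro i
    by_contra hne
    have h5 : 5 ≤ Nat.card (Pieces.piece (V := V) D.A (B i)) := by have := hge i; omega
    rw [← Finset.mul_prod_erase _ _ (Finset.mem_univ i)] at hprod
    have h1 : 4 ^ 5 ≤ ∏ j ∈ Finset.univ.erase i, Nat.card (Pieces.piece (V := V) D.A (B j)) := by
      have := Finset.prod_le_prod' (s := Finset.univ.erase i) fun j _ => hge j
      rw [Finset.prod_const, Finset.card_erase_of_mem (Finset.mem_univ i), Finset.card_univ,
        Fintype.card_fin] at this
      exact this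
    have := Nat.mul_le_mul h5 h1
    omega
  let L : ∀ i, Option (ZMod 3) → Pieces.piece (V := V) D.A (B i) := fun i o => ⟨_, hwh i o⟩
  have hL : ∀ i, Function.Bijective (L i) := fun i => by
    haveI := Fintype.ofFinite (Pieces.piece (V := V) D.A (B i))
    refine (Fintype.bijective_iff_injective_and_card _).mpr
      ⟨fun o o' h => hlinj i (congrArg Subtype.val h), ?_⟩
    rw [← Nat.card_eq_fintype_card (α := Pieces.piece (V := V) D.A (B i)), hcard4 i]
    rfl
  have hbij : Function.Bijective fun c : Coord => ∑ i, D.lineEl (w i) (c i) := by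
    haveI := Fintype.ofFinite V
    refine (Fintype.bijective_iff_injective_and_card _).mpr ⟨fun c c' h => ?_, ?_⟩
    · have := @hsum (fun i => L i (c i)) (fun i => L i (c' i)) h
      funext i
      exact (hL i).1 (congrFun this i)
    · rw [← Nat.card_eq_fintype_card (α := V), D.cardV]
      simp [Fintype.card_option]
  have hline : ∀ i, ∀ x ∈ Pieces.piece (V := V) D.A (B i), ∃ o, x = D.lineEl (w i) o := fun i x hx => by
    obtain ⟨o, ho⟩ := (hL i).2 ⟨x, hx⟩
    exact ⟨o, (congrArg Subtype.val ho).symm⟩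
  have hκ : ∀ a ∈ D.A, ∀ i, ∃ k : ZMod 3, a • w i = D.lineEl (w i) (some k) := by
    intro a ha i
    have h2 : D.h • D.h • D.h • w i = w i := D.smul_cube D.h_A _
    rcases (hB i).cover_of D.elem D.h_A (hhB i) a ha with h1 | h1 | h1
    · exact ⟨0, by rw [(hw i).1 a h1]; simp [lineEl]⟩
    · refine ⟨2, ?_⟩
      show a • w i = (D.h ^ (2 : ZMod 3).val) • w i
      conv_lhs => rw [← h2]
      rw [show (2 : ZMod 3).val = 2 from rfl, sq, ← smul_smul]
      have hc : a * D.h = D.h * a := D.central a (D.A_le_Mb ha)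
      rw [smul_smul a, hc, ← smul_smul, smul_smul a, hc, ← smul_smul]
      have := (hw i).1 _ h1
      rw [← smul_smul] at this
      rw [this]
    · refine ⟨1, ?_⟩
      show a • w i = (D.h ^ (1 : ZMod 3).val) • w i
      conv_lhs => rw [← h2]
      rw [show (1 : ZMod 3).val = 1 from rfl, pow_one]
      have hc : a * D.h = D.h * a := D.central a (D.A_le_Mb ha)
      rw [smul_smul a, hc, ← smul_smul]
      have := (hw i).1 _ h1
      rw [← smul_smul, ← smul_smul] at this
      rw [this]
  have hσ : ∀ (p : D.P) i, ∃ σ : ZMod 3, (p : W) • w i = D.lineEl (w (φ p i)) (some σ) := by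
    intro p i
    have hm := Pieces.smul_mem_piece (D.A_iff p.2) (hw i)
    rw [show (e.symm i).1 = B i from rfl, hmapB] at hm
    obtain ⟨o, ho⟩ := hline _ _ hm
    cases o with
    | none => exact absurd (by simpa [lineEl] using congrArg ((p : W)⁻¹ • ·) ho) (hw0 i)
    | some σ => exact ⟨σ, ho⟩
  let K : AddSubgroup Ph :=
    { carrier := {k | ∃ a ∈ D.A, ∀ i, a • w i = D.lineEl (w i) (some (k i))}
      zero_mem' := ⟨1, one_mem _, fun i => by simp [lineEl]⟩
      add_mem' := by
        rintro k k' ⟨a, ha, hk⟩ ⟨a', ha', hk'⟩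
        refine ⟨a' * a, mul_mem ha' ha, fun i => ?_⟩
        rw [mul_smul, hk i, D.smul_lineEl (D.A_le_Mb ha') (hk' i)]
        rfl
      neg_mem' := by
        rintro k ⟨a, ha, hk⟩
        refine ⟨a⁻¹, inv_mem ha, fun i => ?_⟩
        rw [inv_smul_eq_iff, D.smul_lineEl (D.A_le_Mb ha) (hk i)]
        simp [lineEl] }
  have hKcard : Nat.card K = 243 := by
    rw [← D.cardA]
    symm
    refine Nat.card_congr (Equiv.ofBijective (fun a : D.A => (⟨fun i => (hκ a a.2 i).choose,
      a, a.2, fun i => (hκ a a.2 i).choose_spec⟩ : K)) ⟨fun a a' h => ?_, fun k => ?_⟩)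
    · have h' := congrArg Subtype.val h
      apply Subtype.ext
      have hall : ∀ x : V, (a : W) • x = (a' : W) • x := by
        intro x
        obtain ⟨c, rfl⟩ := hbij.2 x
        simp only [Finset.smul_sum]
        refine Finset.sum_congr rfl fun i _ => ?_
        rw [D.smul_lineEl (D.A_le_Mb a.2) (hκ a a.2 i).choose_spec,
          D.smul_lineEl (D.A_le_Mb a'.2) (hκ a' a'.2 i).choose_spec, show (hκ a a.2 i).choose =
            (hκ a' a'.2 i).choose from congrFun h' i]
      exact inv_mul_eq_one.mp (D.faithful _ fun x => by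
        rw [mul_smul, inv_smul_eq_iff, ← hall])
    · obtain ⟨a, ha, hk⟩ := k.2
      refine ⟨⟨a, ha⟩, Subtype.ext (funext fun i => ?_)⟩
      exact Option.some.inj (hlinj i ((hκ a ha i).choose_spec.symm.trans (hk i)))
  have hKinv : ∀ π : Equiv.Perm (Fin 6), Equiv.Perm.sign π = 1 → ∀ k ∈ K, (fun l => k (π l)) ∈ K := by
    intro π hπ k hk
    obtain ⟨a, ha, hka⟩ := hk
    obtain ⟨p, rfl⟩ := heven π hπ
    refine ⟨(p : W)⁻¹ * a * p, by simpa using D.A_conj _ (inv_mem p.2) a ha, fun i => ?_⟩
    obtain ⟨σ, hσi⟩ := hσ p i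
    rw [mul_smul, mul_smul, hσi, D.smul_lineEl (D.A_le_Mb ha) (hka _), inv_smul_eq_iff,
      D.smul_lineEl (D.P_le p.2) hσi]
    simp [add_comm]
  have hK := Model.sum_zero_of_invariant K hKcard hKinv
  -- the forms
  have horth : ∀ i j, i ≠ j → ∀ o o', D.b (D.lineEl (w i) o) (D.lineEl (w j) o') = 0 := by
    intro i j hij o o'
    obtain ⟨l, hli, hlj⟩ : ∃ l : Fin 6, l ≠ i ∧ l ≠ j := by
      have : ∀ i j : Fin 6, ∃ l : Fin 6, l ≠ i ∧ l ≠ j := by decide
      exact this i j
    obtain ⟨a, ha, hk⟩ := (hK (diff j l)).mpr (by simp [diff])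
    have hi : diff j l i = 0 := by simp [diff, Pi.single_apply, hij, hli.symm]
    have hj : diff j l j = 1 := by simp [diff, Pi.single_apply, hlj.symm]
    have e1 : ∀ o', D.b (D.lineEl (w i) o) (D.lineEl (w j) o') =
        D.b (D.lineEl (w i) o) (D.h • D.lineEl (w j) o') := by
      intro o'
      rw [← D.b_smul a, D.smul_lineEl (D.A_le_Mb ha) (hk i), D.smul_lineEl (D.A_le_Mb ha) (hk j), hi, hj,
        D.lineEl_map, D.lineEl_map, show (1 : ZMod 3).val = 1 from rfl, ZMod.val_zero, pow_zero,
        pow_one, one_smul]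
    have hsum3 : D.lineEl (w j) o' + D.h • D.lineEl (w j) o' + D.h • D.h • D.lineEl (w j) o' = 0 :=
      (hwh j o').2 D.h D.h_A (hhB j)
    have e2 := e1 o'
    have e3 : D.b (D.lineEl (w i) o) (D.h • D.lineEl (w j) o') =
        D.b (D.lineEl (w i) o) (D.h • D.h • D.lineEl (w j) o') := by
      have := e1 (o'.map (· + 1))
      rw [D.lineEl_map, show (1 : ZMod 3).val = 1 from rfl, pow_one] at this
      exact this
    have e4 : D.b (D.lineEl (w i) o) 0 = 0 := by rw [D.b_comm]; exact D.b_zero_left _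
    rw [← hsum3, D.b_add_right, D.b_add_right, ← e3, ← e2] at e4
    have key : ∀ x : ZMod 2, x + x + x = 0 → x = 0 := by decide
    exact key _ e4
  have hq1 : ∀ i k, D.q (D.lineEl (w i) (some k)) = 1 := by
    intro i k
    have hall : ∀ k : ZMod 3, D.q (D.lineEl (w i) (some k)) = D.q (w i) := fun k => D.q_smul _ _
    rw [hall]
    have hb : D.b (w i) (D.h • w i) = D.q (w i) := by
      have hz : w i + D.h • w i = D.h • D.h • w i := by
        rw [← add_right_inj (D.h • D.h • w i), D.two, add_comm]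
        exact hhw i
      rw [b, hz, D.q_smul, D.q_smul]
      have key : ∀ x : ZMod 2, x + x + x = x := by decide
      exact key _
    by_contra hne
    have h0 : D.q (w i) = 0 := by
      have key : ∀ x : ZMod 2, x ≠ 1 → x = 0 := by decide
      exact key _ hne
    obtain ⟨y, hy⟩ := D.exists_b (hw0 i)
    obtain ⟨c, rfl⟩ := hbij.2 y
    rw [D.b_comm, D.b_sum, Finset.sum_eq_zero] at hy
    · exact zero_ne_one hy
    intro j _
    rcases eq_or_ne j i with rfl | hji
    · rw [D.b_comm]
      cases hc : c j with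
      | none => exact (D.b_comm _ _).trans (D.b_zero_left _)
      | some l =>
        have hcases : ∀ l : ZMod 3, l = 0 ∨ l = 1 ∨ l = 2 := by decide
        rcases hcases l with rfl | rfl | rfl
        · simp [lineEl, D.b_self]
        · simp only [lineEl, show (1 : ZMod 3).val = 1 from rfl, pow_one]
          rw [hb, h0]
        · simp only [lineEl, show (2 : ZMod 3).val = 2 from rfl, sq, mul_smul]
          have hz : D.h • D.h • w j = w j + D.h • w j := by
            rw [← add_right_inj (D.h • D.h • w j), D.two, add_comm]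
            exact (hhw j).symm
          rw [hz, D.b_add_right, D.b_self, hb, h0, add_zero]
    · exact horth j i hji (c j) (some 0) |> fun h => by simpa [lineEl] using h
  refine ⟨⟨w, hbij, fun c => ?_, fun a ha => ?_, fun k hk => (hK k).mpr hk, fun p hp => ?_, fun π hπ => ?_⟩⟩
  · have key : ∀ s : Finset (Fin 6), D.q (∑ i ∈ s, D.lineEl (w i) (c i)) =
        ((s ∩ supp c).card : ZMod 2) := by
      intro s
      induction s using Finset.induction_on with
      | empty => simp [D.q_zero]
      | insert i s hi ih =>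
        rw [Finset.sum_insert hi, D.q_add, ih, D.b_comm, D.b_sum,
          Finset.sum_eq_zero fun j hj => horth j i (fun h => hi (h ▸ hj)) _ _, add_zero]
        cases hc : c i with
        | none =>
          have : i ∉ supp c := fun h => by simp [mem_supp, hc] at h
          simp [lineEl, D.q_zero, Finset.insert_inter_of_notMem this]
        | some k =>
          have : i ∈ supp c := mem_supp.mpr (by simp [hc])
          rw [hq1, Finset.insert_inter_of_mem this, Finset.card_insert_of_notMem (by simp [hi])]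
          push_cast; ring
    simpa [wt] using key Finset.univ
  · exact ⟨fun i => (hκ a ha i).choose, (hK _).mp ⟨a, ha, fun i => (hκ a ha i).choose_spec⟩,
      fun i => (hκ a ha i).choose_spec⟩
  · choose σ hσ' using hσ ⟨p, hp⟩
    refine ⟨φ ⟨p, hp⟩, σ, ?_, hσ'⟩
    exact Equiv.Perm.mem_alternatingGroup.mp (hrange ▸ ⟨⟨p, hp⟩, rfl⟩)
  · obtain ⟨p, rfl⟩ := heven π hπ
    choose σ hσ' using hσ p
    exact ⟨p, p.2, σ, hσ'⟩

end Core

end Cfsg.Agent.Lib.LargeFischer13
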