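import Cfsg.Agent.Lib.LargeFischer13.Orbits

/-!
Monomial elements: the normaliser of the subgroup of order 243, the pure even permutations, and an
element outside the index-two subgroup normalising it.
-/

set_option autoImplicit false
set_option linter.style.haveILetI false
set_option linter.unusedSectionVars false

namespace Cfsg.Agent.Lib.LargeFischer13

open Model

/-- the third element of a line -/
def Model.oadd : Option (ZMod 3) → Option (ZMod 3) → Option (ZMod 3)
  | none, o => o
  | some a, none => some a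
  | some a, some c => if a = c then none else some (-(a + c))

/-- all phases zero -/
def Model.ones : Model.Coord := fun _ => some 0

theorem Model.isR_ones : Model.IsR Model.ones := by
  right; unfold Model.ones; decide

/-- a single vector of weight one -/
def Model.unit (i : Fin 6) (o : Option (ZMod 3)) : Model.Coord := Function.update (fun _ => none) i o

namespace Core

variable {W : Type*} [Group W] [Finite W] {V : Type*} [AddCommGroup V] [Finite V]
  [DistribMulAction W V] (D : Core W V)

theorem smul_lineEl_of_comm {m : W} (hm : m * D.h = D.h * m) {x y : V} {k : ZMod 3}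
    (h : m • x = D.lineEl y (some k)) (o : Option (ZMod 3)) :
    m • D.lineEl x o = D.lineEl y (o.map (· + k)) := by
  cases o with
  | none => simp [lineEl]
  | some j =>
    have hc : m * D.h ^ j.val = D.h ^ j.val * m := (Commute.pow_right (hm : Commute m D.h) _).eq
    simp only [lineEl, Option.map_some]
    rw [smul_smul, hc, ← smul_smul, h]
    simp only [lineEl]
    rw [smul_smul, D.h_pow_val_add]

theorem inv_eq_pow (j : ZMod 3) : (D.h ^ j.val)⁻¹ = D.h ^ (-j).val := by
  apply inv_eq_of_mul_eq_one_right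
  rw [← D.h_pow_val_add, add_neg_cancel, ZMod.val_zero, pow_zero]

theorem smul_lineEl_of_inv {m : W} (hm : m * D.h * m⁻¹ = D.h⁻¹) {x y : V} {k : ZMod 3}
    (h : m • x = D.lineEl y (some k)) (o : Option (ZMod 3)) :
    m • D.lineEl x o = D.lineEl y (o.map (fun a => k - a)) := by
  cases o with
  | none => simp [lineEl]
  | some j =>
    have hc : m * D.h ^ j.val = D.h ^ (-j).val * m := by
      rw [← D.inv_eq_pow, ← inv_pow, ← hm, conj_pow, inv_mul_cancel_right]
    simp only [lineEl, Option.map_some]
    rw [smul_smul, hc, ← smul_smul, h]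
    simp only [lineEl]
    rw [smul_smul, ← D.h_pow_val_add, neg_add_eq_sub]

theorem inv_of_not_comm {w : W} (hw : w * D.h ≠ D.h * w) : w * D.h * w⁻¹ = D.h⁻¹ :=
  (D.h_conj w).resolve_left fun h => hw (mul_inv_eq_iff_eq_mul.mp h)

theorem Mb_normal : D.Mb.Normal := Subgroup.normal_of_index_eq_two D.index

theorem conj_mem_Mb (w : W) {m : W} (hm : m ∈ D.Mb) : w * m * w⁻¹ ∈ D.Mb :=
  D.Mb_normal.conj_mem m hm w

end Core

namespace Frame

variable {W : Type*} [Group W] [Finite W] {V : Type*} [AddCommGroup V] [Finite V]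
  [DistribMulAction W V] {D : Core W V} (F : Frame D)

theorem smul_vec_comm {m : W} (hm : m * D.h = D.h * m) {π : Equiv.Perm (Fin 6)} {σ : Ph}
    (h : F.IsMono m π σ) (c : Coord) : m • F.vec c = F.vec (move π σ c) := by
  rw [vec, vec, Finset.smul_sum, ← Equiv.sum_comp π (fun j => D.lineEl (F.v j) (move π σ c j))]
  refine Finset.sum_congr rfl fun i _ => ?_
  rw [D.smul_lineEl_of_comm hm (h i), move, Equiv.symm_apply_apply]

theorem smul_vec_inv {m : W} (hm : m * D.h * m⁻¹ = D.h⁻¹) {π : Equiv.Perm (Fin 6)} {σ : Ph}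
    (h : F.IsMono m π σ) (c : Coord) : m • F.vec c = F.vec (moveC π σ c) := by
  rw [vec, vec, Finset.smul_sum, ← Equiv.sum_comp π (fun j => D.lineEl (F.v j) (moveC π σ c j))]
  refine Finset.sum_congr rfl fun i _ => ?_
  rw [D.smul_lineEl_of_inv hm (h i), moveC, Equiv.symm_apply_apply]

theorem vec_add (c d : Coord) : F.vec c + F.vec d = F.vec fun i => oadd (c i) (d i) := by
  rw [vec, vec, vec, ← Finset.sum_add_distrib]
  refine Finset.sum_congr rfl fun i _ => ?_
  cases hc : c i with
  | none => simp [oadd, Core.lineEl]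
  | some a =>
    cases hd : d i with
    | none => simp [oadd, Core.lineEl]
    | some a' =>
      obtain ⟨k, hk⟩ : ∃ k, a' = a + k := ⟨a' - a, by ring⟩
      subst hk
      simp only [oadd]
      have hz : F.v i + D.h • F.v i + D.h • D.h • F.v i = 0 := by
        -- the three points of a line sum to zero: they have `q = 1`, so sum to a vector fixed by `h`
        set s := F.v i + D.h • F.v i + D.h • D.h • F.v i with hs
        have hfix : D.h • s = s := by
          have h3 : D.h • D.h • D.h • F.v i = F.v i := D.smul_cube D.h_A _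
          rw [hs, smul_add, smul_add, h3]; abel
        obtain ⟨e, he⟩ := F.exists_coord s
        have hh : F.IsMono D.h 1 (fun _ => 1) := fun j => by
          simp [Core.lineEl, show (1 : ZMod 3).val = 1 from rfl]
        rw [← he, F.smul_vec D.h_mem hh, move_one] at hfix
        have h0 : e = fun _ => none := funext fun j => by
          have := congrFun (F.vec_inj hfix) j
          cases hej : e j with
          | none => rfl
          | some b => simp [shift, hej] at this
        rw [← he, h0, F.vec_zero]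
      have h03 : (0 : ZMod 3) = 3 := rfl
      have hcases : ∀ k : ZMod 3, k = 0 ∨ k = 1 ∨ k = 2 := by decide
      rcases hcases k with rfl | rfl | rfl
      · simp [Core.lineEl, D.two]
      · rw [if_neg (by simp)]
        simp only [Core.lineEl]
        rw [show -(a + (a + 1)) = a + 2 by linear_combination (a + 1) * h03,
          D.h_pow_val_add, D.h_pow_val_add, mul_smul, mul_smul, ← smul_add,
          show (1 : ZMod 3).val = 1 from rfl, show (2 : ZMod 3).val = 2 from rfl, pow_one, sq, mul_smul]
        congr 1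
        rw [← add_left_inj (D.h • D.h • F.v i), hz, D.two]
      · rw [if_neg (by intro h; exact absurd (left_eq_add.mp h) (by decide))]
        simp only [Core.lineEl]
        rw [show -(a + (a + 2)) = a + 1 by linear_combination (a + 1) * h03,
          D.h_pow_val_add, D.h_pow_val_add, mul_smul, mul_smul, ← smul_add,
          show (1 : ZMod 3).val = 1 from rfl, show (2 : ZMod 3).val = 2 from rfl, pow_one, sq, mul_smul]
        congr 1
        rw [← add_left_inj (D.h • F.v i), D.two, add_right_comm]
        exact hz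

theorem eq_of_basis {a a' : W} (hc : a * D.h = D.h * a) (hc' : a' * D.h = D.h * a') {π : Equiv.Perm (Fin 6)}
    {σ : Ph} (h : F.IsMono a π σ) (h' : F.IsMono a' π σ) : a = a' := by
  have e : ∀ x : V, a • x = a' • x := fun x => by
    obtain ⟨c, rfl⟩ := F.exists_coord x
    rw [F.smul_vec_comm hc h, F.smul_vec_comm hc' h']
  exact (inv_mul_eq_one.mp (D.faithful (a'⁻¹ * a) fun x => by rw [mul_smul, e, inv_smul_smul])).symm

/-- an element normalising `A` is monomial -/
theorem exists_mono_of_norm {w : W} (hw : ∀ a ∈ D.A, w⁻¹ * a * w ∈ D.A) :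
    ∃ π : Equiv.Perm (Fin 6), ∃ σ : Ph, F.IsMono w π σ := by
  have hline : ∀ i, ∃ j, ∃ k, w • F.v i = D.lineEl (F.v j) (some k) := by
    intro i
    obtain ⟨c, hc⟩ := F.exists_coord (w • F.v i)
    -- on the support of `c` every sum-zero shift is constant
    have hconst : ∀ j l, (c j).isSome → (c l).isSome → j = l := by
      intro j l hj hl
      by_contra hjl
      obtain ⟨m, hmj, hml⟩ : ∃ m : Fin 6, m ≠ j ∧ m ≠ l := by
        have : ∀ j l : Fin 6, ∃ m : Fin 6, m ≠ j ∧ m ≠ l := by decide
        exact this j l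
      obtain ⟨a, ha, hac⟩ := F.exists_shift (diff j m) (by simp [diff])
      obtain ⟨k, -, hk⟩ := F.diag _ (hw a ha)
      have e1 : a • w • F.v i = w • (D.h ^ (k i).val) • F.v i := by
        rw [show (D.h ^ (k i).val) • F.v i = (w⁻¹ * a * w) • F.v i from (hk i).symm, smul_smul, smul_smul]
        congr 1
        group
      obtain ⟨t, ht⟩ : ∃ t : ZMod 3, a • F.vec c = (D.h ^ t.val) • F.vec c := by
        rcases eq_or_ne (w * D.h) (D.h * w) with hwc | hwc
        · refine ⟨k i, ?_⟩
          rw [hc, e1, smul_smul, (Commute.pow_right (hwc : Commute w D.h) _).eq, ← smul_smul]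
        · refine ⟨-(k i), ?_⟩
          have hx := D.inv_of_not_comm hwc
          rw [hc, e1, smul_smul, ← D.inv_eq_pow, ← inv_pow, ← hx, conj_pow, ← mul_smul,
            inv_mul_cancel_right]
      have hh : F.IsMono (D.h ^ t.val) 1 (fun _ => t) := fun j => by simp [Core.lineEl]
      rw [hac, F.smul_vec (pow_mem D.h_mem _) hh, move_one] at ht
      have hinj := F.vec_inj ht
      have hj' := congrFun hinj j
      have hl' := congrFun hinj l
      obtain ⟨x, hx⟩ := Option.isSome_iff_exists.mp hj
      obtain ⟨y, hy⟩ := Option.isSome_iff_exists.mp hl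
      simp [shift, hx, hy, diff, Pi.single_apply, hjl, Ne.symm hjl, hmj.symm, hml.symm] at hj' hl'
      subst hl'
      exact one_ne_zero hj'
    obtain ⟨j, k, hjk⟩ : ∃ j k, c j = some k := by
      by_contra hn
      push Not at hn
      have h0 : c = fun _ => none := funext fun j => Option.eq_none_iff_forall_ne_some.mpr (hn j)
      rw [h0, F.vec_zero] at hc
      have hv : F.v i ≠ 0 := fun hv0 => by
        have e1 : F.vec (Model.unit i (some 0)) = F.v i := by
          rw [vec, Finset.sum_eq_single i (fun l _ hli => by simp [Model.unit, hli, Core.lineEl])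
            (fun h => absurd (Finset.mem_univ _) h)]
          simp [Model.unit, Core.lineEl]
        rw [hv0, ← F.vec_zero] at e1
        have := congrFun (F.vec_inj e1) i
        simp [Model.unit] at this
      exact hv (by simpa using (congrArg (w⁻¹ • ·) hc).symm)
    refine ⟨j, k, ?_⟩
    rw [← hc, vec, Finset.sum_eq_single j (fun l _ hlj => ?_) (fun h => absurd (Finset.mem_univ _) h), hjk]
    cases hcl : c l with
    | none => rfl
    | some k' => exact absurd (hconst l j (by simp [hcl]) (by simp [hjk])) hlj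
  choose f σ hσ using hline
  have hinj : Function.Injective f := by
    intro i i' hii
    by_contra hne
    have e1 := hσ i
    have e2 := hσ i'
    rw [← hii] at e2
    -- `w` would send two lines into one
    obtain ⟨m, hm⟩ : ∃ m : ZMod 3, w • F.v i' = w • (D.h ^ m.val) • F.v i := by
      rcases eq_or_ne (w * D.h) (D.h * w) with hwc | hwc
      · refine ⟨σ i' - σ i, ?_⟩
        rw [e2, smul_smul, (Commute.pow_right (hwc : Commute w D.h) _).eq, ← smul_smul, e1]
        simp only [Core.lineEl, smul_smul, ← D.h_pow_val_add]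
        rw [sub_add_cancel]
      · refine ⟨σ i - σ i', ?_⟩
        have hx := D.inv_of_not_comm hwc
        have hc : w * D.h ^ (σ i - σ i').val = D.h ^ (σ i' - σ i).val * w := by
          rw [show σ i' - σ i = -(σ i - σ i') by ring, ← D.inv_eq_pow, ← inv_pow, ← hx, conj_pow,
            inv_mul_cancel_right]
        rw [e2, smul_smul, hc, ← smul_smul, e1]
        simp only [Core.lineEl, smul_smul, ← D.h_pow_val_add]
        rw [sub_add_cancel]
    have e3 : F.vec (Model.unit i' (some 0)) = F.vec (Model.unit i (some m)) := by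
      have h' := congrArg (w⁻¹ • ·) hm
      simp only [inv_smul_smul] at h'
      rw [vec, vec, Finset.sum_eq_single i' (fun l _ hl => by simp [Model.unit, hl, Core.lineEl])
        (fun h => absurd (Finset.mem_univ _) h), Finset.sum_eq_single i
        (fun l _ hl => by simp [Model.unit, hl, Core.lineEl]) (fun h => absurd (Finset.mem_univ _) h)]
      simpa [Model.unit, Core.lineEl] using h'
    have := congrFun (F.vec_inj e3) i'
    simp [Model.unit, Ne.symm hne] at this
  exact ⟨Equiv.ofBijective f (Finite.injective_iff_bijective.mp hinj), σ, hσ⟩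

theorem perm_unique {w : W} {π π' : Equiv.Perm (Fin 6)} {σ σ' : Ph} (h : F.IsMono w π σ)
    (h' : F.IsMono w π' σ') : π = π' ∧ σ = σ' := by
  have key : ∀ i, π i = π' i ∧ σ i = σ' i := by
    intro i
    have hu : ∀ j k, F.vec (Model.unit j (some k)) = D.lineEl (F.v j) (some k) := fun j k => by
      rw [vec, Finset.sum_eq_single j (fun l _ hl => by simp [Model.unit, hl, Core.lineEl])
        (fun h => absurd (Finset.mem_univ _) h)]
      simp [Model.unit]
    have e : F.vec (Model.unit (π i) (some (σ i))) = F.vec (Model.unit (π' i) (some (σ' i))) := by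
      rw [hu, hu, ← h i, ← h' i]
    have e1 := congrFun (F.vec_inj e) (π i)
    by_cases hp : π i = π' i
    · simp [Model.unit, ← hp] at e1; exact ⟨hp, e1⟩
    · simp [Model.unit, hp] at e1
  exact ⟨Equiv.ext fun i => (key i).1, funext fun i => (key i).2⟩

theorem mono_mul {a c : W} (hc : a * D.h = D.h * a) {π π' : Equiv.Perm (Fin 6)} {σ σ' : Ph}
    (h : F.IsMono a π σ) (h' : F.IsMono c π' σ') :
    F.IsMono (a * c) (π * π') (fun i => σ' i + σ (π' i)) := fun i => by
  rw [mul_smul, h' i, D.smul_lineEl_of_comm hc (h _)]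
  rfl

/-- the permutation action of `P` -/
theorem exists_theta : ∃ θ : D.P →* Equiv.Perm (Fin 6),
    (∀ p : D.P, ∃ σ, F.IsMono (p : W) (θ p) σ) ∧ θ.range = alternatingGroup (Fin 6) ∧
      θ.ker = D.A.subgroupOf D.P := by
  classical
  choose π σ hπ hσ using fun p : D.P => F.mono p p.2
  let θ : D.P →* Equiv.Perm (Fin 6) := MonoidHom.mk' π fun p p' =>
    (F.perm_unique (hσ (p * p')) (F.mono_mul (D.central _ (D.P_le p.2)) (hσ p) (hσ p'))).1
  have hr : θ.range = alternatingGroup (Fin 6) := by
    ext x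
    rw [Equiv.Perm.mem_alternatingGroup]
    constructor
    · rintro ⟨p, rfl⟩; exact hπ p
    · intro hx
      obtain ⟨p, hp, s, hs⟩ := F.mono' x hx
      exact ⟨⟨p, hp⟩, (F.perm_unique (hσ ⟨p, hp⟩) hs).1⟩
  refine ⟨θ, fun p => ⟨σ p, hσ p⟩, hr, ?_⟩
  have hA : D.A.subgroupOf D.P ≤ θ.ker := fun p hp => by
    obtain ⟨k, -, hk⟩ := F.diag p hp
    exact (F.perm_unique (hσ p) (π' := 1) hk).1
  refine (Subgroup.eq_of_le_of_card_ge hA (le_of_eq ?_)).symm
  have h := Subgroup.card_eq_card_quotient_mul_card_subgroup θ.ker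
  rw [Nat.card_congr (QuotientGroup.quotientKerEquivRange θ).toEquiv, D.card_P, hr,
    nat_card_alternatingGroup, Nat.card_eq_fintype_card (α := Fin 6), Fintype.card_fin] at h
  rw [Nat.card_congr (Subgroup.subgroupOfEquivOfLe D.A_le).toEquiv, D.cardA]
  rw [show Nat.factorial 6 = 720 from rfl] at h
  omega

end Frame

/-- the explicit Sylow 3-subgroup of A₆ -/
def cyc1 : Equiv.Perm (Fin 6) := Equiv.swap 0 1 * Equiv.swap 1 2

/-- its second generator -/
def cyc2 : Equiv.Perm (Fin 6) := Equiv.swap 3 4 * Equiv.swap 4 5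

theorem nine_facts :
    (Finset.univ.filter fun p : Equiv.Perm (Fin 6) => p * cyc1 = cyc1 * p ∧ p * cyc2 = cyc2 * p).card = 9 := by
  decide +kernel

theorem nine_even : ∀ p : Equiv.Perm (Fin 6), p * cyc1 = cyc1 * p → p * cyc2 = cyc2 * p →
    Equiv.Perm.sign p = 1 := by decide +kernel

theorem nine_fixed : ∀ p : Equiv.Perm (Fin 6), p * cyc1 = cyc1 * p → p * cyc2 = cyc2 * p → p ≠ 1 →
    (Finset.univ.filter fun k : Ph => ∑ i, k i = 0 ∧ ∀ i, k (p i) = k i).card ≤ 27 := by decide +kernel

theorem nine_fixed_all :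
    (Finset.univ.filter fun k : Ph => ∑ i, k i = 0 ∧ (∀ i, k (cyc1 i) = k i) ∧
      ∀ i, k (cyc2 i) = k i).card ≤ 9 := by decide +kernel

namespace Frame

variable {W : Type*} [Group W] [Finite W] {V : Type*} [AddCommGroup V] [Finite V]
  [DistribMulAction W V] {D : Core W V} (F : Frame D)

include F in
/-- Frattini: `A` is normalised by an element outside `Mb` -/
theorem exists_outer : ∃ n : W, n ∉ D.Mb ∧ ∀ a ∈ D.A, n⁻¹ * a * n ∈ D.A := by
  classical
  haveI : Fact (Nat.Prime 3) := ⟨Nat.prime_three⟩
  obtain ⟨θ, hθ, hr, hk⟩ := F.exists_theta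
  let S9 : Subgroup (Equiv.Perm (Fin 6)) := Subgroup.centralizer ({cyc1, cyc2} : Set _)
  have hmem9 : ∀ p, p ∈ S9 ↔ p * cyc1 = cyc1 * p ∧ p * cyc2 = cyc2 * p := fun p => by
    rw [Subgroup.mem_centralizer_iff]
    exact ⟨fun h => ⟨(h cyc1 (Or.inl rfl)).symm, (h cyc2 (Or.inr rfl)).symm⟩, fun h g hg => by
      rcases hg with rfl | rfl
      exacts [h.1.symm, h.2.symm]⟩
  have hcard9 : Nat.card S9 = 9 := by
    rw [← nine_facts, ← Fintype.card_subtype, ← Nat.card_eq_fintype_card]
    exact Nat.card_congr (Equiv.subtypeEquivRight hmem9)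
  have hle9 : S9 ≤ θ.range := fun p hp => by
    rw [hr, Equiv.Perm.mem_alternatingGroup]
    exact nine_even p ((hmem9 p).mp hp).1 ((hmem9 p).mp hp).2
  set P3 : Subgroup W := (S9.comap θ).map D.P.subtype with hP3
  have hP3le : P3 ≤ D.P := Subgroup.map_subtype_le _
  have hAP3 : D.A ≤ P3 := fun a ha => ⟨⟨a, D.A_le ha⟩, by
    have : (⟨a, D.A_le ha⟩ : D.P) ∈ θ.ker := hk ▸ ha
    show θ _ ∈ S9
    rw [MonoidHom.mem_ker.mp this]; exact one_mem _, rfl⟩
  have hcardP3 : Nat.card P3 = 2187 := by
    rw [hP3, ← Nat.card_congr (Subgroup.equivMapOfInjective _ _ D.P.subtype_injective).toEquiv]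
    have h1 := (S9.comap θ).card_mul_index
    rw [Subgroup.index_comap, D.card_P] at h1
    have h2 : S9.relIndex θ.range * θ.range.index = S9.index := Subgroup.relIndex_mul_index hle9
    have h3 := S9.card_mul_index
    rw [hcard9, Nat.card_eq_fintype_card, Fintype.card_perm, Fintype.card_fin] at h3
    have h4 : θ.range.index = 2 := by
      rw [hr]; exact alternatingGroup.index_eq_two
    simp [Nat.factorial] at h3
    rw [h4] at h2
    have h5 : S9.relIndex θ.range = 40 := by omega
    rw [h5] at h1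
    omega
  -- `A` is the only abelian subgroup of order 243 in `P3`
  have huniq : ∀ T : Subgroup W, T ≤ P3 → Nat.card T = 243 → (∀ a ∈ T, ∀ c ∈ T, a * c = c * a) → T = D.A := by
    intro T hT hTc hTab
    by_contra hne
    set ψ : T →* Equiv.Perm (Fin 6) := θ.comp (Subgroup.inclusion (hT.trans hP3le)) with hψ
    have hψS : ∀ t : T, ψ t ∈ S9 := fun t => by
      obtain ⟨p, hp, hpt⟩ := hT t.2
      have : p = Subgroup.inclusion (hT.trans hP3le) t := Subtype.ext hpt
      show θ _ ∈ S9
      rw [← this]; exact hp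
    let Kf : Finset (Equiv.Perm (Fin 6)) := Finset.univ.filter fun p => ∃ t : T, ψ t = p
    have hfix : ∀ t : T, ∀ a : W, a ∈ D.A → a ∈ T → ∀ k : Ph, (∀ i, a • F.v i = D.lineEl (F.v i) (some (k i))) →
        ∀ i, k (ψ t i) = k i := by
      intro t a haA haT k hka i
      obtain ⟨σ, hσ⟩ := hθ (Subgroup.inclusion (hT.trans hP3le) t)
      have hm : (t : W) ∈ D.Mb := D.P_le (hP3le (hT t.2))
      have h1 := F.mono_mul (D.central a (D.A_le_Mb haA)) (π := 1) hka hσ
      have h2 := F.mono_mul (D.central _ hm) hσ (π' := 1) hka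
      change F.IsMono (a * (t : W)) _ _ at h1
      rw [hTab a haT t t.2] at h1
      have := congrFun (F.perm_unique h1 h2).2 i
      simp at this
      rw [add_comm] at this
      exact add_right_cancel this
    -- the kernel is `T ∩ A`
    have hker : ψ.ker = D.A.subgroupOf T := by
      ext t
      have h : Subgroup.inclusion (hT.trans hP3le) t ∈ θ.ker ↔ (t : W) ∈ D.A := by
        rw [hk, Subgroup.mem_subgroupOf]; rfl
      exact h
    let κ : ψ.ker → Ph := fun a => (F.diag a.1.1 (hker.le a.2)).choose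
    have hκ : ∀ a : ψ.ker, ∑ i, κ a i = 0 ∧ ∀ i, (a.1.1) • F.v i = D.lineEl (F.v i) (some (κ a i)) :=
      fun a => (F.diag a.1.1 (hker.le a.2)).choose_spec
    have hκinj : Function.Injective κ := fun a a' h => by
      apply Subtype.ext; apply Subtype.ext
      exact F.eq_of_basis (D.central _ (D.A_le_Mb (hker.le a.2))) (D.central _ (D.A_le_Mb (hker.le a'.2)))
        (π := 1) (hκ a).2 (h ▸ (hκ a').2)
    have hmul := Subgroup.card_eq_card_quotient_mul_card_subgroup ψ.ker
    rw [Nat.card_congr (QuotientGroup.quotientKerEquivRange ψ).toEquiv, hTc] at hmul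
    have hrle : ψ.range ≤ S9 := by rintro _ ⟨t, rfl⟩; exact hψS t
    have hrd : Nat.card ψ.range ∣ 9 := hcard9 ▸ Subgroup.card_dvd_of_le hrle
    by_cases h9 : Nat.card ψ.range = 9
    · have heq : ψ.range = S9 := Subgroup.eq_of_le_of_card_ge hrle (by rw [hcard9, h9])
      have hb : Nat.card ψ.ker ≤ 9 := by
        refine le_trans ?_ nine_fixed_all
        rw [← Fintype.card_subtype, ← Nat.card_eq_fintype_card]
        refine Nat.card_le_card_of_injective (fun a => (⟨κ a, (hκ a).1, ?_, ?_⟩ :
          {k : Ph // ∑ i, k i = 0 ∧ (∀ i, k (cyc1 i) = k i) ∧ ∀ i, k (cyc2 i) = k i})) ?_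
        · obtain ⟨t, ht⟩ := (heq ▸ (hmem9 cyc1).mpr ⟨rfl, by decide +kernel⟩ : cyc1 ∈ ψ.range)
          exact ht ▸ hfix t _ (hker.le a.2) a.1.2 _ (hκ a).2
        · obtain ⟨t, ht⟩ := (heq ▸ (hmem9 cyc2).mpr ⟨by decide +kernel, rfl⟩ : cyc2 ∈ ψ.range)
          exact ht ▸ hfix t _ (hker.le a.2) a.1.2 _ (hκ a).2
        · exact fun a a' h => hκinj (congrArg Subtype.val h)
      rw [h9] at hmul
      omega
    · by_cases h1 : Nat.card ψ.range = 1
      · rw [h1, one_mul] at hmul
        apply hne
        refine Subgroup.eq_of_le_of_card_ge (fun t ht => ?_) (by rw [hTc, D.cardA])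
        have hkt : ψ.ker = ⊤ := Subgroup.eq_top_of_card_eq _ (by rw [← hmul, hTc])
        exact hker.le (hkt ▸ Subgroup.mem_top (⟨t, ht⟩ : T))
      · have h3 : Nat.card ψ.range = 3 := by
          obtain ⟨i, hi, he⟩ := (Nat.dvd_prime_pow Nat.prime_three).mp (show Nat.card ψ.range ∣ 3 ^ 2 from hrd)
          rw [he] at h1 h9 ⊢
          interval_cases i <;> simp_all
        obtain ⟨t, ht⟩ : ∃ t, ψ t ≠ 1 := by
          by_contra hn
          push Not at hn
          apply h1
          rw [Nat.card_eq_one_iff_unique]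
          refine ⟨⟨fun a c => ?_⟩, ⟨1⟩⟩
          obtain ⟨ta, hta⟩ := a.2
          obtain ⟨tc, htc⟩ := c.2
          exact Subtype.ext (by rw [← hta, ← htc, hn, hn])
        have hb : Nat.card ψ.ker ≤ 27 := by
          refine le_trans ?_ (nine_fixed (ψ t) ((hmem9 _).mp (hψS t)).1 ((hmem9 _).mp (hψS t)).2 ht)
          rw [← Fintype.card_subtype, ← Nat.card_eq_fintype_card]
          exact Nat.card_le_card_of_injective (fun a => (⟨κ a, (hκ a).1,
              hfix t _ (hker.le a.2) a.1.2 _ (hκ a).2⟩ : {k : Ph // ∑ i, k i = 0 ∧ ∀ i, k (ψ t i) = k i}))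
            (fun a a' h => hκinj (congrArg Subtype.val h))
        rw [h3] at hmul
        omega
  -- Frattini
  haveI := D.Mb_normal
  have hP3M : P3 ≤ D.Mb := hP3le.trans D.P_le
  have hp : IsPGroup 3 P3 := IsPGroup.of_card (n := 7) (by rw [hcardP3]; norm_num)
  let P3' : Subgroup D.Mb := P3.subgroupOf D.Mb
  have hp' : IsPGroup 3 P3' := hp.comap_subtype
  have hc' : Nat.card P3' = 2187 := by
    rw [Nat.card_congr (Subgroup.subgroupOfEquivOfLe hP3M).toEquiv, hcardP3]
  let Syl : Sylow 3 D.Mb := hp'.toSylow (by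
    have h := P3'.card_mul_index
    rw [hc', D.card_Mb] at h
    rw [show P3'.index = 4480 by omega]
    norm_num)
  have hsup := Sylow.normalizer_sup_eq_top Syl
  have hmap : (Syl : Subgroup D.Mb).map D.Mb.subtype = P3 := by
    show P3'.map D.Mb.subtype = P3
    exact Subgroup.map_subgroupOf_eq_of_le hP3M
  rw [hmap] at hsup
  obtain ⟨n, hn, hnM⟩ : ∃ n ∈ Subgroup.normalizer (P3 : Set W), n ∉ D.Mb := by
    by_contra hcon
    push Not at hcon
    have : (⊤ : Subgroup W) ≤ D.Mb := by
      rw [← hsup]
      exact sup_le hcon le_rfl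
    have hi := D.index
    rw [top_le_iff.mp this, Subgroup.index_top] at hi
    norm_num at hi
  refine ⟨n, hnM, fun a ha => ?_⟩
  have hT := huniq (D.A.map (MulAut.conj n⁻¹).toMonoidHom) (by
      rintro _ ⟨x, hx, rfl⟩
      exact (Subgroup.mem_normalizer_iff.mp (inv_mem hn) x).mp (hAP3 hx))
    (by rw [← D.cardA]; exact (Nat.card_congr (Subgroup.equivMapOfInjective _ _ (MulAut.conj n⁻¹).injective).toEquiv).symm)
    (by
      rintro _ ⟨x, hx, rfl⟩ _ ⟨y, hy, rfl⟩
      rw [← map_mul, ← map_mul, D.comm x hx y hy])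
  rw [← hT]
  exact ⟨a, ha, by simp⟩

end Frame

namespace NFrame

variable {W : Type*} [Group W] [Finite W] {V : Type*} [AddCommGroup V] [Finite V]
  [DistribMulAction W V] {D : Core W V} (F : NFrame D)

/-- a linear monomial element has phases summing to zero -/
theorem sum_comm {w : W} (hc : w * D.h = D.h * w) {π : Equiv.Perm (Fin 6)} {σ : Ph}
    (h : F.IsMono w π σ) : ∑ i, σ i = 0 := by
  set c : Coord := Function.update Model.ones 0 (some 1) with hcdef
  have h6 : wt c = 6 := by rw [hcdef]; unfold Model.ones; decide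
  have hp : phase c = 1 := by rw [hcdef]; unfold Model.ones; decide
  have h2 := F.isU_smul (c := c) (Or.inr ⟨h6, hp⟩) (F.smul_vec_comm hc h c)
  rcases h2 with h2 | ⟨-, h2⟩
  · rw [wt_move, h6] at h2; norm_num at h2
  · rw [phase_move _ _ h6, hp] at h2
    exact add_eq_left.mp h2

/-- a semilinear monomial element has phases summing to two -/
theorem sum_inv {w : W} (hc : w * D.h * w⁻¹ = D.h⁻¹) {π : Equiv.Perm (Fin 6)} {σ : Ph}
    (h : F.IsMono w π σ) : ∑ i, σ i = 2 := by
  set c : Coord := Function.update Model.ones 0 (some 1) with hcdef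
  have h6 : wt c = 6 := by rw [hcdef]; unfold Model.ones; decide
  have hp : phase c = 1 := by rw [hcdef]; unfold Model.ones; decide
  have h2 := F.isU_smul (c := c) (Or.inr ⟨h6, hp⟩) (F.smul_vec_inv hc h c)
  rcases h2 with h2 | ⟨-, h2⟩
  · rw [wt_moveC, h6] at h2; norm_num at h2
  · rw [phase_moveC _ _ h6, hp] at h2
    linear_combination h2

/-- a linear monomial element gives the pure permutation -/
theorem exists_pure_of {w : W} (hc : w * D.h = D.h * w) {π : Equiv.Perm (Fin 6)} {σ : Ph}
    (h : F.IsMono w π σ) : ∃ a ∈ D.A, F.IsMono (a * w) π (fun _ => 0) := by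
  obtain ⟨a, ha, hka⟩ := F.diag' (fun j => -σ (π.symm j)) (by
    rw [Finset.sum_neg_distrib, Equiv.sum_comp π.symm σ, F.sum_comm hc h, neg_zero])
  refine ⟨a, ha, ?_⟩
  have e := F.mono_mul (D.central a (D.A_le_Mb ha)) (π := 1) hka h
  simpa using e

/-- the pure even permutations -/
theorem exists_pure (π : Equiv.Perm (Fin 6)) (hπ : Equiv.Perm.sign π = 1) :
    ∃ p ∈ D.P, F.IsMono p π (fun _ => 0) := by
  obtain ⟨p, hp, σ, h⟩ := F.mono' π hπ
  obtain ⟨a, ha, h'⟩ := F.exists_pure_of (D.central p (D.P_le hp)) h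
  exact ⟨a * p, mul_mem (D.A_le ha) hp, h'⟩

/-- a linear monomial element with even permutation lies in `P` -/
theorem mem_P_of_even {w : W} (hc : w * D.h = D.h * w) {π : Equiv.Perm (Fin 6)} {σ : Ph}
    (h : F.IsMono w π σ) (hπ : Equiv.Perm.sign π = 1) : w ∈ D.P := by
  obtain ⟨p, hp, hpm⟩ := F.exists_pure π hπ
  obtain ⟨a, ha, ham⟩ := F.exists_pure_of hc h
  have haw : (a * w) * D.h = D.h * (a * w) := by
    rw [mul_assoc, hc, ← mul_assoc, D.central a (D.A_le_Mb ha), mul_assoc]
  have e := F.eq_of_basis (D.central p (D.P_le hp)) haw hpm ham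
  rw [show w = a⁻¹ * p by rw [e]; group]
  exact mul_mem (inv_mem (D.A_le ha)) hp

/-- an element outside `Mb` commuting with `h` gives an odd pure permutation -/
theorem exists_odd_of_linear {w : W} (hw : w ∉ D.Mb) (hc : w * D.h = D.h * w) :
    ∃ m : W, m * D.h = D.h * m ∧ ∃ π : Equiv.Perm (Fin 6), Equiv.Perm.sign π = -1 ∧
      F.IsMono m π (fun _ => 0) := by
  obtain ⟨n, hn, hnA⟩ := F.exists_outer
  have hnh : n * D.h = D.h * n := by
    have hm : n * w ∈ D.Mb := (Subgroup.mul_mem_iff_of_index_two D.index).mpr (iff_of_false hn hw)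
    have hc' : Commute w D.h := hc
    have e : n = (n * w) * w⁻¹ := by group
    rw [e]
    exact (Commute.mul_left (D.central _ hm : Commute (n * w) D.h) hc'.inv_left).eq
  obtain ⟨π, σ, h⟩ := F.exists_mono_of_norm hnA
  obtain ⟨a, ha, ham⟩ := F.exists_pure_of hnh h
  refine ⟨a * n, (Commute.mul_left (D.central a (D.A_le_Mb ha) : Commute a D.h) hnh).eq, π, ?_, ham⟩
  rcases Int.units_eq_one_or (Equiv.Perm.sign π) with hs | hs
  · exact absurd (D.P_le (F.mem_P_of_even hnh h hs)) hn
  · exact hs

end NFrame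

end Cfsg.Agent.Lib.LargeFischer13
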