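import Mathlib

/-!
An elementary abelian 3-group acting on an abelian group of exponent 2: the pieces attached to its
hyperplanes, their independence, and the fact that their hyperplanes separate the moving elements.
-/

set_option autoImplicit false
set_option linter.style.haveILetI false
set_option linter.unusedSectionVars false

namespace Cfsg.Agent.Lib.LargeFischer13.Pieces

variable {W : Type*} [Group W] {V : Type*} [AddCommGroup V] [DistribMulAction W V]

/-- `E` is elementary abelian of exponent three. -/
structure ElemThree (E : Subgroup W) : Prop where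
  comm : ∀ a ∈ E, ∀ b ∈ E, a * b = b * a
  cube : ∀ a ∈ E, a * a * a = 1

/-- `B` has index three in `E`. -/
structure IsHyp (E B : Subgroup W) : Prop where
  le : B ≤ E
  cover : ∃ t ∈ E, t ∉ B ∧ ∀ u ∈ E, u ∈ B ∨ u * t ∈ B ∨ u * t * t ∈ B

/-- The piece of `V` attached to `B`: fixed by `B`, with trivial trace for the elements outside. -/
def piece (E B : Subgroup W) : AddSubgroup V where
  carrier := {v | (∀ b ∈ B, b • v = v) ∧ ∀ t ∈ E, t ∉ B → v + t • v + t • t • v = 0}
  zero_mem' := by simp
  add_mem' := by
    rintro x y ⟨hx1, hx2⟩ ⟨hy1, hy2⟩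
    refine ⟨fun b hb => by rw [smul_add, hx1 b hb, hy1 b hb], fun t ht htB => ?_⟩
    calc x + y + t • (x + y) + t • t • (x + y)
        = (x + t • x + t • t • x) + (y + t • y + t • t • y) := by simp only [smul_add]; abel
      _ = 0 := by rw [hx2 t ht htB, hy2 t ht htB, add_zero]
  neg_mem' := by
    rintro x ⟨hx1, hx2⟩
    refine ⟨fun b hb => by rw [smul_neg, hx1 b hb], fun t ht htB => ?_⟩
    calc -x + t • -x + t • t • -x = -(x + t • x + t • t • x) := by simp only [smul_neg]; abel
      _ = 0 := by rw [hx2 t ht htB, neg_zero]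

theorem mem_piece {E B : Subgroup W} {v : V} : v ∈ piece (V := V) E B ↔
    (∀ b ∈ B, b • v = v) ∧ ∀ t ∈ E, t ∉ B → v + t • v + t • t • v = 0 := Iff.rfl

/-- a third element of a coset decomposition: any element outside can replace `t` -/
theorem IsHyp.cover_of {E B : Subgroup W} (hE : ElemThree E) (h : IsHyp E B) {t : W} (ht : t ∈ E)
    (htB : t ∉ B) : ∀ u ∈ E, u ∈ B ∨ u * t ∈ B ∨ u * t * t ∈ B := by
  obtain ⟨s, hs, hsB, hc⟩ := h.cover
  have h3 : ∀ {u : W}, u ∈ E → u * s * s * s = u := fun {u} _ => by
    rw [mul_assoc u s s, mul_assoc, hE.cube s hs, mul_one]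
  intro u hu
  -- write both in terms of `s`
  rcases hc t ht with h1 | h1 | h1
  · exact absurd h1 htB
  · rcases hc u hu with h2 | h2 | h2
    · exact Or.inl h2
    · right; right
      have : u * t * t = (u * s) * ((t * s) * (t * s)) := by
        have e : (t * s) * (t * s) = t * t * (s * s) := by
          rw [mul_assoc t s, ← mul_assoc s t s, ← hE.comm t ht s hs]; simp only [mul_assoc]
        calc u * t * t = (u * t * t) * (s * s * s) := by rw [hE.cube s hs, mul_one]
          _ = u * ((t * t) * s) * (s * s) := by simp only [mul_assoc]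
          _ = u * (s * (t * t)) * (s * s) := by rw [hE.comm _ (mul_mem ht ht) s hs]
          _ = (u * s) * ((t * s) * (t * s)) := by rw [e]; simp only [mul_assoc]
      rw [this]
      exact mul_mem h2 (mul_mem h1 h1)
    · right; left
      have : u * t = (u * s * s) * (t * s) := by
        calc u * t = (u * t) * (s * s * s) := by rw [hE.cube s hs, mul_one]
          _ = u * (t * (s * s)) * s := by simp only [mul_assoc]
          _ = u * ((s * s) * t) * s := by rw [hE.comm t ht _ (mul_mem hs hs)]
          _ = (u * s * s) * (t * s) := by simp only [mul_assoc]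
      rw [this]
      exact mul_mem h2 h1
  · rcases hc u hu with h2 | h2 | h2
    · exact Or.inl h2
    · right; left
      have : u * t = (u * s) * (t * s * s) := by
        calc u * t = (u * t) * (s * s * s) := by rw [hE.cube s hs, mul_one]
          _ = u * (t * s) * (s * s) := by simp only [mul_assoc]
          _ = u * (s * t) * (s * s) := by rw [hE.comm t ht s hs]
          _ = (u * s) * (t * s * s) := by simp only [mul_assoc]
      rw [this]
      exact mul_mem h2 h1
    · right; right
      have : u * t * t = (u * s * s) * ((t * s * s) * (t * s * s)) := by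
        have hts : t * s * s ∈ E := mul_mem (mul_mem ht hs) hs
        have e : (t * s * s) * (t * s * s) = t * t * s := by
          calc (t * s * s) * (t * s * s) = t * ((s * s) * t) * (s * s) := by simp only [mul_assoc]
            _ = t * (t * (s * s)) * (s * s) := by rw [hE.comm t ht _ (mul_mem hs hs)]
            _ = t * t * s * (s * s * s) := by simp only [mul_assoc]
            _ = t * t * s := by rw [hE.cube s hs, mul_one]
        calc u * t * t = (u * t * t) * (s * s * s) := by rw [hE.cube s hs, mul_one]
          _ = u * ((t * t) * (s * s)) * s := by simp only [mul_assoc]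
          _ = u * ((s * s) * (t * t)) * s := by rw [hE.comm _ (mul_mem ht ht) _ (mul_mem hs hs)]
          _ = (u * s * s) * ((t * s * s) * (t * s * s)) := by rw [e]; simp only [mul_assoc]
      rw [this]
      exact mul_mem h2 (mul_mem h1 h1)

theorem IsHyp.not_le {E B B' : Subgroup W} (hE : ElemThree E) (h : IsHyp E B) (h' : IsHyp E B')
    (hne : B ≠ B') : ¬ B ≤ B' := by
  intro hle
  obtain ⟨x, hx, hxB⟩ : ∃ x ∈ B', x ∉ B := by
    by_contra hcon
    push Not at hcon
    exact hne (le_antisymm hle hcon)
  obtain ⟨t', ht', ht'B, -⟩ := h'.cover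
  rcases h.cover_of hE (h'.le hx) hxB t' ht' with h1 | h1 | h1
  · exact ht'B (hle h1)
  · exact ht'B (by simpa using mul_mem (hle h1) (inv_mem hx))
  · exact ht'B (by simpa using mul_mem (mul_mem (hle h1) (inv_mem hx)) (inv_mem hx))

variable [Finite W]

/-- sums over a subgroup kill a vector with trivial trace for one of its elements -/
theorem sum_eq_zero (two : ∀ v : V, v + v = 0) (D : Subgroup W) [Fintype D] {t : W} (ht : t ∈ D)
    {v : V} (hv : v + t • v + t • t • v = 0) : ∑ a : D, (a : W) • v = 0 := by
  have key : ∀ s ∈ D, ∑ a : D, (a : W) • s • v = ∑ a : D, (a : W) • v := fun s hs => by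
    simp only [smul_smul]
    exact Equiv.sum_comp (Equiv.mulRight (⟨s, hs⟩ : D)) fun a : D => (a : W) • v
  have h := congrArg (fun x : V => ∑ a : D, (a : W) • x) hv
  simp only [smul_add, Finset.sum_add_distrib, smul_zero, Finset.sum_const_zero] at h
  rw [key t ht, smul_smul, key _ (mul_mem ht ht)] at h
  rwa [two, zero_add] at h

open Classical in
/-- the sum over `E ∖ B` -/
noncomputable def proj (E B : Subgroup W) [Fintype E] (v : V) : V :=
  ∑ a ∈ (Finset.univ : Finset E).filter (fun a : E => (a : W) ∉ B), (a : W) • v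

omit [Finite W] in
theorem proj_add (E B : Subgroup W) [Fintype E] (x y : V) :
    proj E B (x + y) = proj E B x + proj E B y := by
  simp only [proj, smul_add, Finset.sum_add_distrib]

omit [Finite W] in
open Classical in
theorem proj_split (E B : Subgroup W) [Fintype E] [Fintype B] (hBE : B ≤ E) (v : V) :
    proj E B v + ∑ a : B, (a : W) • v = ∑ a : E, (a : W) • v := by
  rw [proj, ← Finset.sum_filter_add_sum_filter_not (Finset.univ : Finset E)
    (fun a : E => (a : W) ∉ B) (fun a : E => (a : W) • v)]
  congr 1
  refine Finset.sum_bij' (fun a _ => (⟨a.1, hBE a.2⟩ : E)) (fun a ha => ⟨a.1, ?_⟩) ?_ ?_ ?_ ?_ ?_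
  · simpa using ha
  all_goals intros
  all_goals simp

theorem odd_card {E : Subgroup W} (hE : ElemThree E) {B : Subgroup W} (hBE : B ≤ E) :
    Odd (Nat.card B) := by
  haveI : Fact (Nat.Prime 3) := ⟨Nat.prime_three⟩
  have hp : IsPGroup 3 B := fun b => ⟨1, Subtype.ext (by
    simpa [pow_succ] using hE.cube b.1 (hBE b.2))⟩
  obtain ⟨n, hn⟩ := hp.exists_card_eq
  rw [hn]
  exact Odd.pow (by decide)

omit [Finite W] in
theorem odd_nsmul (two : ∀ v : V, v + v = 0) {n : ℕ} (hn : Odd n) (v : V) : n • v = v := by
  obtain ⟨m, rfl⟩ := hn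
  rw [add_nsmul, one_nsmul, mul_comm, mul_nsmul]
  have : m • v + m • v = 0 := two _
  simp [two_nsmul, two]

theorem proj_self (two : ∀ v : V, v + v = 0) {E B : Subgroup W} [Fintype E] (hE : ElemThree E)
    (hB : IsHyp E B) {v : V} (hv : v ∈ piece (V := V) E B) : proj E B v = v := by
  haveI : Fintype B := Fintype.ofFinite _
  obtain ⟨h1, h2⟩ := hv
  obtain ⟨t, ht, htB, -⟩ := hB.cover
  have h := proj_split E B hB.le v
  rw [sum_eq_zero two E ht (h2 t ht htB), Finset.sum_congr rfl fun (a : B) _ => h1 a a.2,
    Finset.sum_const, Finset.card_univ, ← Nat.card_eq_fintype_card,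
    odd_nsmul two (odd_card hE hB.le)] at h
  calc proj E B v = proj E B v + (v + v) := by rw [two, add_zero]
    _ = (proj E B v + v) + v := by abel
    _ = v := by rw [h, zero_add]

theorem proj_other (two : ∀ v : V, v + v = 0) {E B B' : Subgroup W} [Fintype E] (hE : ElemThree E)
    (hB : IsHyp E B) (hB' : IsHyp E B') (hne : B ≠ B') {v : V} (hv : v ∈ piece (V := V) E B') :
    proj E B v = 0 := by
  haveI : Fintype B := Fintype.ofFinite _
  obtain ⟨t, ht, htB⟩ := SetLike.not_le_iff_exists.mp (IsHyp.not_le hE hB hB' hne)
  have htt := hv.2 t (hB.le ht) htB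
  have h := proj_split E B hB.le v
  rwa [sum_eq_zero two E (hB.le ht) htt, sum_eq_zero two B ht htt, add_zero] at h

/-- the pieces of a finite set of hyperplanes are independent -/
theorem sum_injective (two : ∀ v : V, v + v = 0) {E : Subgroup W} (hE : ElemThree E) {ι : Type*}
    [Fintype ι] (B : ι → Subgroup W) (hB : ∀ i, IsHyp E (B i)) (hinj : Function.Injective B) :
    Function.Injective fun x : (∀ i, piece (V := V) E (B i)) => ∑ i, (x i : V) := by
  haveI : Fintype E := Fintype.ofFinite _
  have key : ∀ (x : ∀ i, piece (V := V) E (B i)) (j : ι),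
      proj E (B j) (∑ i, (x i : V)) = (x j : V) := by
    intro x j
    have hsum : proj E (B j) (∑ i, (x i : V)) = ∑ i, proj E (B j) (x i : V) :=
      map_sum (AddMonoidHom.mk' (proj (V := V) E (B j)) (proj_add E (B j))) _ _
    rw [hsum, Finset.sum_eq_single j (fun i _ hij =>
      proj_other two hE (hB j) (hB i) (fun h => hij (hinj h).symm) (x i).2)
      (fun h => absurd (Finset.mem_univ j) h), proj_self two hE (hB j) (x j).2]
  intro x y hxy
  funext j
  apply Subtype.ext
  rw [← key x j, ← key y j]
  exact congrArg (proj E (B j)) hxy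

/-- every element moving a vector avoids the hyperplane of some non-zero piece -/
theorem exists_hyp (two : ∀ v : V, v + v = 0) {E : Subgroup W} (hE : ElemThree E) {a : W}
    (ha : a ∈ E) {v : V} (hv : a • v ≠ v) :
    ∃ B, IsHyp E B ∧ a ∉ B ∧ ∃ w ∈ piece (V := V) E B, w ≠ 0 := by
  have hneg : ∀ x : V, -x = x := fun x => neg_eq_of_add_eq_zero_left (two x)
  let P : Subgroup W → Prop := fun D =>
    D ≤ E ∧ ∃ w : V, w ≠ 0 ∧ w + a • w + a • a • w = 0 ∧ ∀ d ∈ D, d • w = w
  have hbot : P ⊥ := by
    refine ⟨bot_le, v + a • v, fun h => hv ?_, ?_, fun d hd => by rw [Subgroup.mem_bot.mp hd, one_smul]⟩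
    · rw [eq_neg_of_add_eq_zero_right h, hneg]
    · have h3 : a • a • a • v = v := by rw [smul_smul, smul_smul, hE.cube a ha, one_smul]
      simp only [smul_add]
      rw [h3]
      calc v + a • v + (a • v + a • a • v) + (a • a • v + v)
          = (v + v) + (a • v + a • v) + (a • a • v + a • a • v) := by abel
        _ = 0 := by simp [two]
  obtain ⟨D, ⟨⟨hDE, w, hw0, hwU, hwD⟩, hmax⟩⟩ :=
    Set.Finite.exists_maximal (Set.toFinite {D | P D}) ⟨⊥, hbot⟩
  have haD : a ∉ D := fun h => hw0 (by
    have e := hwD a h
    rw [e, e] at hwU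
    rwa [two, zero_add] at hwU)
  -- the trace of every element outside `D` kills every fixed vector in the kernel
  have htr : ∀ t ∈ E, t ∉ D → ∀ u : V, u + a • u + a • a • u = 0 → (∀ d ∈ D, d • u = u) →
      u + t • u + t • t • u = 0 := by
    intro t ht htD u huU huD
    by_contra hne
    set D' := D ⊔ Subgroup.zpowers t with hD'
    have hP : P D' := by
      refine ⟨sup_le hDE ((Subgroup.zpowers_le).mpr ht), _, hne, ?_, ?_⟩
      · have hc : ∀ x : V, a • t • x = t • a • x := fun x => by
          rw [smul_smul, smul_smul, hE.comm a ha t ht]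
        simp only [smul_add, hc]
        calc u + t • u + t • t • u + (a • u + t • a • u + t • t • a • u) +
              (a • a • u + t • a • a • u + t • t • a • a • u)
            = (u + a • u + a • a • u) + (t • u + t • a • u + t • a • a • u) +
              (t • t • u + t • t • a • u + t • t • a • a • u) := by abel
          _ = 0 := by simp only [← smul_add, huU, smul_zero, add_zero]
      · intro d hd
        have hmem : d ∈ MulAction.stabilizer W (u + t • u + t • t • u) := by
          refine (sup_le ?_ ?_ : D' ≤ _) hd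
          · intro x hx
            have hc : ∀ y : V, x • t • y = t • x • y := fun y => by
              rw [smul_smul, smul_smul, hE.comm x (hDE hx) t ht]
            rw [MulAction.mem_stabilizer_iff]
            simp only [smul_add, hc, huD x hx]
          · rw [Subgroup.zpowers_le, MulAction.mem_stabilizer_iff]
            have h3 : t • t • t • u = u := by rw [smul_smul, smul_smul, hE.cube t ht, one_smul]
            simp only [smul_add, h3]
            abel
        exact hmem
    have hle : D' ≤ D := hmax hP le_sup_left
    exact htD (hle (Subgroup.mem_sup_right (Subgroup.mem_zpowers t)))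
  refine ⟨D, ⟨hDE, a, ha, haD, fun u hu => ?_⟩, haD, w, ⟨hwD, fun t ht htD => htr t ht htD w hwU hwD⟩, hw0⟩
  by_contra hcon
  push Not at hcon
  obtain ⟨hu0, hu1, hu2⟩ := hcon
  have e1 := htr a ha haD w hwU hwD
  have e2 := htr u hu hu0 w hwU hwD
  have e3 := htr (u * a) (mul_mem hu ha) hu1 w hwU hwD
  have e4 := htr (u * a * a) (mul_mem (mul_mem hu ha) ha) hu2 w hwU hwD
  have hau : ∀ x : V, a • u • x = u • a • x := fun x => by
    rw [smul_smul, smul_smul, hE.comm a ha u hu]
  have h3 : ∀ x : V, a • a • a • x = x := fun x => by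
    rw [smul_smul, smul_smul, hE.cube a ha, one_smul]
  simp only [mul_smul, hau, h3] at e3 e4
  -- `(1 + a + a²)(1 + u + u²) = 0` against `1 + a + a² = 1 + u + u² = 0`
  apply hw0
  have hA : a • w + a • a • w = w := by
    calc a • w + a • a • w = (w + w) + (a • w + a • a • w) := by rw [two, zero_add]
      _ = w + (w + a • w + a • a • w) := by abel
      _ = w := by rw [e1, add_zero]
  have hprod : (u • a • w + u • a • a • w) + (u • u • a • w + u • u • a • a • w) = w := by
    have k1 : u • a • w + u • a • a • w = u • w := by rw [← smul_add, hA]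
    have k2 : u • u • a • w + u • u • a • a • w = u • u • w := by rw [← smul_add, ← smul_add, hA]
    rw [k1, k2]
    calc u • w + u • u • w = (w + w) + (u • w + u • u • w) := by rw [two, zero_add]
      _ = w + (w + u • w + u • u • w) := by abel
      _ = w := by rw [e2, add_zero]
  calc w = (u • a • w + u • a • a • w) + (u • u • a • w + u • u • a • a • w) := hprod.symm
    _ = (w + u • a • w + u • u • a • a • w) + (w + u • a • a • w + u • u • a • w) + (w + w) := by
        rw [two, add_zero]
        calc (u • a • w + u • a • a • w) + (u • u • a • w + u • u • a • a • w)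
            = (w + w) + ((u • a • w + u • a • a • w) + (u • u • a • w + u • u • a • a • w)) := by
              rw [two, zero_add]
          _ = _ := by abel
    _ = 0 := by simp [e3, e4, two]

omit [Finite W] in
/-- conjugation carries pieces to pieces -/
theorem smul_mem_piece {E B : Subgroup W} {g : W}
    (hg : ∀ x : W, x ∈ E ↔ g * x * g⁻¹ ∈ E) {v : V} (hv : v ∈ piece (V := V) E B) :
    g • v ∈ piece (V := V) E (B.map (MulAut.conj g).toMonoidHom) := by
  obtain ⟨h1, h2⟩ := hv
  constructor
  · rintro _ ⟨b, hb, rfl⟩
    show (g * b * g⁻¹) • g • v = g • v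
    rw [smul_smul, inv_mul_cancel_right, mul_smul, h1 b hb]
  · intro t ht htB
    have ht' : g⁻¹ * t * g ∈ E := (hg _).mpr (by simpa [mul_assoc] using ht)
    have ht'B : g⁻¹ * t * g ∉ B := fun h => htB ⟨_, h, by simp [mul_assoc]⟩
    have e := congrArg (g • ·) (h2 _ ht' ht'B)
    simpa [smul_add, smul_smul, mul_assoc] using e

end Cfsg.Agent.Lib.LargeFischer13.Pieces
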